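import Mathlib

/-!
Quadratic spaces of dimension six and eight over the field of two elements.
-/

set_option autoImplicit false
set_option maxHeartbeats 2000000
set_option linter.style.longLine false
set_option synthInstance.maxSize 8000
set_option synthInstance.maxHeartbeats 1000000

namespace CfsgLib.CoOneType

abbrev P2 := ZMod 2 × ZMod 2
abbrev W := P2 × (P2 × P2)
abbrev V := P2 × W

/-- The hyperbolic form on a pair. -/
def pB (a b : P2) : ZMod 2 := a.1 * b.2 + a.2 * b.1

/-- The bilinear form on the six-dimensional space. -/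
def BW (a b : W) : ZMod 2 := pB a.1 b.1 + (pB a.2.1 b.2.1 + pB a.2.2 b.2.2)

/-- The quadratic forms on the six-dimensional space (`e = 0` is the hyperbolic one). -/
def qW (e : ZMod 2) (a : W) : ZMod 2 :=
  a.1.1 * a.1.2 + (a.2.1.1 * a.2.1.2 + (a.2.2.1 * a.2.2.2 + e * (a.2.2.1 + a.2.2.2)))

/-- The bilinear form on the eight-dimensional space. -/
def B (a b : V) : ZMod 2 := pB a.1 b.1 + BW a.2 b.2

/-- The quadratic forms on the eight-dimensional space. -/
def qV (e : ZMod 2) (a : V) : ZMod 2 := a.1.1 * a.1.2 + qW e a.2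

/-- The base singular point. -/
def x0 : V := ((1, 0), 0)
/-- Its hyperbolic partner. -/
def f0 : V := ((0, 1), 0)
/-- The residue space inside the big space. -/
def inj (w : W) : V := (0, w)

theorem zcases : ∀ a : ZMod 2, a = 0 ∨ a = 1 := by decide
theorem sq2 : ∀ a : ZMod 2, a * a = a := by decide
theorem eq_one {a : ZMod 2} (h : a ≠ 0) : a = 1 := (zcases a).resolve_left h
theorem eq_of_add : ∀ a b : ZMod 2, a + b = 0 → a = b := by decide

theorem addP (a : P2) : a + a = 0 := by revert a; decide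
theorem addW (a : W) : a + a = 0 := by
  obtain ⟨a, b, c⟩ := a
  simp [addP]
theorem addV (a : V) : a + a = 0 := by
  obtain ⟨a, w⟩ := a
  simp [addP, addW]
theorem negV (a : V) : -a = a := neg_eq_of_add_eq_zero_left (addV a)
theorem negW (a : W) : -a = a := neg_eq_of_add_eq_zero_left (addW a)
theorem eqW {a b : W} (h : a + b = 0) : a = b := (add_eq_zero_iff_eq_neg.1 h).trans (negW b)
theorem eqV {a b : V} (h : a + b = 0) : a = b := (add_eq_zero_iff_eq_neg.1 h).trans (negV b)

theorem BW_add_right (a b c : W) : BW a (b + c) = BW a b + BW a c := by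
  simp only [BW, pB, Prod.fst_add, Prod.snd_add]; ring
theorem BW_add_left (a b c : W) : BW (a + b) c = BW a c + BW b c := by
  simp only [BW, pB, Prod.fst_add, Prod.snd_add]; ring
theorem BW_comm (a b : W) : BW a b = BW b a := by simp only [BW, pB]; ring
theorem B_add_right (a b c : V) : B a (b + c) = B a b + B a c := by
  simp only [B, pB, BW_add_right, Prod.fst_add, Prod.snd_add]; ring
theorem B_comm (a b : V) : B a b = B b a := by simp only [B, pB, BW_comm a.2]; ring
theorem B_add_left (a b c : V) : B (a + b) c = B a c + B b c := by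
  rw [B_comm, B_add_right, B_comm c, B_comm c]

theorem qW_add (e : ZMod 2) (a b : W) : qW e (a + b) = qW e a + qW e b + BW a b := by
  simp only [qW, BW, pB, Prod.fst_add, Prod.snd_add]; ring

theorem qV_add (e : ZMod 2) (a b : V) : qV e (a + b) = qV e a + qV e b + B a b := by
  simp only [qV, B, pB, qW_add, Prod.fst_add, Prod.snd_add]; ring

theorem qW_zero : ∀ e, qW e 0 = 0 := by decide
theorem qV_zero : ∀ e, qV e 0 = 0 := by decide
theorem BW_self (a : W) : BW a a = 0 := by
  simp only [BW, pB]; ring_nf; simp [show (2 : ZMod 2) = 0 from rfl]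
theorem B_self (a : V) : B a a = 0 := by
  simp only [B, pB, BW_self]; ring_nf; simp [show (2 : ZMod 2) = 0 from rfl]
theorem BW_zero_left (a : W) : BW 0 a = 0 := by simp [BW, pB]
theorem BW_zero_right (a : W) : BW a 0 = 0 := by simp [BW, pB]
theorem B_zero_left (a : V) : B 0 a = 0 := by simp [B, pB, BW_zero_left]
theorem B_zero_right (a : V) : B a 0 = 0 := by simp [B, pB, BW_zero_right]
theorem BW_smul_left (t : ZMod 2) (a b : W) : BW (t • a) b = t * BW a b := by
  rcases zcases t with rfl | rfl <;> simp [BW_zero_left]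

theorem inj_add (a b : W) : inj (a + b) = inj a + inj b := Prod.ext (by simp [inj]) rfl
theorem B_inj (a b : W) : B (inj a) (inj b) = BW a b := by simp [B, inj, pB]
theorem qV_inj (e : ZMod 2) (a : W) : qV e (inj a) = qW e a := by simp [qV, inj]
theorem B_x0 (v : V) : B v x0 = v.1.2 := by simp [B, x0, pB, BW_zero_right]

theorem dual (δ : V → ZMod 2) (hδ : ∀ a b, δ (a + b) = δ a + δ b) :
    ∃ w : V, ∀ v, δ v = B v w := by
  let φ : V →+ ZMod 2 := AddMonoidHom.mk' δ hδ
  refine ⟨((φ ((0, 1), 0), φ ((1, 0), 0)), ((φ (0, ((0, 1), 0)), φ (0, ((1, 0), 0))),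
    ((φ (0, (0, ((0, 1), 0))), φ (0, (0, ((1, 0), 0)))), (φ (0, (0, (0, (0, 1)))), φ (0, (0, (0, (1, 0)))))))),
    fun v => ?_⟩
  obtain ⟨⟨a, b⟩, ⟨c, d⟩, ⟨g, h⟩, ⟨i, j⟩⟩ := v
  have key : (((a, b), ((c, d), ((g, h), (i, j)))) : V) =
      a • ((1, 0), 0) + b • ((0, 1), 0) + c • (0, ((1, 0), 0)) + d • (0, ((0, 1), 0)) +
      g • (0, (0, ((1, 0), 0))) + h • (0, (0, ((0, 1), 0))) +
      i • (0, (0, (0, (1, 0)))) + j • (0, (0, (0, (0, 1)))) := by
    ext <;> simp
  have hs : ∀ (t : ZMod 2) (x : V), φ (t • x) = t * φ x := by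
    intro t x
    rcases zcases t with rfl | rfl <;> simp
  show φ _ = _
  conv_lhs => rw [key]
  simp only [map_add, hs, B, BW, pB]
  ring

theorem dualW (δ : W → ZMod 2) (hδ : ∀ a b, δ (a + b) = δ a + δ b) :
    ∃ w : W, ∀ v, δ v = BW w v := by
  obtain ⟨w, hw⟩ := dual (fun v => δ v.2) (fun a b => hδ a.2 b.2)
  refine ⟨w.2, fun v => ?_⟩
  have h := hw (inj v)
  rw [BW_comm]
  simpa [B, inj, pB] using h

/-- A reflection. -/
def refl (a v : V) : V := v + B v a • a

theorem refl_add (a v w : V) : refl a (v + w) = refl a v + refl a w := by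
  simp only [refl, B_add_left, add_smul]; abel

theorem refl_refl (a v : V) : refl a (refl a v) = v := by
  rcases zcases (B v a) with h | h <;> simp [refl, h, B_add_left, B_self, add_assoc, addV]

theorem refl_q (e : ZMod 2) (a v : V) (ha : qV e a = 1 ∨ a = 0) : qV e (refl a v) = qV e v := by
  rcases zcases (B v a) with h | h
  · simp [refl, h]
  · rcases ha with ha | rfl
    · simp only [refl, h, one_smul, qV_add, ha, add_assoc]
      rw [show (1 : ZMod 2) + 1 = 0 by decide, add_zero]
    · simp [refl]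

/-- A reflection of the residue space. -/
def reflW (a w : W) : W := w + BW w a • a

theorem refl_inj (a w : W) : refl (inj a) (inj w) = inj (reflW a w) := by
  simp only [refl, reflW, B_inj]
  rcases zcases (BW w a) with h | h <;> simp [h, inj_add]

theorem refl_inj_x0 (a : W) : refl (inj a) x0 = x0 := by
  simp [refl, B, x0, inj, pB, BW_zero_left]

/-- The translations fixing the base point. -/
def E (u : W) (v : V) : V :=
  ((v.1.1 + BW u v.2 + v.1.2 * qW 0 u, v.1.2), v.2 + v.1.2 • u)

theorem E_add (u : W) (a b : V) : E u (a + b) = E u a + E u b := by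
  simp only [E, BW_add_right, Prod.fst_add, Prod.snd_add, add_smul, Prod.mk_add_mk]
  refine Prod.ext (Prod.ext ?_ rfl) ?_
  · dsimp; ring
  · dsimp; abel

theorem tail_E (u : W) (v : V) : (E u v).2 = v.2 + v.1.2 • u := rfl
theorem E_zero (v : V) : E 0 v = v := by simp [E, BW_zero_left, qW_zero]
theorem E_x0 (u : W) : E u x0 = x0 := by simp [E, x0, BW_zero_right]
theorem E_f0_tail (u : W) : (E u f0).2 = u := by simp [E, f0]

theorem move_eq (u : W) (v : V) :
    E u v + v = ((BW u v.2 + v.1.2 * qW 0 u, 0), v.1.2 • u) := by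
  refine Prod.ext (Prod.ext ?_ (CharTwo.add_self_eq_zero _)) ?_
  · show v.1.1 + BW u v.2 + v.1.2 * qW 0 u + v.1.1 = _
    linear_combination (CharTwo.add_self_eq_zero v.1.1)
  · show v.2 + v.1.2 • u + v.2 = _
    rw [add_comm (v.2), add_assoc, addW, add_zero]

/-- Two additive maps agreeing on a basis agree. -/
theorem ext_basis {f g : V → V} (hf : ∀ a b, f (a + b) = f a + f b) (hg : ∀ a b, g (a + b) = g a + g b)
    (hx : f x0 = g x0) (hf0 : f f0 = g f0) (hw : ∀ w, f (inj w) = g (inj w)) : f = g := by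
  funext v
  let F : V →+ V := AddMonoidHom.mk' f hf
  let H : V →+ V := AddMonoidHom.mk' g hg
  show F v = H v
  obtain ⟨⟨a, b⟩, w⟩ := v
  have key : (((a, b), w) : V) = a • x0 + b • f0 + inj w := by
    rcases zcases a with rfl | rfl <;> rcases zcases b with rfl | rfl <;> simp [x0, f0, inj]
  have hs : ∀ (K : V →+ V) (t : ZMod 2) (x : V), K (t • x) = t • K x := by
    intro K t x
    rcases zcases t with rfl | rfl <;> simp
  rw [key, map_add, map_add, map_add, map_add, hs, hs, hs, hs]
  show a • f x0 + b • f f0 + f (inj w) = a • g x0 + b • g f0 + g (inj w)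
  rw [hx, hf0, hw]

/-- An orthogonal map fixing the base point and trivial on the residue space is a translation. -/
theorem map_eq_E {f : V → V} (hadd : ∀ a b, f (a + b) = f a + f b)
    (hq : ∀ v, qV 0 (f v) = qV 0 v) (hx : f x0 = x0) (hres : ∀ w, (f (inj w)).2 = w) :
    f = E (f f0).2 := by
  have hB : ∀ a b, B (f a) (f b) = B a b := fun a b => by
    have h := hq (a + b)
    rw [hadd, qV_add, qV_add, hq, hq] at h
    exact add_left_cancel h
  have hb : (f f0).1.2 = 1 := by rw [← B_x0, ← hx, hB]; decide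
  have hf : f f0 = E (f f0).2 f0 := by
    have h := hq f0
    simp only [qV, hb, mul_one] at h
    refine Prod.ext (Prod.ext ?_ hb) (E_f0_tail _).symm
    simp [E, f0, BW_zero_right]
    simp [f0, qW_zero] at h
    exact eq_of_add _ _ h
  refine ext_basis hadd (E_add _) (by rw [hx, E_x0]) hf fun w => ?_
  have hb2 : (f (inj w)).1.2 = 0 := by rw [← B_x0, ← hx, hB, B_x0]; rfl
  have hB2 := hB f0 (inj w)
  rw [hf] at hB2
  refine Prod.ext (Prod.ext ?_ ?_) ?_
  · simp [E, inj]
    simp only [B, pB, hb2, hres] at hB2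
    simp [E, f0, inj, BW_zero_right, BW_zero_left] at hB2
    exact eq_of_add _ _ hB2
  · rw [hb2]; simp [E, inj]
  · rw [hres]; simp [E, inj]

/-! ### The chosen vectors -/

/-- The chosen singular line. -/
def A1 : W := ((1, 0), (0, 0))
def A2 : W := ((0, 0), ((1, 0), 0))
/-- Representatives of the plane `L⊥/L`. -/
def H1 : W := ((0, 0), ((0, 0), (1, 0)))
def H2 : W := ((0, 0), ((0, 0), (0, 1)))
/-- The chosen anisotropic pair. -/
def U1 : W := ((1, 1), (0, 0))
def W1 : W := ((1, 0), ((1, 1), 0))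

theorem base_line : qW 0 A1 = 0 ∧ qW 0 A2 = 0 ∧ BW A1 A2 = 0 ∧ A1 ≠ 0 ∧ A2 ≠ 0 ∧ A1 ≠ A2 := by
  decide +kernel

theorem base_pair : qW 0 U1 = 1 ∧ qW 0 W1 = 1 ∧ BW U1 W1 = 1 := by decide +kernel

theorem zero_line (v : V) (h1 : v.1.2 = 0) (h2 : v.2 = 0) : v = 0 ∨ v = x0 := by
  obtain ⟨⟨a, b⟩, w⟩ := v
  obtain rfl : b = 0 := h1
  obtain rfl : w = 0 := h2
  rcases zcases a with rfl | rfl
  exacts [Or.inl rfl, Or.inr rfl]

end CfsgLib.CoOneType
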