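import Mathlib
import Cfsg.Agent.Lib.CoOneType.Model

/-! Finite computations on the quadratic spaces of dimension six and eight. -/

set_option autoImplicit false
set_option maxHeartbeats 2000000
set_option linter.style.longLine false
set_option synthInstance.maxSize 8000
set_option synthInstance.maxHeartbeats 1000000

namespace CfsgLib.CoOneType

/-- Singular vectors other than zero. -/
theorem singular_card : (Finset.univ.filter fun v : V => v ≠ 0 ∧ qV 0 v = 0).card = 135 := by
  decide +kernel

theorem line_count : (Finset.univ.filter fun p : W × W =>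
    qW 0 p.1 = 0 ∧ qW 0 p.2 = 0 ∧ BW p.1 p.2 = 0 ∧ p.1 ≠ 0 ∧ p.2 ≠ 0 ∧ p.1 ≠ p.2).card = 630 := by
  decide +kernel

theorem pair_count : (Finset.univ.filter fun p : W × W =>
    qW 0 p.1 = 1 ∧ qW 0 p.2 = 1 ∧ BW p.1 p.2 = 1).card = 336 := by decide +kernel

theorem exists_B_one : ∀ w : V, w ≠ 0 → ∃ v : V, B v w = 1 := by decide +kernel

theorem q_zero_count : (Finset.univ.filter fun v : V => qV 0 v = 0).card = 136 := by decide +kernel

/-- A nonzero functional vanishes on half of the space. -/
theorem count_perp (w : V) (hw : w ≠ 0) : (Finset.univ.filter fun v : V => B v w = 0).card = 128 := by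
  obtain ⟨v0, h0⟩ := exists_B_one w hw
  have hs := Finset.card_filter_add_card_filter_not (s := (Finset.univ : Finset V)) (fun v : V => B v w = 0)
  have hmap : ∀ v, B v w = 0 ↔ ¬ B (v + v0) w = 0 := fun v => by
    rw [B_add_left, h0]
    rcases zcases (B v w) with h | h <;> rw [h] <;> decide
  have he : (Finset.univ.filter fun v : V => B v w = 0).card =
      (Finset.univ.filter fun v : V => ¬ B v w = 0).card :=
    Finset.card_bij' (fun v _ => v + v0) (fun v _ => v + v0)
      (fun v hv => by simpa using (hmap v).1 (Finset.mem_filter.1 hv).2)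
      (fun v hv => by
        have h := (Finset.mem_filter.1 hv).2
        simp only [Finset.mem_filter, Finset.mem_univ, true_and]
        exact (hmap _).2 (by rwa [add_assoc, addV, add_zero]))
      (fun v _ => by rw [add_assoc, addV, add_zero]) (fun v _ => by rw [add_assoc, addV, add_zero])
  have hV : (Finset.univ : Finset V).card = 256 := by decide +kernel
  omega

theorem count_involutions (w : V) (hw : w ≠ 0) (hq : qV 0 w = 0) :
    (Finset.univ.filter fun v : V => B v w = 0 ∧ qV 0 v = 0).card = 72 := by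
  have h1 := count_perp w hw
  have hV : (Finset.univ : Finset V).card = 256 := by decide +kernel
  have h2 := Finset.card_filter_add_card_filter_not (s := (Finset.univ : Finset V)) (fun v : V => B v w = 0)
  have h3 := Finset.card_filter_add_card_filter_not (s := Finset.univ.filter fun v : V => qV 0 v = 0)
    (fun v : V => B v w = 0)
  have h4 := Finset.card_filter_add_card_filter_not (s := Finset.univ.filter fun v : V => ¬ B v w = 0)
    (fun v : V => qV 0 v = 0)
  simp only [Finset.filter_filter, q_zero_count] at h3 h4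
  have hmap : ∀ v, ¬ B v w = 0 → (qV 0 v = 0 ↔ ¬ qV 0 (v + w) = 0) ∧ ¬ B (v + w) w = 0 := fun v hv => by
    rw [qV_add, hq, B_add_left, B_self, add_zero, add_zero]
    rcases zcases (B v w) with h | h
    · exact absurd h hv
    · rw [h]; rcases zcases (qV 0 v) with k | k <;> rw [k] <;> decide
  have he : (Finset.univ.filter fun v : V => ¬ B v w = 0 ∧ qV 0 v = 0).card =
      (Finset.univ.filter fun v : V => ¬ B v w = 0 ∧ ¬ qV 0 v = 0).card :=
    Finset.card_bij' (fun v _ => v + w) (fun v _ => v + w)
      (fun v hv => by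
        obtain ⟨a, b⟩ := (Finset.mem_filter.1 hv).2
        simpa using And.intro (hmap v a).2 ((hmap v a).1.1 b))
      (fun v hv => by
        obtain ⟨a, b⟩ := (Finset.mem_filter.1 hv).2
        simp only [Finset.mem_filter, Finset.mem_univ, true_and]
        refine ⟨(hmap v a).2, ((hmap _ (hmap v a).2).1).2 ?_⟩
        rwa [add_assoc, addV, add_zero])
      (fun v _ => by rw [add_assoc, addV, add_zero]) (fun v _ => by rw [add_assoc, addV, add_zero])
  have e1 : (Finset.univ.filter fun v : V => qV 0 v = 0 ∧ ¬ B v w = 0) =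
      Finset.univ.filter fun v : V => ¬ B v w = 0 ∧ qV 0 v = 0 := Finset.filter_congr fun v _ => and_comm
  have e2 : (Finset.univ.filter fun v : V => qV 0 v = 0 ∧ B v w = 0) =
      Finset.univ.filter fun v : V => B v w = 0 ∧ qV 0 v = 0 := Finset.filter_congr fun v _ => and_comm
  rw [e1, e2] at h3
  omega

theorem tail_count : (Finset.univ.filter fun v : V => v.1.2 = 0 ∧ v.2 = 0).card = 2 := by decide +kernel

theorem zero_count : (Finset.univ.filter fun w : W => qW 0 w = 0).card = 36 := by decide +kernel

theorem singW_count : (Finset.univ.filter fun w : W => w ≠ 0 ∧ qW 0 w = 0).card = 35 := by decide +kernel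

theorem nsW_count : (Finset.univ.filter fun w : W => qW 0 w = 1).card = 28 := by decide +kernel

theorem partner : ∀ a : W, a ≠ 0 → ∃ v : W, BW a v = 1 := by decide +kernel

/-- An intermediate point. -/
theorem mid : ∀ v : V, v ≠ 0 → qV 0 v = 0 → B v x0 = 0 →
    ∃ p : V, qV 0 p = 0 ∧ B v p = 1 ∧ B p x0 = 1 := by decide +kernel

/-- Two reflections carry a singular vector of the residue space to `A1`. -/
theorem moveW_first : ∀ u : W, u ≠ 0 → qW 0 u = 0 →
    ∃ a : W, qW 0 a = 1 ∧ ∃ b : W, qW 0 b = 1 ∧ reflW a (reflW b u) = A1 := by decide +kernel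

theorem moveW_second : ∀ w : W, qW 0 w = 0 → BW A1 w = 0 → w ≠ 0 → w ≠ A1 →
    ∃ a : W, (qW 0 a = 1 ∧ BW a A1 = 0) ∧ ∃ b : W, (qW 0 b = 1 ∧ BW b A1 = 0) ∧
      reflW a (reflW b w) = A2 := by decide +kernel

theorem moveW_pair_first : ∀ u : W, qW 0 u = 1 →
    ∃ a : W, qW 0 a = 1 ∧ ∃ b : W, qW 0 b = 1 ∧ reflW a (reflW b u) = U1 := by decide +kernel

theorem moveW_pair_second : ∀ w : W, qW 0 w = 1 → BW U1 w = 1 →
    ∃ a : W, (qW 0 a = 1 ∧ BW a U1 = 0) ∧ ∃ b : W, (qW 0 b = 1 ∧ BW b U1 = 0) ∧
      reflW a (reflW b w) = W1 := by decide +kernel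

theorem BW_nondeg {a b : W} (h : ∀ v, BW a v = BW b v) : a = b := by
  refine eqW ?_
  by_contra hne
  obtain ⟨v, hv⟩ := partner _ hne
  rw [BW_add_left, h, CharTwo.add_self_eq_zero] at hv
  exact zero_ne_one hv

/-- Two reflections carry a singular point to the base point. -/
theorem pair_move {v : V} (hv : v ≠ 0) (hq : qV 0 v = 0) :
    ∃ a b : V, qV 0 a = 1 ∧ qV 0 b = 1 ∧ refl a (refl b v) = x0 := by
  rcases zcases (B v x0) with h | h
  · obtain ⟨p, hp, h1, h2⟩ := mid v hv hq h
    refine ⟨p + x0, v + p, ?_, ?_, ?_⟩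
    · rw [qV_add, hp, h2]; decide
    · rw [qV_add, hq, hp, h1]; decide
    · have e1 : refl (v + p) v = p := by
        simp [refl, B_add_right, B_self, h1, ← add_assoc, addV]
      have e2 : refl (p + x0) p = x0 := by
        simp [refl, B_add_right, B_self, h2, ← add_assoc, addV]
      rw [e1, e2]
  · refine ⟨inj U1, v + x0, by decide, ?_, ?_⟩
    · rw [qV_add, hq, h]; decide
    · have e1 : refl (v + x0) v = x0 := by simp [refl, B_add_right, B_self, h, ← add_assoc, addV]
      rw [e1, refl_inj_x0]


end CfsgLib.CoOneType
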