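import Mathlib
import Cfsg.Agent.Lib.CoOneType.Model
import Cfsg.Agent.Lib.LargeExtra.Extra
import Cfsg.Agent.Lib.PGroup.ExtraModel
import Cfsg.Agent.Lib.PGroup.ExtraspecialIso

/-!
An involution centralizer with a self-centralizing extraspecial subgroup of order 512: quadratic coordinates
on the extraspecial subgroup and the action of the centralizer on them.
-/

set_option autoImplicit false
set_option linter.style.longLine false

namespace CfsgLib.CoOneType

open Subgroup

variable {G : Type*} [Group G] [Finite G]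

/-- The hypotheses on `C(z)`. -/
structure Hyp (z : G) (Q : Subgroup G) : Prop where
  hz : orderOf z = 2
  hQC : Q ≤ centralizer ({z} : Set G)
  norm : ∀ c : G, c * z = z * c → ∀ y ∈ Q, c * y * c⁻¹ ∈ Q
  card : Nat.card Q = 512
  extra : CfsgLib.LargeExtra.ExtraAt Q z
  self : ∀ c : G, c * z = z * c → (∀ y ∈ Q, y * c = c * y) → c ∈ Q
  cardC : Nat.card (centralizer ({z} : Set G)) = 512 * 174182400
  moved : ∃ g : G, g * z * g⁻¹ ∈ Q ∧ g * z * g⁻¹ ≠ z

/-- Coordinates on `Q/⟨z⟩` with the squaring form. -/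
structure Coord (z : G) (Q : Subgroup G) (e : ZMod 2) where
  vec : G → V
  mul : ∀ {x y : G}, x ∈ Q → y ∈ Q → vec (x * y) = vec x + vec y
  zero_iff : ∀ {x : G}, x ∈ Q → (vec x = 0 ↔ x = 1 ∨ x = z)
  surj : ∀ v, ∃ x ∈ Q, vec x = v
  sq : ∀ {x : G}, x ∈ Q → x * x = if qV e (vec x) = 0 then 1 else z
  conj : ∀ {x y : G}, x ∈ Q → y ∈ Q → y * x * y⁻¹ = if B (vec x) (vec y) = 0 then x else z * x

theorem Hyp.exists_coord {z : G} {Q : Subgroup G} (H : Hyp z Q) : ∃ e : ZMod 2, Nonempty (Coord z Q e) := by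
  classical
  have : Fact (Nat.Prime 2) := ⟨Nat.prime_two⟩
  let εe : ZMod 2 → Fin 4 → ZMod 2 := fun e => ![0, 0, 0, e]
  suffices h : ∃ e, Nonempty (↥Q ≃* CfsgLib.ExtraModel.Ext (εe e)) by
    obtain ⟨e, ⟨φ⟩⟩ := h
    let toV : CfsgLib.ExtraModel.Vec 4 → V := fun v => (v 0, (v 1, (v 2, v 3)))
    have tadd : ∀ a b, toV (a + b) = toV a + toV b := fun a b => rfl
    have tinj : Function.Injective toV := by
      intro a b h
      simp only [toV, Prod.mk.injEq] at h
      funext i
      fin_cases i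
      exacts [h.1, h.2.1, h.2.2.1, h.2.2.2]
    have hq : ∀ v, CfsgLib.ExtraModel.beta (εe e) v v = qV e (toV v) := by
      intro v
      simp only [CfsgLib.ExtraModel.beta, CfsgLib.ExtraModel.pairB, Fin.sum_univ_four, qV, qW, toV, εe]
      simp [sq2]
      ring
    have hB : ∀ a b, CfsgLib.ExtraModel.beta (εe e) a b + CfsgLib.ExtraModel.beta (εe e) b a =
        B (toV a) (toV b) := by
      intro a b
      have h1 := qV_add e (toV a) (toV b)
      rw [← tadd, ← hq, ← hq, ← hq, CfsgLib.ExtraModel.beta_add_left, CfsgLib.ExtraModel.beta_add_right,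
        CfsgLib.ExtraModel.beta_add_right] at h1
      linear_combination h1
    let vec : G → V := fun x => if hx : x ∈ Q then toV (φ ⟨x, hx⟩).vec else 0
    have hvec : ∀ {x : G} (hx : x ∈ Q), vec x = toV (φ ⟨x, hx⟩).vec := fun hx => dif_pos hx
    refine ⟨e, ⟨{ vec := vec, mul := ?_, zero_iff := ?_, surj := ?_, sq := ?_, conj := ?_ }⟩⟩
    · intro x y hx hy
      rw [hvec hx, hvec hy, hvec (mul_mem hx hy)]
      exact congrArg (fun a => toV a.vec) (map_mul φ ⟨x, hx⟩ ⟨y, hy⟩)
    · intro x hx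
      rw [hvec hx]
      have h0 : (φ ⟨x, hx⟩).vec = 0 ↔ (⟨x, hx⟩ : Q) ∈ center Q := by
        rw [← CfsgLib.ExtraModel.mem_center_iff, mem_center_iff, mem_center_iff]
        constructor
        · exact fun h y => φ.injective (by rw [map_mul, map_mul]; exact h (φ y))
        · intro h y
          obtain ⟨y, rfl⟩ := φ.surjective y
          rw [← map_mul, h, map_mul]
      constructor
      · intro h
        exact H.extra.central_cases hx fun q hq => congrArg Subtype.val
          (mem_center_iff.1 (h0.1 (tinj h)) ⟨q, hq⟩)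
      · intro h
        have hc : (⟨x, hx⟩ : Q) ∈ center Q := by
          rw [mem_center_iff]
          intro y
          refine Subtype.ext ?_
          show (y : G) * x = x * y
          rcases h with rfl | rfl
          · rw [mul_one, one_mul]
          · exact H.extra.comm_z y.2
        rw [h0.2 hc]; rfl
    · intro v
      refine ⟨(φ.symm ⟨![v.1, v.2.1, v.2.2.1, v.2.2.2], 0⟩ : Q), Subtype.prop _, ?_⟩
      rw [hvec (Subtype.prop _), Subtype.coe_eta, MulEquiv.apply_symm_apply]
      rfl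
    · intro x hx
      have h2 := congrArg (fun a => a) (CfsgLib.ExtraModel.sq_eq (φ ⟨x, hx⟩))
      rw [pow_two, ← map_mul, hq] at h2
      rw [hvec hx]
      split_ifs with h
      · rw [h, ← CfsgLib.ExtraModel.one_def, map_eq_one_iff φ φ.injective] at h2
        exact congrArg Subtype.val h2
      · refine (H.extra.sq_cases hx).resolve_left fun h1 => h ?_
        rw [show (⟨x, hx⟩ * ⟨x, hx⟩ : Q) = 1 from Subtype.ext h1, map_one] at h2
        exact (congrArg CfsgLib.ExtraModel.Ext.bit h2).symm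
    · intro x y hx hy
      rw [hvec hx, hvec hy, ← hB]
      have key : y * x * y⁻¹ = x ↔ φ ⟨y, hy⟩ * φ ⟨x, hx⟩ = φ ⟨x, hx⟩ * φ ⟨y, hy⟩ := by
        rw [← map_mul, ← map_mul, φ.injective.eq_iff, Subtype.ext_iff, mul_inv_eq_iff_eq_mul]
        rfl
      split_ifs with h
      · refine key.2 (CfsgLib.ExtraModel.Ext.ext (add_comm _ _) ?_)
        rw [CfsgLib.ExtraModel.mul_bit, CfsgLib.ExtraModel.mul_bit]
        have h' : CfsgLib.ExtraModel.beta (εe e) (φ ⟨x, hx⟩).vec (φ ⟨y, hy⟩).vec =
            CfsgLib.ExtraModel.beta (εe e) (φ ⟨y, hy⟩).vec (φ ⟨x, hx⟩).vec := CharTwo.add_eq_zero.mp h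
        rw [h']; ring
      · refine (H.extra.conj_cases hy hx).resolve_left fun h1 => h ?_
        have h2 := congrArg CfsgLib.ExtraModel.Ext.bit (key.1 h1)
        rw [CfsgLib.ExtraModel.mul_bit, CfsgLib.ExtraModel.mul_bit] at h2
        have : CfsgLib.ExtraModel.beta (εe e) (φ ⟨x, hx⟩).vec (φ ⟨y, hy⟩).vec =
            CfsgLib.ExtraModel.beta (εe e) (φ ⟨y, hy⟩).vec (φ ⟨x, hx⟩).vec := by linear_combination -h2
        rw [this]; exact CharTwo.add_self_eq_zero _
  obtain ⟨c, hc, hc1⟩ := CfsgLib.ExtraIso.exists_center_ne_one H.extra.extra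
  obtain ⟨c₀, hc₀, hc₀1⟩ := CfsgLib.ExtraIso.exists_center_ne_one
    (CfsgLib.ExtraModel.isExtraspecial (ε := εe 0) (by norm_num))
  obtain ⟨c₁, hc₁, hc₁1⟩ := CfsgLib.ExtraIso.exists_center_ne_one
    (CfsgLib.ExtraModel.isExtraspecial (ε := εe 1) (by norm_num))
  have : ∀ e, Finite (CfsgLib.ExtraModel.Ext (εe e)) := fun e => Finite.of_equiv _ CfsgLib.ExtraModel.equivProd.symm
  have hcard : ∀ e, Nat.card (⊤ : Subgroup (CfsgLib.ExtraModel.Ext (εe e))) = 512 := fun e => by
    rw [card_top, CfsgLib.ExtraModel.card_ext]; norm_num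
  rcases CfsgLib.ExtraIso.graphIso_two H.extra.extra
    (CfsgLib.ExtraModel.isExtraspecial (ε := εe 0) (by norm_num))
    (CfsgLib.ExtraModel.isExtraspecial (ε := εe 1) (by norm_num))
    hc hc1 hc₀ hc₀1 hc₁ hc₁1 512 ⊤ ⊤ ⊤ CfsgLib.ExtraIso.good_top CfsgLib.ExtraIso.good_top
    CfsgLib.ExtraIso.good_top (by rw [card_top, H.card]) (hcard 0) (hcard 1) with h | h | h
  · exact ⟨0, h.toMulEquiv⟩
  · exfalso
    obtain ⟨ψ⟩ := h.toMulEquiv
    have h4 : Nat.card {a : CfsgLib.ExtraModel.Ext (εe 0) // orderOf a = 4} =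
        Nat.card {a : CfsgLib.ExtraModel.Ext (εe 1) // orderOf a = 4} :=
      Nat.card_congr (ψ.toEquiv.subtypeEquiv fun a => by rw [← MulEquiv.orderOf_eq ψ a]; rfl)
    have h0 := CfsgLib.ExtraModel.card_orderOf_four (ε := εe 0)
    have h1 := CfsgLib.ExtraModel.card_orderOf_four (ε := εe 1)
    rw [h4, h1] at h0
    simp [εe, Fin.prod_univ_four] at h0
  · exact ⟨1, h.toMulEquiv⟩

namespace Coord

variable {z : G} {Q : Subgroup G} {e : ZMod 2} (K : Coord z Q e) (H : Hyp z Q)
include H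

theorem zQ : z ∈ Q := H.extra.z_mem
theorem zz : z * z = 1 := H.extra.sq_one
theorem z_inv : z⁻¹ = z := H.extra.inv_eq

omit H in
theorem vec_one : K.vec 1 = 0 := (K.zero_iff (one_mem Q)).2 (Or.inl rfl)

theorem vec_z : K.vec z = 0 := (K.zero_iff (zQ H)).2 (Or.inr rfl)

omit H in
theorem vec_inv {x : G} (hx : x ∈ Q) : K.vec x⁻¹ = K.vec x := by
  have := K.mul hx (inv_mem hx)
  rw [mul_inv_cancel, K.vec_one] at this
  exact (add_eq_zero_iff_eq_neg.mp ((add_comm _ _).trans this.symm)).trans (negV _)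

theorem eq_or {x y : G} (hx : x ∈ Q) (hy : y ∈ Q) (h : K.vec x = K.vec y) : x = y ∨ x = z * y := by
  have h0 : K.vec (x * y⁻¹) = 0 := by rw [K.mul hx (inv_mem hy), K.vec_inv hy, h, addV]
  rcases (K.zero_iff (mul_mem hx (inv_mem hy))).1 h0 with h' | h'
  · exact Or.inl (mul_inv_eq_one.1 h')
  · exact Or.inr (mul_inv_eq_iff_eq_mul.1 h')

theorem eq_of_sq {x y : G} (hx : x ∈ Q) (hy : y ∈ Q) (h : K.vec x = K.vec y) : x * x = y * y := by
  rw [K.sq hx, K.sq hy, h]

omit H in
theorem invol_iff (hne : z ≠ 1) {x : G} (hx : x ∈ Q) : x * x = 1 ↔ qV e (K.vec x) = 0 := by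
  rw [K.sq hx]; split_ifs with h <;> simp [h, hne]

omit H in
theorem comm_iff (hne : z ≠ 1) {x y : G} (hx : x ∈ Q) (hy : y ∈ Q) :
    x * y = y * x ↔ B (K.vec x) (K.vec y) = 0 := by
  have := K.conj hx hy
  split_ifs at this with h
  · exact ⟨fun _ => h, fun _ => (mul_inv_eq_iff_eq_mul.1 this).symm⟩
  · refine ⟨fun hc => ?_, fun hc => absurd hc h⟩
    rw [← hc, mul_inv_cancel_right] at this
    exact absurd (right_eq_mul.mp this) hne

/-- A lift of a vector. -/
noncomputable def lift (v : V) : G := Classical.choose (K.surj v)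

omit H in
theorem lift_mem (v : V) : K.lift v ∈ Q := (Classical.choose_spec (K.surj v)).1
omit H in
theorem vec_lift (v : V) : K.vec (K.lift v) = v := (Classical.choose_spec (K.surj v)).2

/-- The action of `C(z)` on the coordinates. -/
noncomputable def act (c : G) (v : V) : V := K.vec (c * K.lift v * c⁻¹)

theorem act_vec {c x : G} (hc : c * z = z * c) (hx : x ∈ Q) : K.act c (K.vec x) = K.vec (c * x * c⁻¹) := by
  rcases K.eq_or H (K.lift_mem _) hx (K.vec_lift (K.vec x)) with h | h
  · rw [act, h]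
  · rw [act, h, show c * (z * x) * c⁻¹ = z * (c * x * c⁻¹) by rw [← mul_assoc c z x, hc]; group,
      K.mul (zQ H) (H.norm c hc x hx), K.vec_z H, zero_add]

theorem act_add {c : G} (hc : c * z = z * c) (a b : V) : K.act c (a + b) = K.act c a + K.act c b := by
  conv_lhs => rw [← K.vec_lift a, ← K.vec_lift b, ← K.mul (K.lift_mem a) (K.lift_mem b)]
  rw [K.act_vec H hc (mul_mem (K.lift_mem a) (K.lift_mem b)), act, act,
    ← K.mul (H.norm c hc _ (K.lift_mem a)) (H.norm c hc _ (K.lift_mem b))]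
  congr 1
  group

theorem act_zero {c : G} (hc : c * z = z * c) : K.act c 0 = 0 := by
  have := K.act_add H hc 0 0
  rw [add_zero] at this
  exact left_eq_add.mp this

theorem act_mul {c d : G} (hc : c * z = z * c) (hd : d * z = z * d) (v : V) :
    K.act (c * d) v = K.act c (K.act d v) := by
  rw [show K.act d v = K.vec (d * K.lift v * d⁻¹) from rfl, K.act_vec H hc (H.norm d hd _ (K.lift_mem v)), act]
  congr 1
  group

theorem act_mem {x : G} (hx : x ∈ Q) (v : V) : K.act x v = v := by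
  rw [act, K.conj (K.lift_mem v) hx]
  split_ifs
  · exact K.vec_lift v
  · rw [K.mul (zQ H) (K.lift_mem v), K.vec_z H, zero_add, K.vec_lift]

theorem act_one (v : V) : K.act 1 v = v := K.act_mem H (one_mem Q) v

theorem act_q {c : G} (hc : c * z = z * c) (v : V) : qV e (K.act c v) = qV e v := by
  have hne := H.extra.ne_one
  have h1 := K.invol_iff hne (H.norm c hc _ (K.lift_mem v))
  have h2 := K.invol_iff hne (K.lift_mem v)
  rw [K.vec_lift] at h2
  have h3 : c * K.lift v * c⁻¹ * (c * K.lift v * c⁻¹) = 1 ↔ K.lift v * K.lift v = 1 := by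
    rw [show c * K.lift v * c⁻¹ * (c * K.lift v * c⁻¹) = c * (K.lift v * K.lift v) * c⁻¹ by group,
      conj_eq_one_iff]
  have h4 : qV e (K.act c v) = 0 ↔ qV e v = 0 := h1.symm.trans (h3.trans h2)
  rcases zcases (qV e (K.act c v)) with a | a <;> rcases zcases (qV e v) with b | b <;>
    simp_all

theorem act_B {c : G} (hc : c * z = z * c) (a b : V) : B (K.act c a) (K.act c b) = B a b := by
  have h := K.act_q H hc (a + b)
  rw [K.act_add H hc, qV_add, qV_add, K.act_q H hc, K.act_q H hc] at h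
  exact add_left_cancel h

theorem act_inv_cancel {c : G} (hc : c * z = z * c) (v : V) : K.act c⁻¹ (K.act c v) = v := by
  have hc' : c⁻¹ * z = z * c⁻¹ := (Commute.inv_left hc).eq
  rw [← K.act_mul H hc' hc, inv_mul_cancel, K.act_one H]

theorem act_injective {c : G} (hc : c * z = z * c) : Function.Injective (K.act c) :=
  Function.LeftInverse.injective (K.act_inv_cancel H hc)

/-- An element acting trivially lies in `Q`. -/
theorem mem_of_act {c : G} (hc : c * z = z * c) (h : ∀ v, K.act c v = v) : c ∈ Q := by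
  classical
  have hne := H.extra.ne_one
  let δ : V → ZMod 2 := fun v => if c * K.lift v * c⁻¹ = K.lift v then 0 else 1
  have hδ : ∀ {x : G}, x ∈ Q → c * x * c⁻¹ = if δ (K.vec x) = 0 then x else z * x := by
    intro x hx
    have hv : K.vec (c * x * c⁻¹) = K.vec x := by rw [← K.act_vec H hc hx, h]
    rcases K.eq_or H (K.lift_mem _) hx (K.vec_lift (K.vec x)) with hl | hl
    · rcases K.eq_or H (H.norm c hc x hx) hx hv with h1 | h1
      · rw [h1, if_pos]; simp [δ, hl, h1]
      · rw [h1, if_neg]; simp [δ, hl, h1, hne]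
    · rcases K.eq_or H (H.norm c hc x hx) hx hv with h1 | h1
      · rw [h1, if_pos]
        simp only [δ, hl, show c * (z * x) * c⁻¹ = z * (c * x * c⁻¹) by rw [← mul_assoc c z x, hc]; group, h1]
        simp
      · rw [h1, if_neg]
        simp only [δ, hl, show c * (z * x) * c⁻¹ = z * (c * x * c⁻¹) by rw [← mul_assoc c z x, hc]; group, h1]
        simp [hne]
  have hadd : ∀ a b, δ (a + b) = δ a + δ b := by
    intro a b
    have e1 := hδ (K.lift_mem a)
    have e2 := hδ (K.lift_mem b)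
    have e3 := hδ (mul_mem (K.lift_mem a) (K.lift_mem b))
    rw [K.vec_lift] at e1 e2
    rw [K.mul (K.lift_mem a) (K.lift_mem b), K.vec_lift, K.vec_lift,
      show c * (K.lift a * K.lift b) * c⁻¹ = (c * K.lift a * c⁻¹) * (c * K.lift b * c⁻¹) by group,
      e1, e2] at e3
    have hzc : ∀ y ∈ Q, y * z = z * y := fun y hy => H.extra.comm_z hy
    have hza := hzc _ (K.lift_mem a)
    rcases zcases (δ a) with ha | ha <;> rcases zcases (δ b) with hb | hb <;>
      rcases zcases (δ (a + b)) with hab | hab <;>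
      simp only [ha, hb, hab, if_true, one_ne_zero, if_false, mul_assoc, zero_add, add_zero,
        show (1 : ZMod 2) + 1 = 0 from rfl] at e3 ⊢
    all_goals exfalso
    all_goals (apply hne)
    all_goals simp only [← mul_assoc, hza] at e3
    all_goals simp [mul_assoc, zz H, hne] at e3 ⊢
  obtain ⟨w, hw⟩ := dual δ hadd
  have hmem : (K.lift w)⁻¹ * c ∈ Q := by
    refine H.self _ ?_ fun y hy => ?_
    · rw [mul_assoc, hc, ← mul_assoc, ← mul_assoc, (Commute.inv_left (H.extra.comm_z (K.lift_mem w))).eq]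
    · have h1 := hδ hy
      rw [hw] at h1
      have h2 := K.conj hy (K.lift_mem w)
      rw [K.vec_lift] at h2
      have h3 : c * y * c⁻¹ = K.lift w * y * (K.lift w)⁻¹ := h1.trans h2.symm
      have h4 : (K.lift w)⁻¹ * c * y = y * ((K.lift w)⁻¹ * c) := by
        calc (K.lift w)⁻¹ * c * y = (K.lift w)⁻¹ * (c * y * c⁻¹) * c := by group
          _ = y * ((K.lift w)⁻¹ * c) := by rw [h3]; group
      exact h4.symm
  simpa using mul_mem (K.lift_mem w) hmem

theorem act_lift {c : G} (hc : c * z = z * c) (v : V) : K.vec (c * K.lift v * c⁻¹) = K.act c v := rfl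

end Coord

end CfsgLib.CoOneType
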