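import Mathlib
import Cfsg.Agent.Lib.CoOneType.Coord
import Cfsg.Agent.Lib.CoOneType.Finite
import Cfsg.Agent.Lib.Orth.CharTwo
import Cfsg.Agent.Lib.Orth.NegOne
import Cfsg.Agent.Lib.ClassicalGroups.OrthCard

/-!
The centralizer acts on the coordinates as a subgroup of index two of the orthogonal group of plus type; so it
induces every product of two reflections and no reflection.
-/

set_option autoImplicit false
set_option linter.style.longLine false

namespace CfsgLib.CoOneType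

open Subgroup QuadraticMap

variable {G : Type*} [Group G] [Finite G] {z : G} {Q : Subgroup G}

/-- The centralizer of a point. -/
abbrev Cz (z : G) : Subgroup G := centralizer ({z} : Set G)

theorem Hyp.comm {c : ↥(Cz z)} : (c : G) * z = z * c :=
  mem_centralizer_singleton_iff.1 c.2

namespace Coord

variable {e : ZMod 2} (K : Coord z Q e) (H : Hyp z Q) {ι : Type} [Fintype ι] [DecidableEq ι]
  {Qi : QuadraticForm (ZMod 2) (ι → ZMod 2)}

/-- The linear map induced by an element. -/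
noncomputable def lin (T : V ≃ₗ[ZMod 2] (ι → ZMod 2)) (c : ↥(Cz z)) : (ι → ZMod 2) →ₗ[ZMod 2] (ι → ZMod 2) :=
  (AddMonoidHom.mk' (fun y => T (K.act (c : G) (T.symm y))) fun a b => by
    rw [map_add, K.act_add H Hyp.comm, map_add]).toZModLinearMap 2

theorem lin_apply (T : V ≃ₗ[ZMod 2] (ι → ZMod 2)) (c : ↥(Cz z)) (y : ι → ZMod 2) :
    K.lin H T c y = T (K.act (c : G) (T.symm y)) := rfl

theorem lin_comp (T : V ≃ₗ[ZMod 2] (ι → ZMod 2)) (c : ↥(Cz z)) :
    (K.lin H T c).comp (K.lin H T c⁻¹) = LinearMap.id := by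
  refine LinearMap.ext fun y => ?_
  rw [LinearMap.comp_apply, K.lin_apply H, K.lin_apply H, LinearEquiv.symm_apply_apply,
    ← K.act_mul H Hyp.comm Hyp.comm, ← Subgroup.coe_mul, mul_inv_cancel, Subgroup.coe_one, K.act_one H,
    LinearEquiv.apply_symm_apply]
  rfl

/-- The representation in the orthogonal group. -/
noncomputable def toO (T : V ≃ₗ[ZMod 2] (ι → ZMod 2)) (hT : ∀ v, Qi (T v) = qV e v) :
    ↥(Cz z) →* CfsgLib.Orth.O Qi where
  toFun c := CfsgLib.Orth.mkO (K.lin H T c) (K.lin H T c⁻¹) (K.lin_comp H T c)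
    (by simpa using K.lin_comp H T c⁻¹) fun y => by
      rw [K.lin_apply H, hT, K.act_q H Hyp.comm, ← hT, LinearEquiv.apply_symm_apply]
  map_one' := CfsgLib.Orth.ext_app fun y => by
    rw [CfsgLib.Orth.app_mkO, CfsgLib.Orth.app_one, K.lin_apply H, Subgroup.coe_one, K.act_one H,
      LinearEquiv.apply_symm_apply]
  map_mul' c d := CfsgLib.Orth.ext_app fun y => by
    rw [CfsgLib.Orth.app_mkO, CfsgLib.Orth.app_mul, CfsgLib.Orth.app_mkO, CfsgLib.Orth.app_mkO,
      K.lin_apply H, K.lin_apply H, K.lin_apply H, LinearEquiv.symm_apply_apply, Subgroup.coe_mul,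
      K.act_mul H Hyp.comm Hyp.comm]

theorem app_toO (T : V ≃ₗ[ZMod 2] (ι → ZMod 2)) (hT : ∀ v, Qi (T v) = qV e v) (c : ↥(Cz z)) (v : V) :
    CfsgLib.Orth.app (K.toO H T hT c) (T v) = T (K.act (c : G) v) := by
  simp only [toO, MonoidHom.coe_mk, OneHom.coe_mk]
  rw [CfsgLib.Orth.app_mkO, K.lin_apply H, LinearEquiv.symm_apply_apply]

include H

theorem card_toO (T : V ≃ₗ[ZMod 2] (ι → ZMod 2)) (hT : ∀ v, Qi (T v) = qV e v) :
    Nat.card (K.toO H T hT).range = 174182400 := by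
  have hker : Nat.card (K.toO H T hT).ker = 512 := by
    rw [← H.card]
    refine Nat.card_congr ⟨fun c => ⟨((c : ↥(Cz z)) : G), K.mem_of_act H Hyp.comm fun v => ?_⟩,
      fun x => ⟨⟨x.1, H.hQC x.2⟩, MonoidHom.mem_ker.2 (CfsgLib.Orth.ext_app fun y => ?_)⟩,
      fun c => rfl, fun x => rfl⟩
    · have h := K.app_toO H T hT c.1 v
      rw [MonoidHom.mem_ker.1 c.2, CfsgLib.Orth.app_one] at h
      exact T.injective h.symm
    · rw [← T.apply_symm_apply y, K.app_toO H T hT, K.act_mem H x.2, CfsgLib.Orth.app_one]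
  have h := Subgroup.card_eq_card_quotient_mul_card_subgroup (K.toO H T hT).ker
  rw [H.cardC, hker, Nat.card_congr (QuotientGroup.quotientKerEquivRange (K.toO H T hT)).toEquiv] at h
  omega

end Coord

/-- Coordinates for the hyperbolic form. -/
def plusEquiv : V ≃ₗ[ZMod 2] (Fin 4 ⊕ Fin 4 → ZMod 2) where
  toFun v := Sum.elim ![v.1.1, v.2.1.1, v.2.2.1.1, v.2.2.2.1] ![v.1.2, v.2.1.2, v.2.2.1.2, v.2.2.2.2]
  invFun y := ((y (.inl 0), y (.inr 0)), ((y (.inl 1), y (.inr 1)), ((y (.inl 2), y (.inr 2)), (y (.inl 3), y (.inr 3)))))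
  map_add' a b := by
    funext i; rcases i with i | i <;> fin_cases i <;> rfl
  map_smul' t a := by
    funext i; rcases i with i | i <;> fin_cases i <;> rfl
  left_inv v := rfl
  right_inv y := by
    funext i; rcases i with i | i <;> fin_cases i <;> rfl

theorem plusEquiv_q (v : V) : CfsgLib.Orth.plusQ 4 (ZMod 2) (plusEquiv v) = qV 0 v := by
  rw [CfsgLib.Orth.plusQ_coe]
  show Cfsg.quadFormPlus 4 (ZMod 2)
    (Sum.elim ![v.1.1, v.2.1.1, v.2.2.1.1, v.2.2.2.1] ![v.1.2, v.2.1.2, v.2.2.1.2, v.2.2.2.2]) = _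
  simp [Cfsg.quadFormPlus, Fin.sum_univ_four, qV, qW]
  ring

/-- Coordinates for the elliptic form. -/
def minusEquiv : V ≃ₗ[ZMod 2] ((Fin 3 ⊕ Fin 3) ⊕ Fin 2 → ZMod 2) where
  toFun v := Sum.elim (Sum.elim ![v.1.1, v.2.1.1, v.2.2.1.1] ![v.1.2, v.2.1.2, v.2.2.1.2]) ![v.2.2.2.1, v.2.2.2.2]
  invFun y := ((y (.inl (.inl 0)), y (.inl (.inr 0))), ((y (.inl (.inl 1)), y (.inl (.inr 1))),
    ((y (.inl (.inl 2)), y (.inl (.inr 2))), (y (.inr 0), y (.inr 1)))))
  map_add' a b := by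
    funext i; rcases i with (i | i) | i <;> fin_cases i <;> rfl
  map_smul' t a := by
    funext i; rcases i with (i | i) | i <;> fin_cases i <;> rfl
  left_inv v := rfl
  right_inv y := by
    funext i; rcases i with (i | i) | i <;> fin_cases i <;> rfl

theorem minusEquiv_q (v : V) : CfsgLib.Orth.minusQ 3 (ZMod 2) 1 1 (minusEquiv v) = qV 1 v := by
  rw [CfsgLib.Orth.minusQ_coe]
  show Cfsg.quadFormMinus 3 (ZMod 2) 1 1 (Sum.elim (Sum.elim ![v.1.1, v.2.1.1, v.2.2.1.1] ![v.1.2, v.2.1.2, v.2.2.1.2])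
    ![v.2.2.2.1, v.2.2.2.2]) = _
  simp [Cfsg.quadFormMinus, Fin.sum_univ_three, qV, qW, pow_two, sq2]
  ring

theorem card_O_plus : Nat.card (CfsgLib.Orth.O (CfsgLib.Orth.plusQ 4 (ZMod 2))) = 348364800 := by
  have h := CfsgLib.ClassicalGroups.card_isometry_plus (F := ZMod 2) 3
  rw [← CfsgLib.Orth.plusQ_coe] at h
  refine h.trans ?_
  rw [ZMod.card]
  decide

theorem card_O_minus : Nat.card (CfsgLib.Orth.O (CfsgLib.Orth.minusQ 3 (ZMod 2) 1 1)) = 394813440 := by
  have h := CfsgLib.ClassicalGroups.card_isometry_minus (F := ZMod 2) (a := 1) (b := 1) (by decide) 3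
  rw [← CfsgLib.Orth.minusQ_coe] at h
  refine h.trans ?_
  rw [ZMod.card]
  decide

theorem Hyp.exists_plus (H : Hyp z Q) : Nonempty (Coord z Q 0) := by
  obtain ⟨e, ⟨K⟩⟩ := H.exists_coord
  rcases zcases e with rfl | rfl
  · exact ⟨K⟩
  · exfalso
    have h := Subgroup.card_subgroup_dvd_card (K.toO H minusEquiv minusEquiv_q).range
    rw [K.card_toO H, card_O_minus] at h
    omega

namespace Coord

variable (K : Coord z Q 0) (H : Hyp z Q)
include H

theorem index_image : (K.toO H plusEquiv plusEquiv_q).range.index = 2 := by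
  have h := (K.toO H plusEquiv plusEquiv_q).range.card_mul_index
  rw [K.card_toO H, card_O_plus] at h
  omega

theorem refl_not_mem (v : Fin 4 ⊕ Fin 4 → ZMod 2) (hv : CfsgLib.Orth.plusQ 4 (ZMod 2) v ≠ 0) :
    CfsgLib.Orth.refl (CfsgLib.Orth.plusQ 4 (ZMod 2)) v ∉ (K.toO H plusEquiv plusEquiv_q).range := by
  intro hm
  have hQ := CfsgLib.Orth.plusQ_nondegenerate (F := ZMod 2) 4
  have hi := K.index_image H
  haveI := Subgroup.normal_of_index_eq_two hi
  have hall : CfsgLib.Orth.reflClosure (CfsgLib.Orth.plusQ 4 (ZMod 2)) ≤ (K.toO H plusEquiv plusEquiv_q).range := by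
    refine (Subgroup.closure_le _).2 ?_
    rintro _ ⟨u, rfl⟩
    rcases eq_or_ne (CfsgLib.Orth.plusQ 4 (ZMod 2) u) 0 with hu | hu
    · rw [CfsgLib.Orth.refl_eq_one hu]; exact one_mem _
    · obtain ⟨g, hg⟩ := CfsgLib.Orth.conj_char_two hQ hv hu
      rw [← hg]
      exact Subgroup.Normal.conj_mem inferInstance _ hm g
  rw [CfsgLib.Orth.reflClosure_eq_top hQ (Or.inr (by simp)), top_le_iff] at hall
  rw [hall, Subgroup.index_top] at hi
  omega

omit H in
theorem app_refl_plus (a v : V) (ha : qV 0 a = 1) :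
    CfsgLib.Orth.app (CfsgLib.Orth.refl (CfsgLib.Orth.plusQ 4 (ZMod 2)) (plusEquiv a)) (plusEquiv v) =
      plusEquiv (CfsgLib.CoOneType.refl a v) := by
  rw [CfsgLib.Orth.app_refl, plusEquiv_q, ha, inv_one, one_mul]
  have hB : QuadraticMap.polar (CfsgLib.Orth.plusQ 4 (ZMod 2)) (plusEquiv v) (plusEquiv a) = B v a := by
    rw [QuadraticMap.polar, ← map_add, plusEquiv_q, plusEquiv_q, plusEquiv_q, qV_add]
    ring
  rw [hB, CfsgLib.CoOneType.refl, map_add, map_smul, sub_eq_add_neg, ← neg_smul, ZMod.neg_eq_self_mod_two]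

/-- Every product of two reflections is induced. -/
theorem pair {a b : V} (ha : qV 0 a = 1) (hb : qV 0 b = 1) :
    ∃ c : G, c * z = z * c ∧ ∀ v, K.act c v = CfsgLib.CoOneType.refl a (CfsgLib.CoOneType.refl b v) := by
  have hne : ∀ {u : V}, qV 0 u = 1 → CfsgLib.Orth.plusQ 4 (ZMod 2) (plusEquiv u) ≠ 0 := fun hu => by
    rw [plusEquiv_q, hu]; exact one_ne_zero
  have hm := (Subgroup.mul_mem_iff_of_index_two (K.index_image H)).2
    (iff_of_false (K.refl_not_mem H _ (hne ha)) (K.refl_not_mem H _ (hne hb)))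
  obtain ⟨c, hc⟩ := hm
  refine ⟨c, Hyp.comm, fun v => plusEquiv.injective ?_⟩
  rw [← K.app_toO H plusEquiv plusEquiv_q, hc, CfsgLib.Orth.app_mul, app_refl_plus b v hb, app_refl_plus a _ ha]

/-- No reflection is induced. -/
theorem no_refl {a : V} (ha : qV 0 a = 1) {c : G} (hc : c * z = z * c) :
    ¬ ∀ v, K.act c v = CfsgLib.CoOneType.refl a v := by
  intro h
  refine K.refl_not_mem H (plusEquiv a) (by rw [plusEquiv_q, ha]; exact one_ne_zero)
    ⟨⟨c, mem_centralizer_singleton_iff.2 hc⟩, CfsgLib.Orth.ext_app fun y => ?_⟩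
  rw [← plusEquiv.apply_symm_apply y, K.app_toO H, app_refl_plus a _ ha, h]

theorem transitive {v w : V} (hv : v ≠ 0) (hvq : qV 0 v = 0) (hw : w ≠ 0) (hwq : qV 0 w = 0) :
    ∃ c : G, c * z = z * c ∧ K.act c v = w := by
  obtain ⟨a, b, ha, hb, hab⟩ := pair_move hv hvq
  obtain ⟨a', b', ha', hb', hab'⟩ := pair_move hw hwq
  obtain ⟨c, hc, hca⟩ := K.pair H ha hb
  obtain ⟨d, hd, hda⟩ := K.pair H ha' hb'
  refine ⟨d⁻¹ * c, (Commute.mul_left (Commute.inv_left hd) hc).eq, ?_⟩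
  rw [K.act_mul H (Commute.inv_left hd).eq hc, hca, hab, ← hab', ← hda, K.act_inv_cancel H hd]

end Coord

end CfsgLib.CoOneType
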