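import Mathlib
import Cfsg.Agent.Lib.CoOneType.Plus

/-!
The stabilizer of a singular point and its action on the residue space.
-/

set_option autoImplicit false
set_option linter.style.longLine false

namespace CfsgLib.CoOneType

open Subgroup

variable {G : Type*} [Group G] [Finite G] {z : G} {Q : Subgroup G}

theorem singW_partner : ∀ w : W, w ≠ 0 → qW 0 w = 0 → ∃ v : W, v ≠ 0 ∧ qW 0 v = 0 ∧ BW w v = 1 := by
  decide +kernel

namespace Coord

variable (K : Coord z Q 0) (H : Hyp z Q)


/-- The stabilizer of the base point. -/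
def P : Subgroup ↥(Cz z) where
  carrier := {c | K.act (c : G) x0 = x0}
  one_mem' := K.act_one H x0
  mul_mem' := fun {a b} ha hb => by
    show K.act ((a : G) * b) x0 = x0
    rw [K.act_mul H Hyp.comm Hyp.comm, show K.act (b : G) x0 = x0 from hb]
    exact ha
  inv_mem' := fun {a} ha => by
    show K.act (a : G)⁻¹ x0 = x0
    conv_lhs => rw [← show K.act (a : G) x0 = x0 from ha]
    exact K.act_inv_cancel H Hyp.comm x0

theorem P_fix (c : K.P H) : K.act ((c : ↥(Cz z)) : G) x0 = x0 := c.2

/-- The action on the residue space. -/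
noncomputable def res (c : G) (w : W) : W := (K.act c (inj w)).2

include H

theorem perp {c : G} (hc : c * z = z * c) (hx : K.act c x0 = x0) (w : W) : (K.act c (inj w)).1.2 = 0 := by
  have h := K.act_B H hc (inj w) x0
  rw [hx] at h
  simpa [B, pB, x0, inj, BW] using h

theorem act_inj {c : G} (hc : c * z = z * c) (hx : K.act c x0 = x0) (w : W) :
    K.act c (inj w) = (((K.act c (inj w)).1.1, 0), K.res c w) :=
  Prod.ext (Prod.ext rfl (K.perp H hc hx w)) rfl

theorem res_add {c : G} (hc : c * z = z * c) (a b : W) : K.res c (a + b) = K.res c a + K.res c b := by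
  show (K.act c (inj (a + b))).2 = _
  rw [show inj (a + b) = inj a + inj b from Prod.ext (by simp [inj]) rfl, K.act_add H hc]
  rfl

theorem res_q {c : G} (hc : c * z = z * c) (hx : K.act c x0 = x0) (w : W) :
    qW 0 (K.res c w) = qW 0 w := by
  have h := K.act_q H hc (inj w)
  rw [K.act_inj H hc hx] at h
  simpa [qV, inj] using h

theorem res_B {c : G} (hc : c * z = z * c) (hx : K.act c x0 = x0) (a b : W) :
    BW (K.res c a) (K.res c b) = BW a b := by
  have h := K.res_q H hc hx (a + b)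
  rw [K.res_add H hc, qW_add, qW_add, K.res_q H hc hx, K.res_q H hc hx] at h
  exact add_left_cancel h

theorem res_perp {c : G} (hc : c * z = z * c) (hx : K.act c x0 = x0) (v : V) (hv : v.1.2 = 0) :
    (K.act c v).2 = K.res c v.2 := by
  obtain ⟨⟨a, b⟩, w⟩ := v
  obtain rfl : b = 0 := hv
  rcases zcases a with rfl | rfl
  · rfl
  · rw [show (((1, 0), w) : V) = x0 + inj w from Prod.ext (by simp [x0, inj]) (by simp [x0, inj]),
      K.act_add H hc, hx]
    simp [x0, res, inj]

theorem res_mul {c d : G} (hc : c * z = z * c) (hd : d * z = z * d) (hcx : K.act c x0 = x0)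
    (hdx : K.act d x0 = x0) (w : W) : K.res (c * d) w = K.res c (K.res d w) := by
  rw [show K.res (c * d) w = (K.act (c * d) (inj w)).2 from rfl, K.act_mul H hc hd,
    K.res_perp H hc hcx _ (K.perp H hd hdx w)]
  rfl

theorem res_one (w : W) : K.res 1 w = w := by simp [res, K.act_one H, inj]

theorem res_mem {x : G} (hx : x ∈ Q) (w : W) : K.res x w = w := by simp [res, K.act_mem H hx, inj]

theorem res_inv_cancel {c : G} (hc : c * z = z * c) (hx : K.act c x0 = x0) (w : W) :
    K.res c⁻¹ (K.res c w) = w := by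
  have hc' : c⁻¹ * z = z * c⁻¹ := (Commute.inv_left hc).eq
  have hx' : K.act c⁻¹ x0 = x0 := by
    conv_lhs => rw [← hx]
    exact K.act_inv_cancel H hc x0
  rw [← K.res_mul H hc' hc hx' hx, inv_mul_cancel, K.res_one H]

/-- The translation parameter. -/
theorem eq_E {c : G} (hc : c * z = z * c) (hx : K.act c x0 = x0) (h : ∀ w, K.res c w = w) :
    K.act c = E (K.act c f0).2 :=
  map_eq_E (K.act_add H hc) (K.act_q H hc) hx h

/-- Every product of two reflections of the residue space is induced. -/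
theorem resPair {a b : W} (ha : qW 0 a = 1) (hb : qW 0 b = 1) :
    ∃ c : G, c * z = z * c ∧ K.act c x0 = x0 ∧ ∀ w, K.res c w = reflW a (reflW b w) := by
  obtain ⟨c, hc, hca⟩ := K.pair H ((qV_inj 0 a).trans ha) ((qV_inj 0 b).trans hb)
  refine ⟨c, hc, by rw [hca, refl_inj_x0, refl_inj_x0], fun w => ?_⟩
  show (K.act c (inj w)).2 = _
  rw [hca, refl_inj, refl_inj]
  rfl

theorem card_P_eq : Nat.card (K.P H) * 135 = 512 * 174182400 := by
  letI : MulAction ↥(Cz z) V :=
    { smul := fun c v => K.act (c : G) v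
      one_smul := fun v => K.act_one H v
      mul_smul := fun a b v => K.act_mul H Hyp.comm Hyp.comm v }
  have h1 := Nat.card_congr (MulAction.orbitProdStabilizerEquivGroup ↥(Cz z) x0)
  have ho : MulAction.orbit ↥(Cz z) x0 = {v : V | v ≠ 0 ∧ qV 0 v = 0} := by
    ext v
    constructor
    · rintro ⟨c, rfl⟩
      refine ⟨fun h => ?_, (K.act_q H Hyp.comm x0).trans (by decide)⟩
      exact absurd (K.act_injective H Hyp.comm (h.trans (K.act_zero H (Hyp.comm (c := c))).symm)) (by decide)
    · rintro ⟨hv, hq⟩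
      obtain ⟨c, hc, h⟩ := K.transitive H (v := x0) (by decide) (by decide) hv hq
      exact ⟨⟨c, mem_centralizer_singleton_iff.2 hc⟩, h⟩
  have hs : MulAction.stabilizer ↥(Cz z) x0 = K.P H := rfl
  rw [Nat.card_prod, H.cardC, ho, hs] at h1
  rw [show Nat.card ↥{v : V | v ≠ 0 ∧ qV 0 v = 0} = 135 by
    rw [Nat.card_eq_fintype_card, Fintype.card_subtype]; exact singular_card] at h1
  rw [mul_comm]; exact h1

/-- Transitivity on the singular vectors of the residue space. -/
theorem resMove {s t : W} (hs : s ≠ 0) (hsq : qW 0 s = 0) (ht : t ≠ 0) (htq : qW 0 t = 0) :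
    ∃ c : G, c * z = z * c ∧ K.act c x0 = x0 ∧ K.res c s = t := by
  obtain ⟨a, ha, b, hb, hab⟩ := moveW_first s hs hsq
  obtain ⟨a', ha', b', hb', hab'⟩ := moveW_first t ht htq
  obtain ⟨c, hc, hcx, hcr⟩ := K.resPair H ha hb
  obtain ⟨d, hd, hdx, hdr⟩ := K.resPair H ha' hb'
  have hdi : d⁻¹ * z = z * d⁻¹ := (Commute.inv_left hd).eq
  have hdix : K.act d⁻¹ x0 = x0 := by
    conv_lhs => rw [← hdx]
    exact K.act_inv_cancel H hd x0
  refine ⟨d⁻¹ * c, (Commute.mul_left hdi hc).eq, by rw [K.act_mul H hdi hc, hcx, hdix], ?_⟩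
  rw [K.res_mul H hdi hc hdix hcx, hcr, hab, ← hab', ← hdr, K.res_inv_cancel H hd hdx]

/-- Transitivity on the nonsingular vectors of the residue space. -/
theorem resMoveNs {s t : W} (hsq : qW 0 s = 1) (htq : qW 0 t = 1) :
    ∃ c : G, c * z = z * c ∧ K.act c x0 = x0 ∧ K.res c s = t := by
  obtain ⟨a, ha, b, hb, hab⟩ := moveW_pair_first s hsq
  obtain ⟨a', ha', b', hb', hab'⟩ := moveW_pair_first t htq
  obtain ⟨c, hc, hcx, hcr⟩ := K.resPair H ha hb
  obtain ⟨d, hd, hdx, hdr⟩ := K.resPair H ha' hb'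
  have hdi : d⁻¹ * z = z * d⁻¹ := (Commute.inv_left hd).eq
  have hdix : K.act d⁻¹ x0 = x0 := by
    conv_lhs => rw [← hdx]
    exact K.act_inv_cancel H hd x0
  refine ⟨d⁻¹ * c, (Commute.mul_left hdi hc).eq, by rw [K.act_mul H hdi hc, hcx, hdix], ?_⟩
  rw [K.res_mul H hdi hc hdix hcx, hcr, hab, ← hab', ← hdr, K.res_inv_cancel H hd hdx]

end Coord

end CfsgLib.CoOneType
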