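import Mathlib
import Cfsg.Agent.Lib.CoOneType.Radical

/-!
Squares in the conjugate of `Q` at the base point, and its commutators with `Q`.
-/

set_option autoImplicit false
set_option linter.style.longLine false
set_option synthInstance.maxSize 8000
set_option synthInstance.maxHeartbeats 1000000
set_option maxHeartbeats 2000000

namespace CfsgLib.CoOneType

open Subgroup

theorem line_moved : ∀ a : W, a ≠ 0 → a ≠ A1 → ∃ p : W, (qW 0 p = 1 ∧ BW p A1 = 0) ∧
    ∃ p' : W, (qW 0 p' = 1 ∧ BW p' A1 = 0) ∧ reflW p (reflW p' a) ≠ a := by decide +kernel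

theorem singular_sum : ∀ w : W, ∃ s : W, qW 0 s = 0 ∧ ∃ t : W, qW 0 t = 0 ∧ w = s + t := by decide +kernel

theorem partnerV : ∀ d : V, d ≠ 0 → ∃ h : V, B h d = 1 := by decide +kernel

theorem separate (w d : V) (hd : d ≠ 0) (hdw : d ≠ w) : ∃ h : V, B h w = 0 ∧ B h d = 1 := by
  obtain ⟨h, hh⟩ := partnerV d hd
  obtain ⟨k, hk⟩ := partnerV (d + w) fun e => hdw (eqV e)
  rw [B_add_right] at hk
  rcases zcases (B h w) with a | a
  · exact ⟨h, a, hh⟩
  · rcases zcases (B k w) with b | b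
    · exact ⟨k, b, by rwa [b, add_zero] at hk⟩
    · refine ⟨h + k, by rw [B_add_left, a, b]; rfl, ?_⟩
      rw [b] at hk
      rw [B_add_left, hh]
      rcases zcases (B k d) with c | c <;> rw [c] at hk ⊢
      · rfl
      · exact absurd hk (by decide)

theorem hyperplane (w : V) (hq : qV 0 w = 0) (v : V) (h : B v w = 1) : qV 0 (v + w) ≠ qV 0 v := by
  rw [qV_add, hq, h]
  rcases zcases (qV 0 v) with c | c <;> rw [c] <;> decide

variable {G : Type*} [Group G] [Finite G] {z : G} {Q : Subgroup G}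

namespace Base

variable {K : Coord z Q 0} {x g : G} (S : Base K x g)
include S

/-- The elements of the fours group `⟨z, x⟩`. -/
def el (_ : Base K x g) (a b : ZMod 2) : G := (if a = 0 then 1 else z) * (if b = 0 then 1 else x)

theorem el_mem (a b : ZMod 2) : S.el a b ∈ Q := by
  refine mul_mem ?_ ?_
  · split_ifs
    exacts [one_mem _, S.hyp.extra.z_mem]
  · split_ifs
    exacts [one_mem _, S.hx]

theorem vec_el (a b : ZMod 2) : K.vec (S.el a b) = ((b, 0), 0) := by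
  rcases zcases a with rfl | rfl <;> rcases zcases b with rfl | rfl <;>
    simp [el, K.mul S.hyp.extra.z_mem S.hx, K.vec_z S.hyp, K.vec_one, S.hxv, x0] <;> rfl

theorem el_zero : S.el 0 0 = 1 := by simp [el]

theorem el_mul (a b a' b' : ZMod 2) : S.el a b * S.el a' b' = S.el (a + a') (b + b') := by
  have h1 : x * z = z * x := S.xz
  have h2 : z * z = 1 := S.hyp.extra.sq_one
  have h3 : x * x = 1 := S.xx
  have h4 : z * (z * x) = x := by rw [← mul_assoc, h2, one_mul]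
  have h5 : x * (z * x) = z := by rw [← mul_assoc, h1, mul_assoc, h3, mul_one]
  have e2 : (1 : ZMod 2) + 1 = 0 := rfl
  rcases zcases a with rfl | rfl <;> rcases zcases b with rfl | rfl <;> rcases zcases a' with rfl | rfl <;>
    rcases zcases b' with rfl | rfl <;>
    simp [el, e2, h1, h2, h3, h4, h5, mul_assoc]

theorem el_sq (a b : ZMod 2) : S.el a b * S.el a b = 1 := by
  rw [S.el_mul, CharTwo.add_self_eq_zero, CharTwo.add_self_eq_zero, S.el_zero]

theorem el_inj {a b a' b' : ZMod 2} (h : S.el a b = S.el a' b') : a = a' ∧ b = b' := by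
  have hv := congrArg K.vec h
  rw [S.vec_el, S.vec_el] at hv
  obtain rfl : b = b' := congrArg (fun v : V => v.1.1) hv
  refine ⟨?_, rfl⟩
  have h' := mul_right_cancel h
  have hne := S.hyp.extra.ne_one
  rcases zcases a with rfl | rfl <;> rcases zcases a' with rfl | rfl <;>
    simp [hne, Ne.symm hne] at h' ⊢

theorem el_comm {c : G} (hz : c * z = z * c) (hx : c * x = x * c) (a b : ZMod 2) :
    c * S.el a b = S.el a b * c := by
  refine (Commute.mul_right ?_ ?_).eq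
  · split_ifs
    exacts [Commute.one_right _, hz]
  · split_ifs
    exacts [Commute.one_right _, hx]

theorem exists_el {b : G} (hb : b ∈ Q) (h1 : (K.vec b).1.2 = 0) (h2 : (K.vec b).2 = 0) :
    ∃ i j, b = S.el i j := by
  rcases zero_line _ h1 h2 with h | h
  · rcases (K.zero_iff hb).1 h with e | e
    · exact ⟨0, 0, by rw [e, S.el_zero]⟩
    · exact ⟨1, 0, by simp [el, e]⟩
  · rcases K.eq_or S.hyp hb S.hx (h.trans S.hxv.symm) with e | e
    · exact ⟨0, 1, by simp [el, e]⟩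
    · exact ⟨1, 1, by simp [el, e]⟩

theorem el_R (a b : ZMod 2) : S.el a b ∈ S.R := by
  refine mul_mem ?_ ?_
  · split_ifs
    exacts [one_mem _, S.mem_R.2 ⟨S.w_spec.1, rfl⟩]
  · split_ifs
    exacts [one_mem _, S.mem_R.2 ⟨by rw [show g⁻¹ * x * g = z by rw [← S.hg]; group]; exact S.hyp.extra.z_mem,
      S.xz⟩]

theorem R_z {r : G} (hr : r ∈ S.R) : r * z = z * r := (S.mem_R.1 hr).2

theorem R_x {r : G} (hr : r ∈ S.R) : r * x = x * r := S.comm_x (S.mem_R.1 hr).1

theorem R_el {r : G} (hr : r ∈ S.R) (a b : ZMod 2) : r * S.el a b = S.el a b * r :=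
  S.el_comm (S.R_z hr) (S.R_x hr) a b

/-- Two elements of `R` with the same parameter differ by the fours group. -/
theorem ur_congr {r r' : G} (hr : r ∈ S.R) (hr' : r' ∈ S.R) (h : S.ur r = S.ur r') :
    ∃ i j, r' = r * S.el i j := by
  have hk : r⁻¹ * r' ∈ S.R := mul_mem (inv_mem hr) hr'
  have h0 : S.ur (r⁻¹ * r') = 0 := by
    have e := S.ur_mul hr hk
    rw [mul_inv_cancel_left, ← h] at e
    exact left_eq_add.mp e
  obtain ⟨h1, h2⟩ := S.inter ((S.ur_zero hk).1 h0) (S.mem_R.1 hk).1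
  obtain ⟨i, j, e⟩ := S.exists_el ((S.ur_zero hk).1 h0) h1 h2
  exact ⟨i, j, by rw [← e, mul_inv_cancel_left]⟩

theorem conj_R {d r : G} (hdz : d * z = z * d) (hdx : d * x = x * d) (hd0 : K.act d x0 = x0)
    (hr : r ∈ S.R) : d * r * d⁻¹ ∈ S.R ∧ S.ur (d * r * d⁻¹) = K.res d (S.ur r) := by
  have H := S.hyp
  obtain ⟨h1, h2⟩ := S.mem_R.1 hr
  have hm : d * r * d⁻¹ ∈ S.R := S.mem_R.2 ⟨S.norm_x hdx h1,
    ((Commute.mul_left hdz h2).mul_left (Commute.inv_left hdz)).eq⟩
  refine ⟨hm, ?_⟩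
  have hp : (K.act d f0).1.2 = 1 := by
    have := K.act_B H hdz f0 x0
    rw [hd0] at this
    simpa [B, pB, x0, f0, BW] using this
  have e : K.act (d * r * d⁻¹) (K.act d f0) = K.act d (E (S.ur r) f0) := by
    rw [← K.act_mul H (S.R_z hm) hdz, inv_mul_cancel_right, K.act_mul H hdz h2, S.act_R hr]
  rw [S.act_R hm, show E (S.ur r) f0 = f0 + (E (S.ur r) f0 + f0) by
    rw [add_comm (E (S.ur r) f0), ← add_assoc, addV, zero_add], K.act_add H hdz] at e
  have e2 := congrArg (fun v : V => v.2) e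
  simp only [tail_E, Prod.snd_add, hp, one_smul] at e2
  rw [K.res_perp H hdz hd0 (E (S.ur r) f0 + f0) (by rw [move_eq]), move_eq] at e2
  simpa [f0] using e2

/-- The set of parameters of involutions of `R`. -/
noncomputable def S0 : Finset W := by
  classical
  exact Finset.univ.filter fun u => ∃ r : G, r ∈ S.R ∧ S.ur r = u ∧ r * r = 1

theorem mem_S0 {u : W} : u ∈ S.S0 ↔ ∃ r : G, r ∈ S.R ∧ S.ur r = u ∧ r * r = 1 := by
  simp [S0]

theorem sq_congr {r r' : G} (hr : r ∈ S.R) (hr' : r' ∈ S.R) (h : S.ur r = S.ur r') :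
    r' * r' = r * r := by
  obtain ⟨i, j, rfl⟩ := S.ur_congr hr hr' h
  rw [show r * S.el i j * (r * S.el i j) = r * (S.el i j * r) * S.el i j by group, ← S.R_el hr,
    show r * (r * S.el i j) * S.el i j = r * r * (S.el i j * S.el i j) by group, S.el_sq, mul_one]

theorem card_S0 : S.S0.card = 36 := by
  classical
  have hA : Nat.card {r : G // r ∈ S.R ∧ r * r = 1} = 144 := by
    let w := K.vec (g⁻¹ * z * g)
    have e : {r : G // r ∈ S.R ∧ r * r = 1} ≃ {a : G // a ∈ Q ∧ (B (K.vec a) w = 0 ∧ qV 0 (K.vec a) = 0)} :=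
      { toFun := fun r => ⟨g⁻¹ * r.1 * g, (S.mem_R.1 r.2.1).1,
          (K.comm_iff S.hyp.extra.ne_one (S.mem_R.1 r.2.1).1 S.w_spec.1).1 (by
            rw [show g⁻¹ * r.1 * g * (g⁻¹ * z * g) = g⁻¹ * (r.1 * z) * g by group, S.R_z r.2.1]; group),
          (K.invol_iff S.hyp.extra.ne_one (S.mem_R.1 r.2.1).1).1 (by
            rw [show g⁻¹ * r.1 * g * (g⁻¹ * r.1 * g) = g⁻¹ * (r.1 * r.1) * g by group, r.2.2]; group)⟩
        invFun := fun a => ⟨g * a.1 * g⁻¹, S.mem_R.2 ⟨by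
            rw [show g⁻¹ * (g * a.1 * g⁻¹) * g = a.1 by group]; exact a.2.1, by
            have h := (K.comm_iff S.hyp.extra.ne_one a.2.1 S.w_spec.1).2 a.2.2.1
            calc g * a.1 * g⁻¹ * z = g * (a.1 * (g⁻¹ * z * g)) * g⁻¹ := by group
              _ = g * (g⁻¹ * z * g * a.1) * g⁻¹ := by rw [h]
              _ = z * (g * a.1 * g⁻¹) := by group⟩, by
            rw [show g * a.1 * g⁻¹ * (g * a.1 * g⁻¹) = g * (a.1 * a.1) * g⁻¹ by group,
              (K.invol_iff S.hyp.extra.ne_one a.2.1).2 a.2.2.2]; group⟩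
        left_inv := fun r => Subtype.ext (by simp [mul_assoc])
        right_inv := fun a => Subtype.ext (by simp [mul_assoc]) }
    rw [Nat.card_congr e, K.card_lifts S.hyp (fun v => B v w = 0 ∧ qV 0 v = 0),
      count_involutions _ S.w_spec.2.1 S.w_spec.2.2]
  have hrep : ∀ u : S.S0, ∃ r : G, r ∈ S.R ∧ S.ur r = u ∧ r * r = 1 := fun u => S.mem_S0.1 u.2
  choose rep hrR hru hr2 using hrep
  let f : S.S0 × (ZMod 2 × ZMod 2) → {r : G // r ∈ S.R ∧ r * r = 1} := fun p =>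
    ⟨rep p.1 * S.el p.2.1 p.2.2, mul_mem (hrR _) (S.el_R _ _), by
      rw [S.sq_congr (hrR p.1) (mul_mem (hrR _) (S.el_R _ _)), hr2]
      rw [S.ur_mul (hrR _) (S.el_R _ _), (S.ur_zero (S.el_R _ _)).2 (S.el_mem _ _), add_zero]⟩
  have hf : Function.Bijective f := by
    constructor
    · rintro ⟨u, i, j⟩ ⟨u', i', j'⟩ h
      have h1 : rep u * S.el i j = rep u' * S.el i' j' := congrArg Subtype.val h
      have h2 := congrArg S.ur h1
      rw [S.ur_mul (hrR _) (S.el_R _ _), S.ur_mul (hrR _) (S.el_R _ _), (S.ur_zero (S.el_R _ _)).2 (S.el_mem _ _),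
        (S.ur_zero (S.el_R _ _)).2 (S.el_mem _ _), add_zero, add_zero, hru, hru] at h2
      obtain rfl : u = u' := Subtype.ext h2
      obtain ⟨rfl, rfl⟩ := S.el_inj (mul_left_cancel h1)
      rfl
    · rintro ⟨r, hr, hr2'⟩
      let u : S.S0 := ⟨S.ur r, S.mem_S0.2 ⟨r, hr, rfl, hr2'⟩⟩
      obtain ⟨i, j, e⟩ := S.ur_congr (hrR u) hr (hru u)
      exact ⟨(u, i, j), Subtype.ext e.symm⟩
  have hc := Nat.card_eq_of_bijective f hf
  rw [hA, Nat.card_prod, Nat.card_eq_finsetCard, Nat.card_prod, Nat.card_zmod] at hc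
  omega

theorem S0_singular {u : W} (hu : u ∈ S.S0) : qW 0 u = 0 := by
  classical
  by_contra hne
  have h1 : qW 0 u = 1 := eq_one hne
  obtain ⟨r, hr, hur, hr2⟩ := S.mem_S0.1 hu
  have hinv : ∀ {s t : W}, s ∈ S.S0 → (∃ c : G, c * z = z * c ∧ K.act c x0 = x0 ∧ K.res c s = t) → t ∈ S.S0 := by
    rintro s t hs ⟨c, hc, hcx, hcs⟩
    obtain ⟨r, hr, hur, hr2⟩ := S.mem_S0.1 hs
    obtain ⟨d, hdz, hdx, hd0, hd⟩ := S.exists_fix hc hcx
    obtain ⟨hm, hu'⟩ := S.conj_R hdz hdx hd0 hr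
    refine S.mem_S0.2 ⟨_, hm, by rw [hu', hur, hd, hcs], ?_⟩
    rw [show d * r * d⁻¹ * (d * r * d⁻¹) = d * (r * r) * d⁻¹ by group, hr2]; group
  have h0 : (0 : W) ∈ S.S0 := S.mem_S0.2 ⟨1, one_mem _, (S.ur_zero (one_mem _)).2 (one_mem _), one_mul 1⟩
  have hns : (Finset.univ.filter fun w : W => qW 0 w = 1) ⊆ S.S0 := fun t ht =>
    hinv hu (K.resMoveNs S.hyp h1 (Finset.mem_filter.1 ht).2)
  by_cases hs : ∃ s ∈ S.S0, s ≠ 0 ∧ qW 0 s = 0
  · obtain ⟨s, hs, hs0, hsq⟩ := hs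
    have huniv : S.S0 = Finset.univ := by
      refine Finset.eq_univ_of_forall fun t => ?_
      rcases zcases (qW 0 t) with h | h
      · by_cases ht : t = 0
        · exact ht ▸ h0
        · exact hinv hs (K.resMove S.hyp hs0 hsq ht h)
      · exact hns (Finset.mem_filter.2 ⟨Finset.mem_univ _, h⟩)
    have := S.card_S0
    rw [huniv, Finset.card_univ] at this
    exact absurd this (by decide)
  · have hsub : S.S0 ⊆ insert 0 (Finset.univ.filter fun w : W => qW 0 w = 1) := by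
      intro t ht
      refine Finset.mem_insert.2 (or_iff_not_imp_left.2 fun h => Finset.mem_filter.2 ⟨Finset.mem_univ _, ?_⟩)
      exact eq_one fun k => hs ⟨t, ht, h, k⟩
    have h := Finset.card_le_card hsub
    rw [S.card_S0, Finset.card_insert_of_notMem (by simp [qW_zero]), nsW_count] at h
    omega

/-- The squaring map on `R`. -/
theorem sq_R {r : G} (hr : r ∈ S.R) : r * r = S.el 0 (qW 0 (S.ur r)) := by
  classical
  have hcases : r * r = 1 ∨ r * r = x := by
    rcases S.hyp.extra.sq_cases (S.mem_R.1 hr).1 with e | e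
    · left
      calc r * r = g * (g⁻¹ * r * g * (g⁻¹ * r * g)) * g⁻¹ := by group
        _ = 1 := by rw [e]; group
    · right
      calc r * r = g * (g⁻¹ * r * g * (g⁻¹ * r * g)) * g⁻¹ := by group
        _ = x := by rw [e, S.hg]
  have hS : S.S0 = Finset.univ.filter fun u => qW 0 u = 0 :=
    Finset.eq_of_subset_of_card_le (fun u hu => Finset.mem_filter.2 ⟨Finset.mem_univ _, S.S0_singular hu⟩)
      (by rw [S.card_S0, zero_count])
  rcases zcases (qW 0 (S.ur r)) with h | h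
  · have hm : S.ur r ∈ S.S0 := by rw [hS]; exact Finset.mem_filter.2 ⟨Finset.mem_univ _, h⟩
    obtain ⟨r', hr', hu, h2⟩ := S.mem_S0.1 hm
    rw [h, S.el_zero, S.sq_congr hr' hr hu, h2]
  · rw [h, show S.el 0 1 = x by simp [el]]
    refine hcases.resolve_left fun e => ?_
    have := S.S0_singular (S.mem_S0.2 ⟨r, hr, rfl, e⟩)
    rw [h] at this
    exact absurd this (by decide)

/-- The `z`-coordinate on the fours group. -/
noncomputable def zeta (b : G) : ZMod 2 := by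
  classical
  exact if b = S.el 1 0 ∨ b = S.el 1 1 then 1 else 0

theorem zeta_el (a b : ZMod 2) : S.zeta (S.el a b) = a := by
  rcases zcases a with rfl | rfl
  · rw [zeta, if_neg]
    rintro (h | h) <;> exact absurd (S.el_inj h).1 (by decide)
  · rw [zeta, if_pos]
    rcases zcases b with rfl | rfl
    exacts [Or.inl rfl, Or.inr rfl]

/-- The `z`-coordinate of a commutator. -/
noncomputable def eta (r q : G) : ZMod 2 := S.zeta (r * q * r⁻¹ * q⁻¹)

theorem comm_el {r q : G} (hr : r ∈ S.R) (hq : q ∈ Q) (hqx : q * x = x * q) :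
    r * q * r⁻¹ * q⁻¹ = S.el (S.eta r q) (BW (S.ur r) (K.vec q).2) := by
  obtain ⟨h1, h2⟩ := S.comm_mem hr hq hqx
  obtain ⟨i, j, e⟩ := S.exists_el h1 (S.inter h1 h2).1 (S.inter h1 h2).2
  rw [eta, e, S.zeta_el]
  congr 1
  have hv := congrArg K.vec e
  rw [S.vec_el, K.mul (S.hyp.norm r (S.R_z hr) q hq) (inv_mem hq), K.vec_inv hq, ← K.act_vec S.hyp (S.R_z hr) hq,
    S.act_R hr, move_eq, (S.comm_x_iff hq).1 hqx] at hv
  simpa using (congrArg (fun v : V => v.1.1) hv).symm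

theorem eta_mul_left {r r' q : G} (hr : r ∈ S.R) (hr' : r' ∈ S.R) (hq : q ∈ Q) (hqx : q * x = x * q) :
    S.eta (r * r') q = S.eta r q + S.eta r' q := by
  have e : r * r' * q * (r * r')⁻¹ * q⁻¹ = r' * q * r'⁻¹ * q⁻¹ * (r * q * r⁻¹ * q⁻¹) := by
    calc r * r' * q * (r * r')⁻¹ * q⁻¹ = r * (r' * q * r'⁻¹ * q⁻¹) * (q * r⁻¹ * q⁻¹) := by group
      _ = r' * q * r'⁻¹ * q⁻¹ * r * (q * r⁻¹ * q⁻¹) := by rw [S.comm_el hr' hq hqx, S.R_el hr]
      _ = _ := by group
  rw [S.comm_el hr hq hqx, S.comm_el hr' hq hqx, S.comm_el (mul_mem hr hr') hq hqx, S.el_mul] at e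
  exact (S.el_inj e).1.trans (add_comm _ _)

theorem eta_mul_right {r q q' : G} (hr : r ∈ S.R) (hq : q ∈ Q) (hqx : q * x = x * q)
    (hq' : q' ∈ Q) (hqx' : q' * x = x * q') : S.eta r (q * q') = S.eta r q + S.eta r q' := by
  have hqq : q * q' * x = x * (q * q') := (Commute.mul_left hqx hqx').eq
  have e : r * (q * q') * r⁻¹ * (q * q')⁻¹ =
      r * q * r⁻¹ * q⁻¹ * (r * q' * r⁻¹ * q'⁻¹) := by
    calc r * (q * q') * r⁻¹ * (q * q')⁻¹ = r * q * r⁻¹ * (r * q' * r⁻¹ * q'⁻¹) * q⁻¹ := by group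
      _ = r * q * r⁻¹ * (r * q' * r⁻¹ * q'⁻¹ * q⁻¹) := by group
      _ = r * q * r⁻¹ * (q⁻¹ * (r * q' * r⁻¹ * q'⁻¹)) := by
        rw [S.comm_el hr hq' hqx',
          S.el_comm (Commute.inv_left (S.hyp.extra.comm_z hq)).eq (Commute.inv_left hqx).eq]
      _ = _ := by group
  rw [S.comm_el hr hq hqx, S.comm_el hr hq' hqx', S.comm_el hr (mul_mem hq hq') hqq, S.el_mul] at e
  exact (S.el_inj e).1

theorem el_x (a b : ZMod 2) : S.el a b * x = x * S.el a b :=
  (S.el_comm S.xz rfl a b).symm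

theorem eta_el_left {q : G} (hq : q ∈ Q) (hqx : q * x = x * q) (a b : ZMod 2) : S.eta (S.el a b) q = 0 := by
  rw [eta, ← S.el_comm (S.hyp.extra.comm_z hq) hqx, mul_inv_cancel_right, mul_inv_cancel, ← S.el_zero,
    S.zeta_el]

theorem eta_el_right {r : G} (hr : r ∈ S.R) (a b : ZMod 2) : S.eta r (S.el a b) = 0 := by
  rw [eta, S.R_el hr, mul_inv_cancel_right, mul_inv_cancel, ← S.el_zero, S.zeta_el]

theorem eta_congr_left {r r' q : G} (hr : r ∈ S.R) (hr' : r' ∈ S.R) (h : S.ur r = S.ur r') (hq : q ∈ Q)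
    (hqx : q * x = x * q) : S.eta r' q = S.eta r q := by
  obtain ⟨i, j, rfl⟩ := S.ur_congr hr hr' h
  rw [S.eta_mul_left hr (S.el_R i j) hq hqx, S.eta_el_left hq hqx, add_zero]

theorem eta_congr_right {r q q' : G} (hr : r ∈ S.R) (hq : q ∈ Q) (hqx : q * x = x * q) (hq' : q' ∈ Q)
    (hqx' : q' * x = x * q') (h : (K.vec q).2 = (K.vec q').2) : S.eta r q' = S.eta r q := by
  obtain ⟨i, j, e⟩ := S.exists_el (mul_mem (inv_mem hq) hq')
    (by rw [K.mul (inv_mem hq) hq', K.vec_inv hq, Prod.fst_add, Prod.snd_add, (S.comm_x_iff hq).1 hqx,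
      (S.comm_x_iff hq').1 hqx', add_zero])
    (by rw [K.mul (inv_mem hq) hq', K.vec_inv hq, Prod.snd_add, h, addW])
  rw [inv_mul_eq_iff_eq_mul.1 e, S.eta_mul_right hr hq hqx (S.el_mem i j) (S.el_x i j), S.eta_el_right hr,
    add_zero]

theorem eta_conj {d r q : G} (hdz : d * z = z * d) (hdx : d * x = x * d) (hr : r ∈ S.R) (hq : q ∈ Q)
    (hqx : q * x = x * q) : S.eta (d * r * d⁻¹) (d * q * d⁻¹) = S.eta r q := by
  unfold eta
  rw [show d * r * d⁻¹ * (d * q * d⁻¹) * (d * r * d⁻¹)⁻¹ * (d * q * d⁻¹)⁻¹ =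
    d * (r * q * r⁻¹ * q⁻¹) * d⁻¹ by group, S.comm_el hr hq hqx, S.el_comm hdz hdx, mul_inv_cancel_right]

theorem lift_x (w : W) : K.lift (inj w) * x = x * K.lift (inj w) :=
  (S.comm_x_iff (K.lift_mem _)).2 (by rw [K.vec_lift]; rfl)

theorem exists_eta_ne {q : G} (hq : q ∈ Q) (hqx : q * x = x * q) (hne : (K.vec q).2 ≠ 0) :
    ∃ r ∈ S.R, S.eta r q ≠ 0 := by
  by_contra hcon
  push Not at hcon
  have H := S.hyp
  set c := g⁻¹ * q * g with hcdef
  have hc : c * z = z * c := by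
    calc g⁻¹ * q * g * z = g⁻¹ * (q * (g * z * g⁻¹)) * g := by group
      _ = g⁻¹ * (g * z * g⁻¹ * q) * g := by rw [S.hg, hqx]
      _ = z * (g⁻¹ * q * g) := by group
  have hfix : ∀ v, B v (K.vec (g⁻¹ * z * g)) = 0 → K.act c v = v := by
    intro v hv
    have ha := K.lift_mem v
    set a := K.lift v with hadef
    have hr : g * a * g⁻¹ ∈ S.R := S.mem_R.2 ⟨by
      rw [show g⁻¹ * (g * a * g⁻¹) * g = a by group]; exact ha, by
      have h := (K.comm_iff H.extra.ne_one ha S.w_spec.1).2 (by rw [hadef, K.vec_lift]; exact hv)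
      calc g * a * g⁻¹ * z = g * (a * (g⁻¹ * z * g)) * g⁻¹ := by group
        _ = g * (g⁻¹ * z * g * a) * g⁻¹ := by rw [h]
        _ = z * (g * a * g⁻¹) := by group⟩
    have he := S.comm_el hr hq hqx
    rw [hcon _ hr] at he
    have hcase : a * c * a⁻¹ * c⁻¹ = 1 ∨ a * c * a⁻¹ * c⁻¹ = z := by
      have hg' : a * c * a⁻¹ * c⁻¹ = g⁻¹ * ((g * a * g⁻¹) * q * (g * a * g⁻¹)⁻¹ * q⁻¹) * g := by
        rw [hcdef]; group
      rw [hg', he]
      rcases zcases (BW (S.ur (g * a * g⁻¹)) (K.vec q).2) with h | h <;> rw [h]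
      · left; rw [S.el_zero]; group
      · right; rw [show S.el 0 1 = x by simp [el], ← S.hg]; group
    have hv0 : K.vec (a * c * a⁻¹ * c⁻¹) = 0 := by
      rcases hcase with h | h <;> rw [h]
      exacts [K.vec_one, K.vec_z H]
    rw [show a * c * a⁻¹ * c⁻¹ = a * (c * a⁻¹ * c⁻¹) by group, K.mul ha (H.norm c hc _ (inv_mem ha)),
      ← K.act_vec H hc (inv_mem ha), K.vec_inv ha, hadef, K.vec_lift] at hv0
    exact ((add_eq_zero_iff_eq_neg.1 hv0).trans (negV _)).symm
  have hall : ∀ v, K.act c v = v := by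
    intro v
    rcases zcases (B v (K.vec (g⁻¹ * z * g))) with h | h
    · exact hfix v h
    by_contra hne'
    have hd : K.act c v + v ≠ 0 := fun e => hne' ((add_eq_zero_iff_eq_neg.1 e).trans (negV _))
    by_cases hw : K.act c v + v = K.vec (g⁻¹ * z * g)
    · have hv : K.act c v = v + K.vec (g⁻¹ * z * g) := by
        rw [← hw, add_comm (K.act c v), ← add_assoc, addV, zero_add]
      have := K.act_q H hc v
      rw [hv] at this
      exact hyperplane _ S.w_spec.2.2 v h this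
    · obtain ⟨p, hp, hp'⟩ := separate _ _ hd hw
      have h2 := K.act_B H hc p v
      rw [hfix p hp] at h2
      rw [B_add_right, h2, CharTwo.add_self_eq_zero] at hp'
      exact zero_ne_one hp'
  exact hne (S.inter hq (K.mem_of_act H hc hall)).2

theorem eta_line {r : G} (hr : r ∈ S.R) : S.eta r (K.lift (inj A1)) = BW (S.ur r) A1 := by
  have H := S.hyp
  choose rep hrR hru using S.exists_R
  set q := K.lift (inj A1) with hqdef
  have hq : q ∈ Q := K.lift_mem _
  have hqx : q * x = x * q := S.lift_x _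
  have hval : ∀ {r}, r ∈ S.R → S.eta r q = S.eta (rep (S.ur r)) q := fun hr =>
    S.eta_congr_left (hrR _) hr (hru _) hq hqx
  obtain ⟨a, ha⟩ := dualW (fun u => S.eta (rep u) q) (fun u v => by
    rw [← S.eta_mul_left (hrR u) (hrR v) hq hqx]
    exact S.eta_congr_left (mul_mem (hrR u) (hrR v)) (hrR _) (by rw [S.ur_mul (hrR u) (hrR v), hru, hru, hru]) hq hqx)
  have heta : ∀ {r}, r ∈ S.R → S.eta r q = BW a (S.ur r) := fun hr => (hval hr).trans (ha _)
  have hane : a ≠ 0 := by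
    rintro rfl
    obtain ⟨r, hr, hne⟩ := S.exists_eta_ne hq hqx (by rw [hqdef, K.vec_lift]; exact base_line.2.2.2.1)
    exact hne (by rw [heta hr, BW_zero_left])
  suffices h : a = A1 by rw [heta hr, h, BW_comm]
  by_contra hne
  obtain ⟨p, hp, p', hp', hmove⟩ := line_moved a hane hne
  obtain ⟨d, hdz, hdx, hd0, hd⟩ := S.exists_pair hp.1 hp'.1
  have hdA : K.res d A1 = A1 := by
    rw [hd]; simp [reflW, BW_comm A1 p', BW_comm A1 p, hp.2, hp'.2]
  refine hmove ((hd a).symm.trans (BW_nondeg fun v => ?_))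
  obtain ⟨u, rfl⟩ : ∃ u, K.res d u = v :=
    (Finite.injective_iff_surjective.1 (Function.LeftInverse.injective (K.res_inv_cancel H hdz hd0))) v
  rw [K.res_B H hdz hd0]
  obtain ⟨hm, hum⟩ := S.conj_R hdz hdx hd0 (hrR u)
  rw [← hru u, ← hum, ← heta hm, ← heta (hrR u), ← S.eta_conj hdz hdx (hrR u) hq hqx]
  have hdqx : d * q * d⁻¹ * x = x * (d * q * d⁻¹) :=
    ((Commute.mul_left hdx hqx).mul_left (Commute.inv_left hdx)).eq
  refine (S.eta_congr_right hm (H.norm d hdz q hq) hdqx hq hqx ?_).symm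
  rw [← K.act_vec H hdz hq, hqdef, K.vec_lift, K.res_perp H hdz hd0 _ rfl]
  exact hdA

/-- The commutator pairing between `R` and `Q`. -/
theorem comm_R {r q : G} (hr : r ∈ S.R) (hq : q ∈ Q) (hqx : q * x = x * q) :
    r * q * r⁻¹ * q⁻¹ = S.el (BW (S.ur r) (K.vec q).2) (BW (S.ur r) (K.vec q).2) := by
  have H := S.hyp
  rw [S.comm_el hr hq hqx]
  congr 1
  have hadd : ∀ u v : W, S.eta r (K.lift (inj (u + v))) = S.eta r (K.lift (inj u)) + S.eta r (K.lift (inj v)) := by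
    intro u v
    rw [← S.eta_mul_right hr (K.lift_mem _) (S.lift_x u) (K.lift_mem _) (S.lift_x v)]
    exact S.eta_congr_right hr (mul_mem (K.lift_mem _) (K.lift_mem _)) (Commute.mul_left (S.lift_x u) (S.lift_x v)).eq
      (K.lift_mem _) (S.lift_x _) (by rw [K.mul (K.lift_mem _) (K.lift_mem _), K.vec_lift, K.vec_lift, K.vec_lift]; rfl)
  have hsing : ∀ s : W, qW 0 s = 0 → S.eta r (K.lift (inj s)) = BW (S.ur r) s := by
    intro s hs
    by_cases hs0 : s = 0
    · subst hs0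
      have h0 := hadd 0 0
      rw [add_zero] at h0
      rw [left_eq_add.mp h0, BW_zero_right]
    · obtain ⟨c, hc, hcx, hcs⟩ := K.resMove H hs0 hs base_line.2.2.2.1 base_line.1
      obtain ⟨d, hdz, hdx, hd0, hd⟩ := S.exists_fix hc hcx
      obtain ⟨hm, hum⟩ := S.conj_R hdz hdx hd0 hr
      have hsx := S.lift_x s
      rw [← S.eta_conj hdz hdx hr (K.lift_mem (inj s)) hsx,
        ← S.eta_congr_right (q' := K.lift (inj A1)) hm (H.norm d hdz _ (K.lift_mem _))
          ((Commute.mul_left hdx hsx).mul_left (Commute.inv_left hdx)).eq (K.lift_mem _) (S.lift_x _) (by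
            rw [← K.act_vec H hdz (K.lift_mem _), K.vec_lift, K.vec_lift, K.res_perp H hdz hd0 _ rfl]
            show K.res d s = A1
            rw [hd, hcs]),
        S.eta_line hm, hum, ← hcs, ← hd, K.res_B H hdz hd0]
  rw [S.eta_congr_right (q := K.lift (inj (K.vec q).2)) hr (K.lift_mem _) (S.lift_x _) hq hqx (by rw [K.vec_lift]; rfl)]
  obtain ⟨s, hs, t, ht, h⟩ := singular_sum (K.vec q).2
  rw [h, hadd, hsing s hs, hsing t ht, BW_add_right]

end Base

end CfsgLib.CoOneType
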