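import Mathlib
import Cfsg.Agent.Lib.CoOneType.Pairing

/-!
An involution centralizing `z` and `x` that induces the standard long root element on the residue space, and
its commutators with `R`.
-/

set_option autoImplicit false
set_option linter.style.longLine false
set_option maxHeartbeats 2000000
set_option synthInstance.maxSize 8000
set_option synthInstance.maxHeartbeats 1000000

namespace CfsgLib.CoOneType

open Subgroup

/-- The partner of `A1`. -/
def G1 : W := ((0, 1), (0, 0))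
/-- The vector used to exchange `x0` and `inj A1`. -/
def pv : V := ((0, 1), G1)
/-- A product of two reflections sending `x0` to `inj A1`. -/
def M (v : V) : V := refl (pv + inj A1) (refl (x0 + pv) v)
/-- The inverse of `M`. -/
def Minv (v : V) : V := refl (x0 + pv) (refl (pv + inj A1) v)
/-- The standard long root element of the residue space. -/
def sig0 (w : W) : W := w + BW w A2 • A1 + BW w A1 • A2
/-- Its lift. -/
def D0 (v : V) : V := (v.1, sig0 v.2)
/-- The anisotropic vector of the plane `L⊥/L`. -/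
def HS : W := H1 + H2

theorem M_Minv (v : V) : M (Minv v) = v := by simp [M, Minv, refl_refl]
theorem pair_M : qV 0 (pv + inj A1) = 1 ∧ qV 0 (x0 + pv) = 1 := by decide +kernel
theorem M_x0 : M x0 = inj A1 := by decide +kernel
theorem Minv_facts : Minv x0 = inj A1 ∧ Minv (inj A1) = x0 := by decide +kernel
theorem M_E : ∀ v, M (E A2 (Minv v)) = D0 v := by decide +kernel
theorem Minv_perp : ∀ v : V, v.1.2 = 0 → BW v.2 A1 = 0 → BW v.2 A2 = 0 →
    (Minv v).1.2 = 0 ∧ BW A2 (Minv v).2 = 0 := by decide +kernel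
theorem E_D0 (u : W) (h1 : BW u A1 = 0) (h2 : BW u A2 = 0) (v : V) : E u (D0 v) = D0 (E u v) := by
  refine Prod.ext (Prod.ext ?_ rfl) ?_
  · have hs : ∀ (t : ZMod 2) (a : W), BW u a = 0 → BW u (t • a) = 0 := fun t a h => by
      rw [BW_comm, BW_smul_left, BW_comm a u, h, mul_zero]
    simp [E, D0, sig0, BW_add_right, hs _ _ h1, hs _ _ h2]
  · simp only [E, D0, sig0, BW_add_left, BW_smul_left, h1, h2, mul_zero, add_zero]
    abel
theorem sig0_invol : ∀ w, sig0 (sig0 w) = w := by decide +kernel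
theorem D0_invol (v : V) : D0 (D0 v) = v := Prod.ext rfl (sig0_invol v.2)
theorem HS_facts : qW 0 HS = 1 ∧ qW 0 (HS + A1) = 1 ∧ qW 0 (HS + A2) = 1 ∧
    reflW HS (reflW (HS + A1) H1) = H1 + A1 ∧ reflW HS (reflW (HS + A2) H1) = H1 + A2 := by decide +kernel
theorem tau_D0 : ∀ v : V,
    refl (inj HS) (refl (inj (HS + A1)) (D0 v)) = D0 (refl (inj HS) (refl (inj (HS + A1)) v)) ∧
    refl (inj HS) (refl (inj (HS + A2)) (D0 v)) = D0 (refl (inj HS) (refl (inj (HS + A2)) v)) := by decide +kernel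
theorem tau_fix : refl (inj HS) (refl (inj (HS + A1)) (inj A1)) = inj A1 ∧
    refl (inj HS) (refl (inj (HS + A2)) (inj A1)) = inj A1 := by decide +kernel
theorem plane_decomp : ∀ u : W, BW u A1 = 0 → BW u A2 = 0 →
    ∃ a b : ZMod 2, u = a • A1 + b • A2 + BW u H2 • H1 + BW u H1 • H2 := by decide +kernel
theorem plane_basic : BW H1 A1 = 0 ∧ BW H1 A2 = 0 ∧ BW H2 A1 = 0 ∧ BW H2 A2 = 0 ∧ BW A1 A2 = 0 ∧
    BW H1 HS = 1 ∧ BW G1 A1 = 1 := by decide +kernel

variable {G : Type*} [Group G] [Finite G] {z : G} {Q : Subgroup G}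

namespace Base

variable {K : Coord z Q 0} {x g : G} (S : Base K x g)
include S

/-- Correcting the signs at `x` and at `y`. -/
theorem adjust {c y : G} (hy : y ∈ Q) (hyv : K.vec y = inj A1) (hc : c * z = z * c)
    (h1 : K.act c x0 = x0) (h2 : K.act c (inj A1) = inj A1) :
    ∃ d : G, d * z = z * d ∧ d * x = x * d ∧ d * y = y * d ∧ ∀ v, K.act d v = K.act c v := by
  have H := S.hyp
  have key : ∀ {b : G} {v0 : V}, b ∈ Q → K.vec b = v0 → K.act c v0 = v0 →
      ∃ a : ZMod 2, ∀ s, s ∈ Q → B v0 (K.vec s) = a → (s * c) * b = b * (s * c) := by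
    intro b v0 hb hbv hfix
    have hv : K.vec (c * b * c⁻¹) = K.vec b := by rw [← K.act_vec H hc hb, hbv, hfix]
    rcases K.eq_or H (H.norm c hc b hb) hb hv with h | h
    · refine ⟨0, fun s hs ha => ?_⟩
      have h3 := K.conj hb hs
      rw [hbv, ha, if_pos rfl] at h3
      refine mul_inv_eq_iff_eq_mul.1 ?_
      calc s * c * b * (s * c)⁻¹ = s * (c * b * c⁻¹) * s⁻¹ := by group
        _ = b := by rw [h, h3]
    · refine ⟨1, fun s hs ha => ?_⟩
      have h3 := K.conj hb hs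
      rw [hbv, ha, if_neg one_ne_zero] at h3
      refine mul_inv_eq_iff_eq_mul.1 ?_
      calc s * c * b * (s * c)⁻¹ = s * (c * b * c⁻¹) * s⁻¹ := by group
        _ = s * z * b * s⁻¹ := by rw [h]; group
        _ = z * (s * b * s⁻¹) := by rw [H.extra.comm_z hs]; group
        _ = b := by rw [h3, ← mul_assoc, H.extra.sq_one, one_mul]
  obtain ⟨a, ha⟩ := key S.hx S.hxv h1
  obtain ⟨b, hb⟩ := key hy hyv h2
  set s := K.lift ((0, a), b • G1) with hs
  have hsQ : s ∈ Q := K.lift_mem _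
  refine ⟨s * c, (Commute.mul_left (H.extra.comm_z hsQ) hc).eq, ha s hsQ ?_, hb s hsQ ?_, fun v => ?_⟩
  · rw [hs, K.vec_lift]; simp [B, pB, x0, BW_zero_left]
  · rw [hs, K.vec_lift]
    rcases zcases b with rfl | rfl
    · simp [B, pB, inj, BW_zero_right]
    · simp [B, pB, inj, BW_comm A1 G1, plane_basic.2.2.2.2.2.2]
  · rw [K.act_mul H (H.extra.comm_z hsQ) hc, K.act_mem H hsQ]

theorem comm_el_zero {r q : G} (hr : r ∈ S.R) (hq : q ∈ Q) (hqx : q * x = x * q)
    (h : BW (S.ur r) (K.vec q).2 = 0) : r * q = q * r := by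
  have e := S.comm_R hr hq hqx
  rw [h, S.el_zero] at e
  exact mul_inv_eq_iff_eq_mul.1 (mul_inv_eq_one.1 e)

end Base

/-- A lift `d` of the standard long root element. -/
structure Line {K : Coord z Q 0} {x g : G} (S : Base K x g) (d : G) (Φ : W) : Prop where
  dz : d * z = z * d
  dx : d * x = x * d
  sq : d * d = 1
  act : ∀ v, K.act d v = D0 v
  dq : ∀ q ∈ Q, (K.vec q).1.2 = 0 → BW (K.vec q).2 A1 = 0 → BW (K.vec q).2 A2 = 0 → d * q = q * d
  hΦ : BW Φ A1 = 0 ∧ BW Φ A2 = 0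
  dr : ∀ r ∈ S.R, BW (S.ur r) A1 = 0 → BW (S.ur r) A2 = 0 → d * r * d⁻¹ * r⁻¹ = S.el (BW (S.ur r) Φ) 0

theorem Base.exists_line {K : Coord z Q 0} {x g : G} (S : Base K x g) : ∃ d Φ, Line S d Φ := by
  have H := S.hyp
  obtain ⟨c, hc, hcM⟩ := K.pair H pair_M.1 pair_M.2
  have hcM : ∀ v, K.act c v = M v := hcM
  have hci : c⁻¹ * z = z * c⁻¹ := (Commute.inv_left hc).eq
  have hcMinv : ∀ v, K.act c⁻¹ v = Minv v := fun v => by
    conv_lhs => rw [← M_Minv v, ← hcM]
    exact K.act_inv_cancel H hc _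
  obtain ⟨r', hr', hur'⟩ := S.exists_R A2
  have hr'2 : r' * r' = 1 := by rw [S.sq_R hr', hur', base_line.2.1, S.el_zero]
  set d := c * r' * c⁻¹ with hd
  set y := c * x * c⁻¹ with hydef
  have hy : y ∈ Q := H.norm c hc x S.hx
  have hyv : K.vec y = inj A1 := by rw [← K.act_vec H hc S.hx, S.hxv, hcM, M_x0]
  have hyx : y * x = x * y := (S.comm_x_iff hy).2 (by rw [hyv]; rfl)
  have hdz : d * z = z * d := ((Commute.mul_left hc (S.R_z hr')).mul_left hci).eq
  have hact : ∀ v, K.act d v = D0 v := fun v => by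
    rw [hd, K.act_mul H (Commute.mul_left hc (S.R_z hr')).eq hci, K.act_mul H hc (S.R_z hr'), hcMinv, S.act_R hr',
      hcM, hur', M_E]
  have hcc : ∀ {b : G}, b ∈ Q → c⁻¹ * b * c ∈ Q ∧ K.vec (c⁻¹ * b * c) = Minv (K.vec b) := by
    intro b hb
    have h := H.norm c⁻¹ hci b hb
    have h' := K.act_vec H hci hb
    rw [inv_inv] at h h'
    exact ⟨h, h'.symm.trans (hcMinv _)⟩
  have hlift : ∀ {b : G}, b ∈ Q → (K.vec b).1.2 = 0 → BW (K.vec b).2 A1 = 0 → BW (K.vec b).2 A2 = 0 →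
      d * b = b * d := by
    intro b hb h1 h2 h3
    obtain ⟨hbQ, hbv⟩ := hcc hb
    obtain ⟨k1, k2⟩ := Minv_perp _ h1 h2 h3
    have e := S.comm_el_zero hr' hbQ ((S.comm_x_iff hbQ).2 (by rw [hbv]; exact k1)) (by rw [hur', hbv]; exact k2)
    calc d * b = c * (r' * (c⁻¹ * b * c)) * c⁻¹ := by rw [hd]; group
      _ = c * (c⁻¹ * b * c * r') * c⁻¹ := by rw [e]
      _ = b * d := by rw [hd]; group
  have hdx : d * x = x * d :=
    hlift S.hx (by rw [S.hxv]; rfl) (by rw [S.hxv]; exact BW_zero_left _) (by rw [S.hxv]; exact BW_zero_left _)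
  have hd0 : K.act d x0 = x0 := by rw [hact]; decide +kernel
  -- elements of `Q` in the conjugate at `y`
  have hQy : ∀ {b : G}, b ∈ Q → g⁻¹ * (c⁻¹ * b * c) * g ∈ Q → (K.vec b).1.2 = 0 ∧
      ((K.vec b).2 = 0 ∧ K.vec b ≠ x0 ∨ (K.vec b).2 = A1) := by
    intro b hb hb'
    obtain ⟨hbQ, hbv⟩ := hcc hb
    obtain ⟨k1, k2⟩ := S.inter hbQ hb'
    have hb0 : K.vec b = M (K.vec (c⁻¹ * b * c)) := by rw [hbv, M_Minv]
    rcases zero_line _ k1 k2 with k | k <;> rw [hb0, k]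
    · exact ⟨by decide +kernel, Or.inl (by decide +kernel)⟩
    · rw [M_x0]; exact ⟨rfl, Or.inr rfl⟩
  have hQy_conj : ∀ {b : G}, b * y = y * b →
      g⁻¹ * (c⁻¹ * (b * d * b⁻¹) * c) * g ∈ Q := by
    intro b hby
    have h := S.norm_x (d := c⁻¹ * b * c) (b := r') (by
      calc c⁻¹ * b * c * x = c⁻¹ * (b * y) * c := by rw [hydef]; group
        _ = c⁻¹ * (y * b) * c := by rw [hby]
        _ = x * (c⁻¹ * b * c) := by rw [hydef]; group) (S.mem_R.1 hr').1
    rwa [show c⁻¹ * b * c * r' * (c⁻¹ * b * c)⁻¹ = c⁻¹ * (b * d * b⁻¹) * c by rw [hd]; group] at h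
  have hgd : g⁻¹ * (c⁻¹ * d * c) * g ∈ Q := by
    rw [show c⁻¹ * d * c = r' by rw [hd]; group]; exact (S.mem_R.1 hr').1
  have hdd : d * d = 1 := by
    rw [hd, show c * r' * c⁻¹ * (c * r' * c⁻¹) = c * (r' * r') * c⁻¹ by group, hr'2]; group
  -- commutators with `R`
  have hdr : ∀ r ∈ S.R, BW (S.ur r) A1 = 0 → BW (S.ur r) A2 = 0 →
      ∃ i, d * r * d⁻¹ * r⁻¹ = S.el i 0 := by
    intro r hr h1 h2
    have hrz := S.R_z hr
    have heQ : d * r * d⁻¹ * r⁻¹ ∈ Q := by
      refine K.mem_of_act H ((Commute.mul_left hdz hrz).mul_left (Commute.inv_left hdz) |>.mul_left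
        (Commute.inv_left hrz)).eq fun v => ?_
      rw [K.act_mul H (((Commute.mul_left hdz hrz).mul_left (Commute.inv_left hdz))).eq (Commute.inv_left hrz).eq,
        K.act_mul H (Commute.mul_left hdz hrz).eq (Commute.inv_left hdz).eq, K.act_mul H hdz hrz]
      have hcomm : ∀ w, K.act d (K.act r w) = K.act r (K.act d w) := fun w => by
        rw [hact, hact, S.act_R hr, E_D0 _ h1 h2]
      rw [hcomm, ← K.act_mul H hdz (Commute.inv_left hdz).eq, mul_inv_cancel, K.act_one H,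
        ← K.act_mul H hrz (Commute.inv_left hrz).eq, mul_inv_cancel, K.act_one H]
    have heg : g⁻¹ * (d * r * d⁻¹ * r⁻¹) * g ∈ Q := by
      rw [show g⁻¹ * (d * r * d⁻¹ * r⁻¹) * g = g⁻¹ * (d * r * d⁻¹) * g * (g⁻¹ * r * g)⁻¹ by group]
      exact mul_mem (S.mem_R.1 (S.conj_R hdz hdx hd0 hr).1).1 (inv_mem (S.mem_R.1 hr).1)
    obtain ⟨i, j, e⟩ := S.exists_el heQ (S.inter heQ heg).1 (S.inter heQ heg).2
    have hry : r * y = y * r := S.comm_el_zero hr hy hyx (by rw [hyv]; exact h1)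
    have hey : g⁻¹ * (c⁻¹ * (d * r * d⁻¹ * r⁻¹) * c) * g ∈ Q := by
      rw [show g⁻¹ * (c⁻¹ * (d * r * d⁻¹ * r⁻¹) * c) * g = g⁻¹ * (c⁻¹ * d * c) * g *
        (g⁻¹ * (c⁻¹ * (r * d * r⁻¹) * c) * g)⁻¹ by group]
      exact mul_mem hgd (inv_mem (hQy_conj hry))
    obtain ⟨k1, k2⟩ := hQy heQ hey
    rw [e, S.vec_el] at k2
    refine ⟨i, ?_⟩
    rw [e]
    rcases zcases j with rfl | rfl
    · rfl
    · rcases k2 with ⟨-, k⟩ | k
      · exact absurd rfl k
      · exact absurd k.symm base_line.2.2.2.1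
  choose rep hrR hru using S.exists_R
  let f : W → ZMod 2 := fun u => S.zeta (d * rep u * d⁻¹ * (rep u)⁻¹)
  have hval : ∀ {r : G}, r ∈ S.R → BW (S.ur r) A1 = 0 → BW (S.ur r) A2 = 0 →
      d * r * d⁻¹ * r⁻¹ = S.el (f (S.ur r)) 0 := by
    intro r hr h1 h2
    obtain ⟨i, j, e⟩ := S.ur_congr (hrR _) hr (hru (S.ur r))
    obtain ⟨k, hk⟩ := hdr _ (hrR (S.ur r)) (by rw [hru]; exact h1) (by rw [hru]; exact h2)
    have hf : f (S.ur r) = k := by simp only [f]; rw [hk, S.zeta_el]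
    rw [hf, ← hk]
    conv_lhs => rw [e]
    calc d * (rep (S.ur r) * S.el i j) * d⁻¹ * (rep (S.ur r) * S.el i j)⁻¹
        = d * rep (S.ur r) * (S.el i j * d⁻¹) * (S.el i j)⁻¹ * (rep (S.ur r))⁻¹ := by group
      _ = d * rep (S.ur r) * (d⁻¹ * S.el i j) * (S.el i j)⁻¹ * (rep (S.ur r))⁻¹ := by
          rw [S.el_comm (Commute.inv_left hdz).eq (Commute.inv_left hdx).eq i j]
      _ = _ := by group
  have hfadd : ∀ u v : W, BW u A1 = 0 → BW u A2 = 0 → BW v A1 = 0 → BW v A2 = 0 → f (u + v) = f u + f v := by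
    intro u v u1 u2 v1 v2
    have hu := hval (hrR u) (by rw [hru]; exact u1) (by rw [hru]; exact u2)
    have hv := hval (hrR v) (by rw [hru]; exact v1) (by rw [hru]; exact v2)
    have hm := mul_mem (hrR u) (hrR v)
    have hum : S.ur (rep u * rep v) = u + v := by rw [S.ur_mul (hrR u) (hrR v), hru, hru]
    have huv := hval hm (by rw [hum, BW_add_left, u1, v1, add_zero]) (by rw [hum, BW_add_left, u2, v2, add_zero])
    rw [hru] at hu hv
    rw [hum] at huv
    have e : d * (rep u * rep v) * d⁻¹ * (rep u * rep v)⁻¹ = S.el (f u) 0 * S.el (f v) 0 := by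
      calc d * (rep u * rep v) * d⁻¹ * (rep u * rep v)⁻¹ =
          (d * rep u * d⁻¹ * (rep u)⁻¹) * (rep u * (d * rep v * d⁻¹ * (rep v)⁻¹)) * (rep u)⁻¹ := by group
        _ = _ := by rw [hu, hv, S.R_el (hrR u)]; group
    rw [huv, S.el_mul] at e
    exact (S.el_inj e).1
  -- invariance under two transvection pairs
  have hinv : ∀ a : W, qW 0 (HS + a) = 1 → (∀ v, refl (inj HS) (refl (inj (HS + a)) (D0 v)) =
      D0 (refl (inj HS) (refl (inj (HS + a)) v))) → refl (inj HS) (refl (inj (HS + a)) (inj A1)) = inj A1 →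
      reflW HS (reflW (HS + a) H1) = H1 + a → BW a A1 = 0 → BW a A2 = 0 → f a = 0 := by
    intro a hq hcm hfix hmove a1 a2
    obtain ⟨t0, ht0, ht0a⟩ := K.pair H ((qV_inj 0 HS).trans HS_facts.1) ((qV_inj 0 (HS + a)).trans hq)
    obtain ⟨t, htz, htx, hty, hta'⟩ := S.adjust hy hyv ht0 (by rw [ht0a, refl_inj_x0, refl_inj_x0])
      (by rw [ht0a, hfix])
    have hta : ∀ v, K.act t v = refl (inj HS) (refl (inj (HS + a)) v) := fun v => (hta' v).trans (ht0a v)
    have htx0 : K.act t x0 = x0 := by rw [hta, refl_inj_x0, refl_inj_x0]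
    set k := t * d * t⁻¹ * d⁻¹ with hk
    have htd : t * d * t⁻¹ * z = z * (t * d * t⁻¹) :=
      ((Commute.mul_left htz hdz).mul_left (Commute.inv_left htz)).eq
    have hkQ : k ∈ Q := by
      refine K.mem_of_act H (Commute.mul_left htd (Commute.inv_left hdz).eq).eq fun v => ?_
      rw [K.act_mul H htd (Commute.inv_left hdz).eq, K.act_mul H (Commute.mul_left htz hdz).eq (Commute.inv_left htz).eq,
        K.act_mul H htz hdz]
      have hcomm : ∀ w, K.act t (K.act d w) = K.act d (K.act t w) := fun w => by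
        rw [hact, hact, hta, hta, hcm]
      rw [hcomm, ← K.act_mul H htz (Commute.inv_left htz).eq, mul_inv_cancel, K.act_one H,
        ← K.act_mul H hdz (Commute.inv_left hdz).eq, mul_inv_cancel, K.act_one H]
    have hky : g⁻¹ * (c⁻¹ * k * c) * g ∈ Q := by
      rw [show g⁻¹ * (c⁻¹ * k * c) * g = g⁻¹ * (c⁻¹ * (t * d * t⁻¹) * c) * g * (g⁻¹ * (c⁻¹ * d * c) * g)⁻¹ by
        rw [hk]; group]
      exact mul_mem (hQy_conj hty) (inv_mem hgd)
    obtain ⟨hk1, hk2⟩ := hQy hkQ hky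
    have hkx : k * x = x * k := (S.comm_x_iff hkQ).2 hk1
    have hH : BW (H1 + a) A1 = 0 ∧ BW (H1 + a) A2 = 0 := by
      rw [BW_add_left, BW_add_left, a1, a2, plane_basic.1, plane_basic.2.1]; simp
    have hu : BW (S.ur (rep H1)) A1 = 0 ∧ BW (S.ur (rep H1)) A2 = 0 := by
      rw [hru]; exact ⟨plane_basic.1, plane_basic.2.1⟩
    obtain ⟨hm, hum⟩ := S.conj_R htz htx htx0 (hrR H1)
    have hres : K.res t H1 = H1 + a := by
      show (K.act t (inj H1)).2 = _
      rw [hta, refl_inj, refl_inj, hmove]; rfl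
    rw [hru, hres] at hum
    set r2 := t * rep H1 * t⁻¹ with hr2
    have e1 := hval (hrR H1) hu.1 hu.2
    have e2 := hval hm (by rw [hum]; exact hH.1) (by rw [hum]; exact hH.2)
    rw [hru] at e1
    rw [hum] at e2
    have hkr : r2 * k = k * r2 := S.comm_el_zero hm hkQ hkx (by
      rw [hum]
      rcases hk2 with ⟨h, -⟩ | h <;> rw [h]
      exacts [BW_zero_right _, hH.1])
    have e3 : S.el (f H1) 0 = S.el (f (H1 + a)) 0 := by
      calc S.el (f H1) 0 = t * S.el (f H1) 0 * t⁻¹ := by rw [S.el_comm htz htx, mul_inv_cancel_right]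
        _ = t * d * t⁻¹ * r2 * (t * d * t⁻¹)⁻¹ * r2⁻¹ := by rw [← e1, hr2]; group
        _ = k * (d * r2 * d⁻¹ * r2⁻¹) * (r2 * k⁻¹) * r2⁻¹ := by rw [hk]; group
        _ = _ := by
          rw [e2, show r2 * k⁻¹ = k⁻¹ * r2 from (Commute.inv_right hkr).eq,
            S.el_comm (H.extra.comm_z hkQ) hkx]; group
    have h := (S.el_inj e3).1
    rw [hfadd H1 a plane_basic.1 plane_basic.2.1 a1 a2] at h
    exact left_eq_add.mp h
  have hA1 : f A1 = 0 := hinv A1 HS_facts.2.1 (fun v => (tau_D0 v).1) tau_fix.1 HS_facts.2.2.2.1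
    (BW_self _) plane_basic.2.2.2.2.1
  have hA2 : f A2 = 0 := hinv A2 HS_facts.2.2.1 (fun v => (tau_D0 v).2) tau_fix.2 HS_facts.2.2.2.2
    (by rw [BW_comm]; exact plane_basic.2.2.2.2.1) (BW_self _)
  refine ⟨d, f H1 • H2 + f H2 • H1, hdz, hdx, hdd, hact, fun q hq => hlift hq, ?_, fun r hr h1 h2 => ?_⟩
  · simp [BW_add_left, BW_smul_left, plane_basic.1, plane_basic.2.1, plane_basic.2.2.1, plane_basic.2.2.2.1]
  · rw [hval hr h1 h2]
    congr 1
    obtain ⟨a, b, hab⟩ := plane_decomp _ h1 h2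
    have f0' : f 0 = 0 := by
      have := hfadd 0 0 (BW_zero_left _) (BW_zero_left _) (BW_zero_left _) (BW_zero_left _)
      rw [add_zero] at this
      exact left_eq_add.mp this
    have hs : ∀ (t : ZMod 2) (v : W), f (t • v) = t * f v := fun t v => by
      rcases zcases t with rfl | rfl <;> simp [f0']
    conv_lhs => rw [hab]
    have hb : ∀ (t : ZMod 2) {v : W}, BW v A1 = 0 ∧ BW v A2 = 0 → BW (t • v) A1 = 0 ∧ BW (t • v) A2 = 0 := by
      intro t v hv; simp [BW_smul_left, hv.1, hv.2]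
    have ha := hb a (v := A1) ⟨BW_self _, plane_basic.2.2.2.2.1⟩
    have hb' := hb b (v := A2) ⟨by rw [BW_comm]; exact plane_basic.2.2.2.2.1, BW_self _⟩
    have hh1 := hb (BW (S.ur r) H2) (v := H1) ⟨plane_basic.1, plane_basic.2.1⟩
    have hh2 := hb (BW (S.ur r) H1) (v := H2) ⟨plane_basic.2.2.1, plane_basic.2.2.2.1⟩
    rw [hfadd _ _ (by rw [BW_add_left, BW_add_left, ha.1, hb'.1, hh1.1]; rfl)
        (by rw [BW_add_left, BW_add_left, ha.2, hb'.2, hh1.2]; rfl) hh2.1 hh2.2,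
      hfadd _ _ (by rw [BW_add_left, ha.1, hb'.1]; rfl) (by rw [BW_add_left, ha.2, hb'.2]; rfl) hh1.1 hh1.2,
      hfadd _ _ ha.1 ha.2 hb'.1 hb'.2, hs, hs, hs, hs, hA1, hA2, BW_add_right]
    rcases zcases (f H1) with e1 | e1 <;> rcases zcases (f H2) with e2 | e2 <;>
      simp [e1, e2, BW_zero_right]

end CfsgLib.CoOneType
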