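import Mathlib
import Cfsg.Agent.Lib.CoOneType.Lift

/-!
Involutory isometries induced by the centralizer: normal form at a suitable singular point.
-/

set_option autoImplicit false
set_option linter.style.longLine false
set_option maxHeartbeats 2000000
set_option synthInstance.maxSize 8000
set_option synthInstance.maxHeartbeats 1000000

namespace CfsgLib.CoOneType

open Subgroup

theorem plane_span : ∀ y : W, qW 0 y = 0 → BW y A1 = 0 → BW y A2 = 0 → ¬ (BW y H1 = 0 ∧ BW y H2 = 0) →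
    ∀ y' : W, qW 0 y' = 0 → BW y' A1 = 0 → BW y' A2 = 0 → BW y y' = 0 →
      ∃ a b c : ZMod 2, y' = a • A1 + b • A2 + c • y := by decide +kernel

theorem line_span : ∀ y : W, BW y A1 = 0 → BW y A2 = 0 → BW y H1 = 0 → BW y H2 = 0 →
    ∃ a b : ZMod 2, y = a • A1 + b • A2 := by decide +kernel

theorem sig0_fixed : ∀ u : W, sig0 u + u = 0 → BW u A1 = 0 ∧ BW u A2 = 0 := by decide +kernel

theorem D0_facts : D0 x0 = x0 ∧ D0 f0 = f0 ∧ (∀ v, qV 0 (D0 v) = qV 0 v) := by decide +kernel

theorem D0_add (a b : V) : D0 (a + b) = D0 a + D0 b := by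
  refine Prod.ext rfl ?_
  show sig0 (a.2 + b.2) = sig0 a.2 + sig0 b.2
  simp only [sig0, BW_add_left, add_smul]; abel

theorem B_nondeg {a b : V} (h : ∀ v, B v a = B v b) : a = b := by
  refine eqV ?_
  by_contra hne
  obtain ⟨v, hv⟩ := partnerV _ hne
  rw [B_add_right, h, CharTwo.add_self_eq_zero] at hv
  exact zero_ne_one hv

/-- An involutory isometry. -/
structure Inv (f : V → V) : Prop where
  add : ∀ a b, f (a + b) = f a + f b
  q : ∀ v, qV 0 (f v) = qV 0 v
  inv : ∀ v, f (f v) = v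

namespace Inv

variable {f : V → V} (hf : Inv f)
include hf

theorem zero : f 0 = 0 := by
  have h := hf.add 0 0
  rw [add_zero] at h
  exact left_eq_add.mp h

theorem hB (a b : V) : B (f a) (f b) = B a b := by
  have h := hf.q (a + b)
  rw [hf.add, qV_add, qV_add, hf.q, hf.q] at h
  exact add_left_cancel h

theorem adj (a b : V) : B (f a) b = B a (f b) := by
  rw [← hf.hB (f a) b, hf.inv]

theorem q_move (v : V) : qV 0 (f v + v) = B (f v) v := by
  rw [qV_add, hf.q, CharTwo.add_self_eq_zero, zero_add]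

theorem move_perp (v w : V) : B (f v + v) (f w + w) = 0 := by
  rw [B_add_left, B_add_right, B_add_right, hf.hB, hf.adj v w]
  linear_combination CharTwo.add_self_eq_zero (B v w) + CharTwo.add_self_eq_zero (B v (f w))

theorem q_move_add (v w : V) : qV 0 (f (v + w) + (v + w)) = qV 0 (f v + v) + qV 0 (f w + w) := by
  rw [hf.add, show f v + f w + (v + w) = (f v + v) + (f w + w) by abel, qV_add, hf.move_perp, add_zero]

theorem exists_fixed : ∃ v, v ≠ 0 ∧ qV 0 v = 0 ∧ f v = v := by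
  classical
  have : Fact (Nat.Prime 2) := ⟨Nat.prime_two⟩
  have hmem : ∀ v : {v : V // v ≠ 0 ∧ qV 0 v = 0}, f v.1 ≠ 0 ∧ qV 0 (f v.1) = 0 := fun v =>
    ⟨fun h => v.2.1 (by rw [← hf.inv v.1, h, hf.zero]), (hf.q _).trans v.2.2⟩
  let F : {v : V // v ≠ 0 ∧ qV 0 v = 0} → {v : V // v ≠ 0 ∧ qV 0 v = 0} := fun v => ⟨_, hmem v⟩
  have hF : Function.Involutive F := fun v => Subtype.ext (hf.inv v.1)
  obtain ⟨v, hv⟩ := Equiv.Perm.exists_fixed_point_of_prime (p := 2) (n := 1)
    (by rw [Fintype.card_subtype, singular_card]; decide)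
    (σ := hF.toPerm) (by
      rw [pow_one, pow_two]
      exact Equiv.ext fun v => hF v)
  exact ⟨v.1, v.2.1, v.2.2, congrArg Subtype.val hv⟩

theorem perp_tail (hx : f x0 = x0) (v : V) (hv : v.1.2 = 0) :
    (f v).1.2 = 0 ∧ (f v).2 = (f (inj v.2)).2 := by
  refine ⟨by rw [← B_x0, ← hx, hf.hB, B_x0, hv], ?_⟩
  obtain ⟨⟨a, b⟩, w⟩ := v
  obtain rfl : b = 0 := hv
  rcases zcases a with rfl | rfl
  · rfl
  · rw [show (((1, 0), w) : V) = x0 + inj w from Prod.ext (by simp [x0, inj]) (by simp [x0, inj]), hf.add, hx]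
    simp [x0, inj]

end Inv

/-- An involutory isometry of the residue space with all moves singular and mapping two given vectors to
`A1`, `A2` is `sig0`. -/
theorem line_unique {σ : W → W} (hadd : ∀ a b, σ (a + b) = σ a + σ b) (hq : ∀ w, qW 0 (σ w) = qW 0 w)
    (hinv : ∀ w, σ (σ w) = w) (halt : ∀ w, qW 0 (σ w + w) = 0) {v1 v2 : W}
    (h1 : σ v1 + v1 = A1) (h2 : σ v2 + v2 = A2) (h12 : BW A1 v2 = 1) (w : W) : σ w = sig0 w := by
  have hB : ∀ a b, BW (σ a) (σ b) = BW a b := fun a b => by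
    have h := hq (a + b)
    rw [hadd, qW_add, qW_add, hq, hq] at h
    exact add_left_cancel h
  have adj : ∀ a b, BW (σ a + a) b = BW a (σ b + b) := fun a b => by
    rw [BW_add_left, BW_add_right, ← hB (σ a) b, hinv]
  have alt : ∀ v, BW (σ v + v) v = 0 := fun v => by
    have h := halt v
    rw [qW_add, hq, CharTwo.add_self_eq_zero, zero_add] at h
    rw [BW_add_left, h, BW_self, add_zero]
  have nn : ∀ v, σ (σ v + v) + (σ v + v) = 0 := fun v => by
    rw [hadd, hinv, add_comm v, addW]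
  have hperp : ∀ v v', BW (σ v + v) (σ v' + v') = 0 := fun v v' => by rw [adj, nn, BW_zero_right]
  have hA : ∀ v, BW (σ v + v) A1 = 0 ∧ BW (σ v + v) A2 = 0 := fun v => by
    rw [← h1, ← h2]; exact ⟨hperp _ _, hperp _ _⟩
  have a11 : BW A1 v1 = 0 := by rw [← h1]; exact alt v1
  have a22 : BW A2 v2 = 0 := by rw [← h2]; exact alt v2
  have a21 : BW A2 v1 = 1 := by rw [← h2, adj, h1, BW_comm]; exact h12
  have hline : ∀ v, BW (σ v + v) H1 = 0 ∧ BW (σ v + v) H2 = 0 := by
    intro v3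
    by_contra hne
    set y := σ v3 + v3 with hy
    set v3' := v3 + BW y v2 • v1 + BW y v1 • v2 with hv3
    have hs : ∀ (t : ZMod 2) (v : W), σ (t • v) + t • v = t • (σ v + v) := fun t v => by
      have h0 : σ 0 = 0 := by
        have := hadd 0 0
        rw [add_zero] at this
        exact left_eq_add.mp this
      rcases zcases t with rfl | rfl <;> simp [h0]
    set y' := σ v3' + v3' with hy'
    have hyy : y' = y + BW y v2 • A1 + BW y v1 • A2 := by
      rw [hy', hv3, hadd, hadd, ← h1, ← h2, ← hs, ← hs, hy]; abel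
    have b1 : BW y' v1 = 0 := by
      rw [hyy, BW_add_left, BW_add_left, BW_smul_left, BW_smul_left, a11, a21, mul_zero, add_zero, mul_one,
        CharTwo.add_self_eq_zero]
    have b2 : BW y' v2 = 0 := by
      rw [hyy, BW_add_left, BW_add_left, BW_smul_left, BW_smul_left, h12, a22, mul_one, mul_zero, add_zero,
        CharTwo.add_self_eq_zero]
    have hne' : ¬ (BW y' H1 = 0 ∧ BW y' H2 = 0) := by
      rw [hyy]
      simpa [BW_add_left, BW_smul_left, BW_comm A1 H1, BW_comm A2 H1, BW_comm A1 H2, BW_comm A2 H2,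
        plane_basic.1, plane_basic.2.1, plane_basic.2.2.1, plane_basic.2.2.2.1] using hne
    have hy0 : y' ≠ 0 := fun e => hne' (by rw [e, BW_zero_left, BW_zero_left]; exact ⟨rfl, rfl⟩)
    obtain ⟨v, hv⟩ := partner y' hy0
    obtain ⟨a, b, c, habc⟩ := plane_span y' (halt _) (hA v3').1 (hA v3').2 hne' (σ v + v) (halt _) (hA v).1
      (hA v).2 (hperp _ _)
    have e1 : BW (σ v + v) v3' = 1 := by rw [adj, ← hy', BW_comm]; exact hv
    have c1 : BW A1 v3' = 0 := by rw [← h1, adj, ← hy', BW_comm]; exact b1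
    have c2 : BW A2 v3' = 0 := by rw [← h2, adj, ← hy', BW_comm]; exact b2
    rw [habc, BW_add_left, BW_add_left, BW_smul_left, BW_smul_left, BW_smul_left, c1, c2, hy', alt] at e1
    simp at e1
  obtain ⟨a, b, hab⟩ := line_span _ (hA w).1 (hA w).2 (hline w).1 (hline w).2
  have ea : a = BW w A2 := by
    have h := adj w v2
    rw [hab, h2, BW_add_left, BW_smul_left, BW_smul_left, h12, a22, mul_one, mul_zero, add_zero] at h
    exact h
  have eb : b = BW w A1 := by
    have h := adj w v1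
    rw [hab, h1, BW_add_left, BW_smul_left, BW_smul_left, a11, a21, mul_one, mul_zero, zero_add] at h
    exact h
  calc σ w = σ w + w + w := by rw [add_assoc, addW, add_zero]
    _ = sig0 w := by rw [hab, ea, eb, sig0]; abel

variable {G : Type*} [Group G] [Finite G] {z : G} {Q : Subgroup G}

namespace Coord

variable (K : Coord z Q 0) (H : Hyp z Q)
include K H

theorem inv_act {t : G} (ht : t * z = z * t) (h2 : t * t = 1) : Inv (K.act t) :=
  ⟨K.act_add H ht, K.act_q H ht, fun v => by rw [← K.act_mul H ht ht, h2, K.act_one H]⟩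

theorem act_cancel {c : G} (hc : c * z = z * c) (v : V) : K.act c (K.act c⁻¹ v) = v := by
  rw [← K.act_mul H hc (Commute.inv_left hc).eq, mul_inv_cancel, K.act_one H]

theorem inv_conj {c : G} (hc : c * z = z * c) {f : V → V} (hf : Inv f) :
    Inv fun v => K.act c (f (K.act c⁻¹ v)) := by
  have hci : c⁻¹ * z = z * c⁻¹ := (Commute.inv_left hc).eq
  refine ⟨fun a b => ?_, fun v => ?_, fun v => ?_⟩
  · show K.act c (f (K.act c⁻¹ (a + b))) = _
    rw [K.act_add H hci, hf.add, K.act_add H hc]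
  · show qV 0 (K.act c (f (K.act c⁻¹ v))) = _
    rw [K.act_q H hc, hf.q, K.act_q H hci]
  · show K.act c (f (K.act c⁻¹ (K.act c (f (K.act c⁻¹ v))))) = v
    rw [K.act_inv_cancel H hc, hf.inv, K.act_cancel H hc]

theorem resMoveLine {A U : W} (hA : qW 0 A = 0) (hU : qW 0 U = 0) (hAU : BW A U = 0) (hA0 : A ≠ 0)
    (hU0 : U ≠ 0) (hne : A ≠ U) :
    ∃ c : G, c * z = z * c ∧ K.act c x0 = x0 ∧ K.res c A = A1 ∧ K.res c U = A2 := by
  obtain ⟨c, hc, hcx, hcA⟩ := K.resMove H hA0 hA base_line.2.2.2.1 base_line.1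
  have hinj := Function.LeftInverse.injective (K.res_inv_cancel H hc hcx)
  have hzero : K.res c 0 = 0 := by
    have := K.res_add H hc 0 0
    rw [add_zero] at this
    exact left_eq_add.mp this
  obtain ⟨a, ⟨ha, ha1⟩, b, ⟨hb, hb1⟩, hab⟩ := moveW_second (K.res c U) ((K.res_q H hc hcx U).trans hU)
    (by rw [← hcA, K.res_B H hc hcx, hAU]) (fun e => hU0 (hinj (e.trans hzero.symm)))
    (fun e => hne (hinj (hcA.trans e.symm)))
  obtain ⟨d, hd, hdx, hdr⟩ := K.resPair H ha hb
  refine ⟨d * c, (Commute.mul_left hd hc).eq, by rw [K.act_mul H hd hc, hcx, hdx], ?_, ?_⟩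
  · rw [K.res_mul H hd hc hdx hcx, hcA, hdr]
    simp [reflW, BW_comm A1 b, BW_comm A1 a, ha1, hb1]
  · rw [K.res_mul H hd hc hdx hcx, hdr, hab]

/-- Normal form of an involutory isometry fixing the base point with singular moves on the residue space. -/
theorem res_normal {f : V → V} (hf : Inv f) (hx : f x0 = x0)
    (halt : ∀ w, qW 0 ((f (inj w)).2 + w) = 0) :
    ∃ c : G, c * z = z * c ∧ K.act c x0 = x0 ∧
      ((∃ u, ∀ v, K.act c (f (K.act c⁻¹ v)) = E u v) ∨
        ∃ u, BW u A1 = 0 ∧ BW u A2 = 0 ∧ ∀ v, K.act c (f (K.act c⁻¹ v)) = D0 (E u v)) := by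
  by_cases hid : ∀ w, (f (inj w)).2 = w
  · refine ⟨1, by simp, K.act_one H x0, Or.inl ⟨(f f0).2, fun v => ?_⟩⟩
    rw [inv_one, K.act_one H, K.act_one H]
    exact congrFun (map_eq_E hf.add hf.q hx hid) v
  let σ : W → W := fun w => (f (inj w)).2
  have σadd : ∀ a b, σ (a + b) = σ a + σ b := fun a b => by
    show (f (inj (a + b))).2 = _
    rw [inj_add, hf.add]; rfl
  have hperp : ∀ w, (f (inj w)).1.2 = 0 := fun w => (hf.perp_tail hx _ rfl).1
  have σq : ∀ w, qW 0 (σ w) = qW 0 w := fun w => by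
    have h := hf.q (inj w)
    rw [qV_inj] at h
    simpa [qV, hperp w] using h
  have σinv : ∀ w, σ (σ w) = w := fun w => by
    show (f (inj (f (inj w)).2)).2 = w
    rw [← (hf.perp_tail hx _ (hperp w)).2, hf.inv]; rfl
  obtain ⟨v1, hv1⟩ := not_forall.1 hid
  have hA0 : σ v1 + v1 ≠ 0 := fun e => hv1 (eqW e)
  obtain ⟨v2, hv2⟩ := partner _ hA0
  have σB : ∀ a b, BW (σ a) (σ b) = BW a b := fun a b => by
    have h := σq (a + b)
    rw [σadd, qW_add, qW_add, σq, σq] at h
    exact add_left_cancel h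
  have hNN : ∀ v v', BW (σ v + v) (σ v' + v') = 0 := fun v v' => by
    rw [BW_add_left, BW_add_right, BW_add_right, σB, ← σB v (σ v'), σinv]
    linear_combination CharTwo.add_self_eq_zero (BW v v') + CharTwo.add_self_eq_zero (BW (σ v) v')
  have hU : BW (σ v2 + v2) v1 = 1 := by
    rw [← hv2, BW_add_left, BW_add_left, ← σB (σ v2) v1, σinv, BW_comm v2 (σ v1), BW_comm v2 v1]
  have halt' : ∀ v, BW (σ v + v) v = 0 := fun v => by
    have h : qW 0 (σ v + v) = 0 := halt v
    rw [qW_add, σq, CharTwo.add_self_eq_zero, zero_add] at h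
    rw [BW_add_left, h, BW_self, add_zero]
  obtain ⟨c, hc, hcx, hcA, hcU⟩ := K.resMoveLine H (halt v1) (halt v2) (hNN v1 v2) hA0
    (fun e => by
      have : σ v2 + v2 = 0 := e
      rw [this, BW_zero_left] at hU
      exact zero_ne_one hU)
    (fun e => by
      have : σ v1 + v1 = σ v2 + v2 := e
      rw [← this, halt'] at hU
      exact zero_ne_one hU)
  have hci : c⁻¹ * z = z * c⁻¹ := (Commute.inv_left hc).eq
  have hcix : K.act c⁻¹ x0 = x0 := by
    conv_lhs => rw [← hcx]
    exact K.act_inv_cancel H hc x0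
  set f' := fun v => K.act c (f (K.act c⁻¹ v)) with hf'
  have hf'inv : Inv f' := K.inv_conj H hc hf
  have hf'x : f' x0 = x0 := by simp only [hf', hcix, hx, hcx]
  let τ : W → W := fun w => (f' (inj w)).2
  have hτ : ∀ w, τ w = K.res c (σ (K.res c⁻¹ w)) := by
    intro w
    show (K.act c (f (K.act c⁻¹ (inj w)))).2 = _
    obtain ⟨h1, h2⟩ := hf.perp_tail hx _ (K.perp H hci hcix w)
    rw [K.res_perp H hc hcx _ h1, h2]
    rfl
  have τadd : ∀ a b, τ (a + b) = τ a + τ b := fun a b => by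
    rw [hτ, hτ, hτ, K.res_add H hci, σadd, K.res_add H hc]
  have τq : ∀ w, qW 0 (τ w) = qW 0 w := fun w => by
    rw [hτ, K.res_q H hc hcx, σq, K.res_q H hci hcix]
  have τinv : ∀ w, τ (τ w) = w := fun w => by
    rw [hτ, hτ, K.res_inv_cancel H hc hcx, σinv]
    have := K.res_inv_cancel H hci hcix w
    rwa [inv_inv] at this
  have τmove : ∀ w, τ (K.res c w) + K.res c w = K.res c (σ w + w) := fun w => by
    rw [hτ, K.res_inv_cancel H hc hcx, K.res_add H hc]
  have τalt : ∀ w, qW 0 (τ w + w) = 0 := fun w => by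
    have h := τmove (K.res c⁻¹ w)
    have e := K.res_inv_cancel H hci hcix w
    rw [inv_inv] at e
    rw [e] at h
    rw [h, K.res_q H hc hcx]
    exact halt _
  have h12 : BW A1 (K.res c v2) = 1 := by rw [← hcA, K.res_B H hc hcx]; exact hv2
  have hsig : ∀ w, τ w = sig0 w :=
    line_unique τadd τq τinv τalt ((τmove v1).trans hcA) ((τmove v2).trans hcU) h12
  set u := (f' (D0 f0)).2 with hu
  have hE : ∀ v, f' (D0 v) = E u v := congrFun (map_eq_E (f := fun v => f' (D0 v))
    (fun a b => by rw [D0_add, hf'inv.add]) (fun v => (hf'inv.q _).trans (D0_facts.2.2 v))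
    (by rw [D0_facts.1, hf'x]) (fun w => by
      rw [(hf'inv.perp_tail hf'x (D0 (inj w)) rfl).2]
      show τ (sig0 w) = w
      rw [hsig, sig0_invol]))
  have hf'E : ∀ v, f' v = E u (D0 v) := fun v => by rw [← hE, D0_invol]
  have hu12 : BW u A1 = 0 ∧ BW u A2 = 0 := by
    refine sig0_fixed u ?_
    have h := hf'inv.inv f0
    rw [hf'E f0, D0_facts.2.1, hf'E] at h
    have h2 := congrArg (fun v : V => v.2) h
    simpa [tail_E, D0, E, f0] using h2
  exact ⟨c, hc, hcx, Or.inr ⟨u, hu12.1, hu12.2, fun v => (hf'E v).trans (E_D0 u hu12.1 hu12.2 v)⟩⟩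

end Coord

namespace Base

variable {K : Coord z Q 0} {x g : G} (S : Base K x g)
include S

/-- Normal form of an involution centralizing `z`. -/
theorem normal {d : G} {Φ : W} (L : Line S d Φ) {t : G} (ht : t * z = z * t) (h2 : t * t = 1) :
    ∃ c, c * z = z * c ∧ ((∃ u, ∀ v, K.act (c * t * c⁻¹) v = E u v) ∨
      ∃ u, BW u A1 = 0 ∧ BW u A2 = 0 ∧ ∀ v, K.act (c * t * c⁻¹) v = D0 (E u v)) := by
  classical
  have H := S.hyp
  have hT := K.inv_act H ht h2
  obtain ⟨c0, hc0⟩ := dual (fun v => qV 0 (K.act t v + v)) hT.q_move_add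
  -- the point to be moved to the base point
  obtain ⟨a, ha, haq, haf, hperp⟩ : ∃ a, a ≠ 0 ∧ qV 0 a = 0 ∧ K.act t a = a ∧
      ∀ v, B v a = 0 → qV 0 (K.act t v + v) = 0 := by
    by_cases h0 : c0 = 0
    · obtain ⟨a, h1, h2, h3⟩ := hT.exists_fixed
      exact ⟨a, h1, h2, h3, fun v _ => by rw [hc0, h0, B_zero_right]⟩
    have hfix : K.act t c0 = c0 := B_nondeg fun v => by
      rw [← hT.adj, ← hc0, ← hc0]
      have e : K.act t (K.act t v) + K.act t v = K.act t v + v := by rw [hT.inv, add_comm]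
      rw [e]
    refine ⟨c0, h0, ?_, hfix, fun v hv => (hc0 v).trans hv⟩
    by_contra hq
    have hq1 := eq_one hq
    set f' := fun v => refl c0 (K.act t v) with hf'
    have hcomm : ∀ v, K.act t (refl c0 v) = refl c0 (K.act t v) := fun v => by
      simp only [refl]
      rw [hT.add, hT.adj v c0, hfix]
      rcases zcases (B v c0) with k | k <;> simp [k, hfix, hT.zero]
    have hf'inv : Inv f' := ⟨fun p r => by simp only [hf', hT.add, refl_add],
      fun v => by simp only [hf']; rw [refl_q 0 c0 _ (Or.inl hq1), hT.q],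
      fun v => by simp only [hf']; rw [hcomm, hT.inv, refl_refl]⟩
    have halt : ∀ v, qV 0 (f' v + v) = 0 := by
      intro v
      have e : f' v + v = (K.act t v + v) + B v c0 • c0 := by
        simp only [hf', refl, hT.adj v c0, hfix]; abel
      rw [e]
      rcases zcases (B v c0) with k | k
      · rw [k, zero_smul, add_zero, hc0, k]
      · rw [k, one_smul, qV_add, hc0, k, hq1, B_add_left, hT.adj, hfix, CharTwo.add_self_eq_zero]
        simp [CharTwo.add_self_eq_zero]
    obtain ⟨b, hb, hbq, hbf⟩ := hf'inv.exists_fixed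
    obtain ⟨c1, hc1, hc1b⟩ := K.transitive H (w := x0) hb hbq (by decide) (by decide)
    have hc1i : c1⁻¹ * z = z * c1⁻¹ := (Commute.inv_left hc1).eq
    have hf1 := K.inv_conj H hc1 hf'inv
    have hf1x : K.act c1 (f' (K.act c1⁻¹ x0)) = x0 := by
      rw [← hc1b, K.act_inv_cancel H hc1, hbf]
    obtain ⟨c2, hc2, -, hcase⟩ := K.res_normal H hf1 hf1x (fun w => by
      have h := halt (K.act c1⁻¹ (inj w))
      rw [← K.act_q H hc1, K.act_add H hc1, K.act_cancel H hc1] at h
      have hp := (hf1.perp_tail hf1x (inj w) rfl).1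
      beta_reduce at hp
      simp only [qV, Prod.fst_add, Prod.snd_add, hp] at h
      simpa [inj] using h)
    obtain ⟨e, he, heact⟩ : ∃ e, e * z = z * e ∧
        ∀ v, K.act c2 (K.act c1 (f' (K.act c1⁻¹ (K.act c2⁻¹ v)))) = K.act e v := by
      rcases hcase with ⟨u, hu⟩ | ⟨u, -, -, hu⟩
      · obtain ⟨r, hr, hur⟩ := S.exists_R u
        exact ⟨r, S.R_z hr, fun v => by rw [hu, S.act_R hr, hur]⟩
      · obtain ⟨r, hr, hur⟩ := S.exists_R u
        exact ⟨d * r, (Commute.mul_left L.dz (S.R_z hr)).eq, fun v => by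
          rw [hu, K.act_mul H L.dz (S.R_z hr), L.act, S.act_R hr, hur]⟩
    set c := c2 * c1 with hcdef
    have hc : c * z = z * c := (Commute.mul_left hc2 hc1).eq
    have key : ∀ v, refl c0 (K.act t v) = K.act (c⁻¹ * e * c) v := by
      intro v
      have h := heact (K.act c v)
      rw [hcdef, K.act_mul H hc2 hc1, K.act_inv_cancel H hc2, K.act_inv_cancel H hc1] at h
      rw [K.act_mul H (Commute.mul_left (Commute.inv_left hc) he).eq hc,
        K.act_mul H (Commute.inv_left hc).eq he, hcdef, K.act_mul H hc2 hc1 v, ← h, ← K.act_mul H hc2 hc1,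
        ← hcdef, K.act_inv_cancel H hc]
    have hce : c⁻¹ * e * c * z = z * (c⁻¹ * e * c) :=
      ((Commute.mul_left (Commute.inv_left hc) he).mul_left hc).eq
    refine K.no_refl H hq1 (c := c⁻¹ * e * c * t) (Commute.mul_left hce ht).eq fun v => ?_
    rw [K.act_mul H hce ht, ← key, hT.inv]
  obtain ⟨c1, hc1, hc1a⟩ := K.transitive H (w := x0) ha haq (by decide) (by decide)
  have hc1i : c1⁻¹ * z = z * c1⁻¹ := (Commute.inv_left hc1).eq
  have hf1 := K.inv_conj H hc1 hT
  have hf1x : K.act c1 (K.act t (K.act c1⁻¹ x0)) = x0 := by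
    rw [← hc1a, K.act_inv_cancel H hc1, haf]
  obtain ⟨c2, hc2, -, hcase⟩ := K.res_normal H hf1 hf1x (fun w => by
    have h := hperp (K.act c1⁻¹ (inj w)) (by
      rw [← K.act_B H hc1, K.act_cancel H hc1, hc1a, B_x0]; rfl)
    rw [← K.act_q H hc1, K.act_add H hc1, K.act_cancel H hc1] at h
    have hp := (hf1.perp_tail hf1x (inj w) rfl).1
    beta_reduce at hp
    simp only [qV, Prod.fst_add, Prod.snd_add, hp] at h
    simpa [inj] using h)
  have hc := (Commute.mul_left hc2 hc1).eq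
  have hact : ∀ v, K.act (c2 * c1 * t * (c2 * c1)⁻¹) v =
      K.act c2 (K.act c1 (K.act t (K.act c1⁻¹ (K.act c2⁻¹ v)))) := by
    intro v
    rw [K.act_mul H (Commute.mul_left hc ht).eq (Commute.inv_left hc).eq, K.act_mul H hc ht, K.act_mul H hc2 hc1,
      mul_inv_rev, K.act_mul H hc1i (Commute.inv_left hc2).eq]
  refine ⟨c2 * c1, hc, ?_⟩
  rcases hcase with ⟨u, hu⟩ | ⟨u, h1, h2, hu⟩
  · exact Or.inl ⟨u, fun v => by rw [hact, hu]⟩
  · exact Or.inr ⟨u, h1, h2, fun v => by rw [hact, hu]⟩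

end Base

end CfsgLib.CoOneType
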