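import Mathlib
import Cfsg.Agent.Lib.CoOneType.Normal

/-!
At most three classes of involutions.
-/

set_option autoImplicit false
set_option linter.style.longLine false
set_option maxHeartbeats 2000000
set_option synthInstance.maxSize 8000
set_option synthInstance.maxHeartbeats 1000000

namespace CfsgLib.CoOneType

open Subgroup

theorem fixed_count : ∀ u : W, BW u A1 = 0 → BW u A2 = 0 → ¬ (BW u H1 = 0 ∧ BW u H2 = 0) →
    (Finset.univ.filter fun v : V => D0 (E u v) = v).card = 16 := by decide +kernel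

theorem line_point : ∀ u : W, BW u A1 = 0 → BW u A2 = 0 → BW u H1 = 0 → BW u H2 = 0 →
    ∃ a : V, (a ≠ 0 ∧ qV 0 a = 0 ∧ D0 (E u a) = a) ∧
      ∀ v : V, B v a = 0 → D0 (E u v) = v ∨ D0 (E u v) = v + a := by decide +kernel

theorem tail_fix : ∀ u : W, BW u A1 = 0 → BW u A2 = 0 → ¬ (BW u H1 = 0 ∧ BW u H2 = 0) →
    ∀ w : W, ∀ b : ZMod 2, sig0 (w + b • u) = w → b = 0 ∧ BW w A1 = 0 ∧ BW w A2 = 0 := by decide +kernel

theorem line_kill : ∀ u' : W, BW u' A1 = 0 → BW u' A2 = 0 → ∀ F : W, BW F A1 = 0 → BW F A2 = 0 →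
    BW F H1 = 0 → BW F H2 = 0 → BW u' F = 0 := by decide +kernel

theorem perp_line_count : (Finset.univ.filter fun u : W => BW u A1 = 0 ∧ BW u A2 = 0).card = 16 := by
  decide +kernel

/-- The computation in the hyperbolic plane `L⊥/L`, written in coordinates. -/
theorem plane_choice : ∀ c e c' e' f f' : ZMod 2, ¬ (c = 0 ∧ e = 0) →
    (c * e' + e * c') + c' * e' + (c * f' + e * f) = 0 → (c * e' + e * c') + c * e = 0 →
    (f + c' = 0 ∧ f' + e' = 0) ∨ (f + c' + c = 0 ∧ f' + e' + e = 0) := by decide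

theorem plane_forms : ∀ u : W, BW u A1 = 0 → BW u A2 = 0 →
    qW 0 u = BW u H1 * BW u H2 ∧ ∀ v : W, BW v A1 = 0 → BW v A2 = 0 →
      BW u v = BW u H1 * BW v H2 + BW u H2 * BW v H1 := by decide +kernel

theorem typ_fix : ∀ s t : ZMod 2, (∃ w : W, BW A1 w = s ∧ BW A2 w = t) ∧ ∃ w : W, BW U1 w = s ∧ BW W1 w = t := by
  decide +kernel

variable {G : Type*} [Group G] [Finite G] {z : G} {Q : Subgroup G}

theorem conj_sq_one {c t : G} (ht : t * t = 1) : c * t * c⁻¹ * (c * t * c⁻¹) = 1 := by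
  rw [show c * t * c⁻¹ * (c * t * c⁻¹) = c * (t * t) * c⁻¹ by group, ht]; group

theorem conj_comm_z {c t : G} (hc : c * z = z * c) (ht : t * z = z * t) :
    c * t * c⁻¹ * z = z * (c * t * c⁻¹) :=
  ((Commute.mul_left hc ht).mul_left (Commute.inv_left hc)).eq

namespace Coord

variable (K : Coord z Q 0) (H : Hyp z Q)
include K H

theorem act_conj_apply {c t : G} (hc : c * z = z * c) (ht : t * z = z * t) (v : V) :
    K.act (c * t * c⁻¹) (K.act c v) = K.act c (K.act t v) := by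
  rw [← K.act_mul H (conj_comm_z hc ht) hc, inv_mul_cancel_right, K.act_mul H hc ht]

theorem fixed_card_conj {c t : G} (hc : c * z = z * c) (ht : t * z = z * t) :
    (Finset.univ.filter fun v : V => K.act (c * t * c⁻¹) v = v).card =
      (Finset.univ.filter fun v : V => K.act t v = v).card := by
  symm
  refine Finset.card_bij (fun v _ => K.act c v) (fun v hv => ?_) (fun a _ b _ h => K.act_injective H hc h)
    (fun v hv => ?_)
  · rw [Finset.mem_filter] at hv ⊢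
    exact ⟨Finset.mem_univ _, by rw [K.act_conj_apply H hc ht, hv.2]⟩
  · obtain ⟨a, rfl⟩ := (Finite.injective_iff_surjective.1 (K.act_injective H hc)) v
    refine ⟨a, ?_, rfl⟩
    rw [Finset.mem_filter] at hv ⊢
    exact ⟨Finset.mem_univ _, K.act_injective H hc (by rw [← K.act_conj_apply H hc ht]; exact hv.2)⟩

end Coord

namespace Base

variable {K : Coord z Q 0} {x g : G} (S : Base K x g)
include S

theorem R_x_mem : x ∈ S.R := by simpa [el] using S.el_R 0 1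

/-- Commutators inside `R`. -/
theorem R_comm {r r' : G} (hr : r ∈ S.R) (hr' : r' ∈ S.R) : ∃ j, r * r' * r⁻¹ * r'⁻¹ = S.el 0 j := by
  have ha := (S.mem_R.1 hr).1
  have hb := (S.mem_R.1 hr').1
  have e : r * r' * r⁻¹ * r'⁻¹ =
      g * (g⁻¹ * r * g * (g⁻¹ * r' * g) * (g⁻¹ * r * g)⁻¹ * (g⁻¹ * r' * g)⁻¹) * g⁻¹ := by group
  rcases S.hyp.extra.conj_cases ha hb with k | k
  · exact ⟨0, by rw [e, k, mul_inv_cancel, S.el_zero]; group⟩
  · exact ⟨1, by rw [e, k, mul_inv_cancel_right, S.hg]; simp [el]⟩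

theorem sq_rq {r q : G} (hr : r ∈ S.R) (hq : q ∈ Q) (hqx : q * x = x * q) :
    r * q * (r * q) = S.el (BW (S.ur r) (K.vec q).2 + qW 0 (K.vec q).2)
      (BW (S.ur r) (K.vec q).2 + qW 0 (S.ur r)) := by
  have hqq : q * q = S.el (qW 0 (K.vec q).2) 0 := by
    rw [K.sq hq]
    have : qV 0 (K.vec q) = qW 0 (K.vec q).2 := by simp [qV, (S.comm_x_iff hq).1 hqx]
    rw [this]
    rcases zcases (qW 0 (K.vec q).2) with h | h <;> simp [h, el]
  calc r * q * (r * q) = r * q * r⁻¹ * q⁻¹ * (q * (r * r)) * q := by group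
    _ = S.el (BW (S.ur r) (K.vec q).2) (BW (S.ur r) (K.vec q).2) * (S.el 0 (qW 0 (S.ur r)) * (q * q)) := by
      rw [S.comm_R hr hq hqx, S.sq_R hr, S.el_comm (S.hyp.extra.comm_z hq) hqx]; group
    _ = _ := by rw [hqq, S.el_mul, S.el_mul]; simp

theorem isConj_z_of_R {t : G} (ht : t ∈ S.R) (h2 : t * t = 1) (h1 : t ≠ 1) : IsConj t z := by
  obtain ⟨y, hy⟩ := K.conj_of_mem S.hyp (b := g⁻¹ * t * g) (S.mem_R.1 ht).1
    (by rw [show g⁻¹ * t * g * (g⁻¹ * t * g) = g⁻¹ * (t * t) * g by group, h2]; group)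
    (fun h => h1 (by
      calc t = g * (g⁻¹ * t * g) * g⁻¹ := by group
        _ = 1 := by rw [h]; group))
  refine (isConj_iff.2 ⟨g * y, ?_⟩ : IsConj z t).symm
  rw [show g * y * z * (g * y)⁻¹ = g * (y * z * y⁻¹) * g⁻¹ by group, hy]; group

/-- The elements lifting a pair of parameters. -/
def Typ (u0 w0 : W) (t : G) : Prop :=
  ∃ r q, r ∈ S.R ∧ q ∈ Q ∧ q * x = x * q ∧ t = r * q ∧ S.ur r = u0 ∧ (K.vec q).2 = w0

theorem exists_typ (u0 w0 : W) : ∃ t, S.Typ u0 w0 t := by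
  obtain ⟨r, hr, hu⟩ := S.exists_R u0
  exact ⟨_, r, K.lift (inj w0), hr, K.lift_mem _, S.lift_x _, rfl, hu, by rw [K.vec_lift]; rfl⟩

theorem typ_comm {u0 w0 : W} {t : G} (ht : S.Typ u0 w0 t) : t * z = z * t := by
  obtain ⟨r, q, hr, hq, -, rfl, -, -⟩ := ht
  exact (Commute.mul_left (S.R_z hr) (S.hyp.extra.comm_z hq)).eq

theorem typ_sq {u0 w0 : W} {t : G} (ht : S.Typ u0 w0 t) :
    t * t = S.el (BW u0 w0 + qW 0 w0) (BW u0 w0 + qW 0 u0) := by
  obtain ⟨r, q, hr, hq, hqx, rfl, hu, hw⟩ := ht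
  rw [S.sq_rq hr hq hqx, hu, hw]

theorem typ_act {u0 w0 : W} {t : G} (ht : S.Typ u0 w0 t) : K.act t = E u0 := by
  obtain ⟨r, q, hr, hq, -, rfl, hu, -⟩ := ht
  funext v
  rw [K.act_mul S.hyp (S.R_z hr) (S.hyp.extra.comm_z hq), K.act_mem S.hyp hq, S.act_R hr, hu]

theorem typ_conj {u0 w0 : W} (hpair : ∀ s t : ZMod 2, ∃ w : W, BW u0 w = s ∧ BW w0 w = t)
    {t t' : G} (ht : S.Typ u0 w0 t) (ht' : S.Typ u0 w0 t') :
    ∃ c ∈ Q, c * z = z * c ∧ c * x = x * c ∧ c * t * c⁻¹ = t' := by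
  obtain ⟨r, q, hr, hq, hqx, rfl, hu, hw⟩ := ht
  obtain ⟨r', q', hr', hq', hqx', rfl, hu', hw'⟩ := ht'
  obtain ⟨i, j, rfl⟩ := S.ur_congr hr hr' (hu.trans hu'.symm)
  obtain ⟨k, l, e⟩ := S.exists_el (mul_mem (inv_mem hq) hq')
    (by rw [K.mul (inv_mem hq) hq', K.vec_inv hq, Prod.fst_add, Prod.snd_add, (S.comm_x_iff hq).1 hqx,
      (S.comm_x_iff hq').1 hqx', add_zero])
    (by rw [K.mul (inv_mem hq) hq', K.vec_inv hq, Prod.snd_add, hw, hw', addW])
  obtain rfl := inv_mul_eq_iff_eq_mul.1 e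
  obtain ⟨w, hb, ha⟩ := hpair (j + l) (i + k + (j + l))
  have hs := K.lift_mem (inj w)
  refine ⟨K.lift (inj w), hs, S.hyp.extra.comm_z hs, S.lift_x w, ?_⟩
  set s := K.lift (inj w) with hsdef
  have h1 : s * r * s⁻¹ = S.el (j + l) (j + l) * r := by
    have h := congrArg (fun b => b⁻¹ * r) (S.comm_R hr hs (S.lift_x w))
    simp only [hu, hsdef, K.vec_lift] at h
    rw [show (inj w).2 = w from rfl, hb] at h
    rw [inv_eq_of_mul_eq_one_right (S.el_sq _ _)] at h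
    rw [← h, hsdef]; group
  have h2 : s * q * s⁻¹ = S.el (i + k + (j + l)) 0 * q := by
    rw [K.conj hq hs, hsdef, K.vec_lift]
    have hB : B (K.vec q) (inj w) = i + k + (j + l) := by
      rw [B, hw, show (inj w).2 = w from rfl, ha]
      simp [inj, pB]
    rw [hB]
    rcases zcases (i + k + (j + l)) with h | h <;> simp [h, el]
  calc s * (r * q) * s⁻¹ = (s * r * s⁻¹) * (s * q * s⁻¹) := by group
    _ = r * q * (S.el (j + l) (j + l) * S.el (i + k + (j + l)) 0) := by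
      rw [h1, h2, ← S.R_el hr, mul_assoc, ← mul_assoc (S.el (j + l) (j + l)), S.el_mul,
        ← S.el_comm (S.hyp.extra.comm_z hq) hqx]; group
    _ = r * (S.el i j * q) * S.el k l := by
      rw [← S.el_comm (S.hyp.extra.comm_z hq) hqx i j, S.el_mul,
        show r * (q * S.el i j) * S.el k l = r * q * (S.el i j * S.el k l) by group, S.el_mul]
      congr 2
      · linear_combination CharTwo.add_self_eq_zero (j + l)
      · simp
    _ = _ := by group

theorem typ_move {u0 w0 : W} {t d : G} (ht : S.Typ u0 w0 t) (hdz : d * z = z * d) (hdx : d * x = x * d)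
    (hd0 : K.act d x0 = x0) : S.Typ (K.res d u0) (K.res d w0) (d * t * d⁻¹) := by
  obtain ⟨r, q, hr, hq, hqx, rfl, hu, hw⟩ := ht
  obtain ⟨hm, hum⟩ := S.conj_R hdz hdx hd0 hr
  refine ⟨d * r * d⁻¹, d * q * d⁻¹, hm, S.hyp.norm d hdz q hq,
    ((Commute.mul_left hdx hqx).mul_left (Commute.inv_left hdx)).eq, by group, by rw [hum, hu], ?_⟩
  rw [← K.act_vec S.hyp hdz hq, K.res_perp S.hyp hdz hd0 _ ((S.comm_x_iff hq).1 hqx), hw]

/-- An involution fixing the base point with trivial residual action. -/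
theorem trivial_case {t : G} (ht : t * z = z * t) (h2 : t * t = 1) (hx : K.act t x0 = x0)
    (hres : ∀ w, K.res t w = w) :
    t ∈ Q ∨ (∃ c, c * z = z * c ∧ c * t * c⁻¹ ∈ S.R) ∨ ∃ c, c * z = z * c ∧
      (S.Typ A1 A2 (c * t * c⁻¹) ∨ S.Typ U1 W1 (c * t * c⁻¹)) := by
  have H := S.hyp
  obtain ⟨r, hr, q, hq, e⟩ := S.decompose ht hx hres
  have hsq : r * q * (r * q) = 1 := e ▸ h2
  by_cases hu : S.ur r = 0
  · exact Or.inl (e ▸ mul_mem ((S.ur_zero hr).1 hu) hq)
  right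
  have hqx : q * x = x * q := by
    refine (S.comm_x_iff hq).2 ((zcases _).resolve_right fun hb => hu ?_)
    have h : r * q * r⁻¹ = q⁻¹ * S.el 0 (qW 0 (S.ur r)) := by
      have e1 : (r * r)⁻¹ = S.el 0 (qW 0 (S.ur r)) := by
        rw [S.sq_R hr, inv_eq_of_mul_eq_one_right (S.el_sq _ _)]
      have e2 : r * q * r = q⁻¹ := by
        rw [eq_inv_iff_mul_eq_one, ← hsq]; group
      rw [← e1, ← e2]; group
    have hv := congrArg K.vec h
    rw [← K.act_vec H (S.R_z hr) hq, S.act_R hr, K.mul (inv_mem hq) (S.el_mem _ _), K.vec_inv hq,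
      S.vec_el] at hv
    have hv2 := congrArg (fun v : V => v.2) hv
    simpa [tail_E, hb] using hv2
  rw [S.sq_rq hr hq hqx, ← S.el_zero] at hsq
  obtain ⟨hw2, hu2⟩ := S.el_inj hsq
  rcases zcases (BW (S.ur r) (K.vec q).2) with hβ | hβ
  · rw [hβ, zero_add] at hw2 hu2
    by_cases hw : (K.vec q).2 = 0
    · obtain ⟨i, j, rfl⟩ := S.exists_el hq ((S.comm_x_iff hq).1 hqx) hw
      exact Or.inl ⟨1, by simp, by rw [one_mul, inv_one, mul_one, e]; exact mul_mem hr (S.el_R i j)⟩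
    by_cases huw : (K.vec q).2 = S.ur r
    · left
      set v := K.lift f0 with hv
      have hvQ : v ∈ Q := K.lift_mem _
      have hrinv := (Commute.inv_left (S.R_z hr)).eq
      have hri : r⁻¹ * v * r ∈ Q := by
        have := H.norm r⁻¹ hrinv v hvQ
        rwa [inv_inv] at this
      obtain ⟨i, j, hel⟩ := S.exists_el (b := r⁻¹ * v * r * q * v⁻¹) (mul_mem (mul_mem hri hq) (inv_mem hvQ))
        (by
          rw [K.mul (mul_mem hri hq) (inv_mem hvQ), K.mul hri hq, K.vec_inv hvQ,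
            show r⁻¹ * v * r = r⁻¹ * v * r⁻¹⁻¹ by group, ← K.act_vec H hrinv hvQ,
            S.act_R (inv_mem hr), hv, K.vec_lift]
          simp [E, f0, (S.comm_x_iff hq).1 hqx, CharTwo.add_self_eq_zero])
        (by
          have hui : S.ur r⁻¹ = S.ur r := by
            have := S.ur_mul hr (inv_mem hr)
            rw [mul_inv_cancel, (S.ur_zero (one_mem _)).2 (one_mem _)] at this
            exact (eqW this.symm).symm
          rw [K.mul (mul_mem hri hq) (inv_mem hvQ), K.mul hri hq, K.vec_inv hvQ,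
            show r⁻¹ * v * r = r⁻¹ * v * r⁻¹⁻¹ by group, ← K.act_vec H hrinv hvQ,
            S.act_R (inv_mem hr), hv, K.vec_lift, hui]
          simp [E, f0, huw, addW])
      refine ⟨v, H.extra.comm_z hvQ, ?_⟩
      rw [e, show v * (r * q) * v⁻¹ = r * (r⁻¹ * v * r * q * v⁻¹) by group, hel]
      exact mul_mem hr (S.el_R i j)
    right
    obtain ⟨c, hc, hcx, hcA, hcU⟩ := K.resMoveLine H hu2 hw2 hβ hu hw (Ne.symm huw)
    obtain ⟨d, hdz, hdx, hd0, hd⟩ := S.exists_fix hc hcx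
    have h := S.typ_move ⟨r, q, hr, hq, hqx, e, rfl, rfl⟩ hdz hdx hd0
    rw [hd, hd, hcA, hcU] at h
    exact ⟨d, hdz, Or.inl h⟩
  · right
    rw [hβ] at hw2 hu2
    have one_add : ∀ a : ZMod 2, 1 + a = 0 → a = 1 := by decide
    obtain ⟨c, hc, hcx, hcA⟩ := K.resMoveNs H (one_add _ hu2) base_pair.1
    obtain ⟨a, ⟨ha, ha1⟩, b, ⟨hb, hb1⟩, hab⟩ := moveW_pair_second (K.res c (K.vec q).2)
      ((K.res_q H hc hcx _).trans (one_add _ hw2)) (by rw [← hcA, K.res_B H hc hcx, hβ])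
    obtain ⟨d, hdz, hdx, hd0, hd⟩ := S.exists_fix hc hcx
    obtain ⟨d', hdz', hdx', hd0', hd'⟩ := S.exists_pair ha hb
    have h := S.typ_move (S.typ_move ⟨r, q, hr, hq, hqx, e, rfl, rfl⟩ hdz hdx hd0) hdz' hdx' hd0'
    rw [hd, hd, hd', hd', hcA, hab] at h
    have hfix : reflW a (reflW b U1) = U1 := by simp [reflW, BW_comm U1 b, BW_comm U1 a, ha1, hb1]
    rw [hfix, show d' * (d * t * d⁻¹) * d'⁻¹ = d' * d * t * (d' * d)⁻¹ by group] at h
    exact ⟨d' * d, (Commute.mul_left hdz' hdz).eq, Or.inr h⟩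

/-- The three classes. -/
def Cls (ta tb t : G) : Prop := IsConj t z ∨ IsConj t ta ∨ IsConj t tb

omit S in
theorem cls_of_conj {ta tb t t' : G} (h : Cls (z := z) ta tb t') (hc : IsConj t t') : Cls (z := z) ta tb t :=
  h.imp hc.trans (Or.imp hc.trans hc.trans)

theorem cls_trivial {ta tb : G} (hta : S.Typ A1 A2 ta) (htb : S.Typ U1 W1 tb) {t : G} (ht : t * z = z * t)
    (h2 : t * t = 1) (h1 : t ≠ 1) (hx : K.act t x0 = x0) (hres : ∀ w, K.res t w = w) :
    Cls (z := z) ta tb t := by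
  rcases S.trivial_case ht h2 hx hres with k | ⟨c, hc, k⟩ | ⟨c, hc, k | k⟩
  · obtain ⟨p, hp⟩ := K.conj_of_mem S.hyp k h2 h1
    exact Or.inl (isConj_iff.2 ⟨p, hp⟩ : IsConj z t).symm
  · exact cls_of_conj (Or.inl (S.isConj_z_of_R k (conj_sq_one h2) (fun e => h1 (conj_eq_one_iff.1 e))))
      (isConj_iff.2 ⟨c, rfl⟩)
  · obtain ⟨y, -, -, -, hy⟩ := S.typ_conj (fun s t => (typ_fix s t).1) k hta
    exact Or.inr (Or.inl ((isConj_iff.2 ⟨c, rfl⟩).trans (isConj_iff.2 ⟨y, hy⟩)))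
  · obtain ⟨y, -, -, -, hy⟩ := S.typ_conj (fun s t => (typ_fix s t).2) k htb
    exact Or.inr (Or.inr ((isConj_iff.2 ⟨c, rfl⟩).trans (isConj_iff.2 ⟨y, hy⟩)))

theorem cls_point {ta tb : G} (hta : S.Typ A1 A2 ta) (htb : S.Typ U1 W1 tb) {t : G} (ht : t * z = z * t)
    (h2 : t * t = 1) (h1 : t ≠ 1) {a : V} (ha : a ≠ 0) (haq : qV 0 a = 0) (hfix : K.act t a = a)
    (hperp : ∀ v, B v a = 0 → K.act t v = v ∨ K.act t v = v + a) : Cls (z := z) ta tb t := by
  have H := S.hyp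
  obtain ⟨c, hc, hca⟩ := K.transitive H (w := x0) ha haq (by decide) (by decide)
  refine cls_of_conj (S.cls_trivial hta htb (conj_comm_z hc ht) (conj_sq_one h2)
    (fun e => h1 (conj_eq_one_iff.1 e)) ?_ ?_) (isConj_iff.2 ⟨c, rfl⟩)
  · rw [← hca, K.act_conj_apply H hc ht, hfix]
  · intro w
    obtain ⟨v, hv⟩ := (Finite.injective_iff_surjective.1 (K.act_injective H hc)) (inj w)
    show (K.act (c * t * c⁻¹) (inj w)).2 = w
    rw [← hv, K.act_conj_apply H hc ht]
    rcases hperp v (by rw [← K.act_B H hc v a, hv, hca, B_x0]; rfl) with e | e <;> rw [e]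
    · rw [hv]; rfl
    · rw [K.act_add H hc, hv, hca]
      simp [inj, x0]

/-- The other side of an element `d r q` fixes at least 32 vectors. -/
theorem swap_fixed {d : G} {Φ : W} (L : Line S d Φ) {r q : G} (hr : r ∈ S.R) (hq : q ∈ Q)
    (hqx : q * x = x * q) (hw1 : BW (K.vec q).2 A1 = 0) (hw2 : BW (K.vec q).2 A2 = 0)
    (hF1 : BW (Φ + (K.vec q).2) H1 = 0) (hF2 : BW (Φ + (K.vec q).2) H2 = 0)
    (hs : g⁻¹ * (d * r * q) * g * z = z * (g⁻¹ * (d * r * q) * g)) :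
    32 ≤ (Finset.univ.filter fun v : V => K.act (g⁻¹ * (d * r * q) * g) v = v).card := by
  classical
  have H := S.hyp
  set s := g⁻¹ * (d * r * q) * g with hsdef
  choose rep hrR hru using S.exists_R
  have hfix : ∀ r' ∈ S.R, BW (S.ur r') A1 = 0 → BW (S.ur r') A2 = 0 →
      K.act s (K.vec (g⁻¹ * r' * g)) = K.vec (g⁻¹ * r' * g) := by
    intro r' hr' h1 h2
    have hF : BW (S.ur r') (K.vec q).2 + BW (S.ur r') Φ = 0 := by
      rw [← BW_add_right, add_comm]
      exact line_kill _ h1 h2 _ (by rw [BW_add_left, L.hΦ.1, hw1, add_zero])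
        (by rw [BW_add_left, L.hΦ.2, hw2, add_zero]) hF1 hF2
    obtain ⟨j, hj⟩ := S.R_comm hr hr'
    have e1 : q * r' * q⁻¹ = S.el (BW (S.ur r') (K.vec q).2) (BW (S.ur r') (K.vec q).2) * r' := by
      conv_rhs => rw [← inv_eq_of_mul_eq_one_right (S.el_sq (BW (S.ur r') (K.vec q).2) (BW (S.ur r') (K.vec q).2)),
        ← S.comm_R hr' hq hqx]
      group
    have e2 : r * r' * r⁻¹ = S.el 0 j * r' := by rw [← hj]; group
    have e3 : d * r' * d⁻¹ = S.el (BW (S.ur r') Φ) 0 * r' := by rw [← L.dr r' hr' h1 h2]; group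
    set β := BW (S.ur r') (K.vec q).2 with hβ
    have e : d * r * q * r' * (d * r * q)⁻¹ = S.el 0 (β + j) * r' := by
      calc d * r * q * r' * (d * r * q)⁻¹ = d * r * (q * r' * q⁻¹) * r⁻¹ * d⁻¹ := by group
        _ = d * (r * S.el β β) * r' * r⁻¹ * d⁻¹ := by rw [e1]; group
        _ = d * (S.el β β * r) * r' * r⁻¹ * d⁻¹ := by rw [S.R_el hr]
        _ = (d * S.el β β) * (r * r' * r⁻¹) * d⁻¹ := by group
        _ = S.el β β * d * (S.el 0 j * r') * d⁻¹ := by rw [e2, S.el_comm L.dz L.dx]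
        _ = S.el β β * (d * S.el 0 j) * r' * d⁻¹ := by group
        _ = S.el β β * S.el 0 j * (d * r' * d⁻¹) := by rw [S.el_comm L.dz L.dx]; group
        _ = S.el (β + BW (S.ur r') Φ) (β + j) * r' := by
          rw [e3, ← mul_assoc, S.el_mul, S.el_mul]; simp [add_comm, add_assoc, add_left_comm]
        _ = S.el 0 (β + j) * r' := by rw [hF]
    have ha := (S.mem_R.1 hr').1
    rw [K.act_vec H hs ha]
    have e4 : s * (g⁻¹ * r' * g) * s⁻¹ = (g⁻¹ * S.el 0 (β + j) * g) * (g⁻¹ * r' * g) := by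
      rw [show s * (g⁻¹ * r' * g) * s⁻¹ = g⁻¹ * (d * r * q * r' * (d * r * q)⁻¹) * g by rw [hsdef]; group, e]
      group
    rw [e4]
    rcases zcases (β + j) with k | k <;> rw [k]
    · rw [S.el_zero]; group
    · rw [show S.el 0 1 = x by simp [el], show g⁻¹ * x * g = z by rw [← S.hg]; group,
        K.mul H.extra.z_mem ha, K.vec_z H, zero_add]
  let T : Type := {u : W // BW u A1 = 0 ∧ BW u A2 = 0} × (ZMod 2 × ZMod 2)
  let F : T → {a : G // a ∈ Q ∧ K.act s (K.vec a) = K.vec a} := fun p =>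
    ⟨g⁻¹ * (rep p.1 * S.el p.2.1 p.2.2) * g, (S.mem_R.1 (mul_mem (hrR _) (S.el_R _ _))).1,
      hfix _ (mul_mem (hrR _) (S.el_R _ _))
        (by rw [S.ur_mul (hrR _) (S.el_R _ _), hru, (S.ur_zero (S.el_R _ _)).2 (S.el_mem _ _), add_zero]; exact p.1.2.1)
        (by rw [S.ur_mul (hrR _) (S.el_R _ _), hru, (S.ur_zero (S.el_R _ _)).2 (S.el_mem _ _), add_zero]; exact p.1.2.2)⟩
  have hinj : Function.Injective F := by
    rintro ⟨u, i, j⟩ ⟨u', i', j'⟩ h
    have h1 : rep u * S.el i j = rep u' * S.el i' j' :=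
      mul_left_cancel (mul_right_cancel (congrArg Subtype.val h))
    have h2 := congrArg S.ur h1
    rw [S.ur_mul (hrR _) (S.el_R _ _), S.ur_mul (hrR _) (S.el_R _ _), (S.ur_zero (S.el_R _ _)).2 (S.el_mem _ _),
      (S.ur_zero (S.el_R _ _)).2 (S.el_mem _ _), add_zero, add_zero, hru, hru] at h2
    obtain rfl : u = u' := Subtype.ext h2
    obtain ⟨rfl, rfl⟩ := S.el_inj (mul_left_cancel h1)
    rfl
  have h := Nat.card_le_card_of_injective F hinj
  rw [K.card_lifts H (fun v => K.act s v = v), Nat.card_prod, Nat.card_prod, Nat.card_zmod,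
    Nat.card_eq_fintype_card, Fintype.card_subtype, perp_line_count] at h
  omega

/-- An element of the second kind moves to the conjugate `g⁻¹ C(x) g`, where it fixes at least 32 vectors. -/
theorem line_swap {d : G} {Φ : W} (L : Line S d Φ)
    {t : G} (ht : t * z = z * t) (h2 : t * t = 1) {u : W} (hu1 : BW u A1 = 0) (hu2 : BW u A2 = 0)
    (hL : ¬ (BW u H1 = 0 ∧ BW u H2 = 0)) (hact : ∀ v, K.act t v = D0 (E u v)) :
    ∃ h : G, h * z * h⁻¹ ∈ Q ∧ h * t * h⁻¹ * z = z * (h * t * h⁻¹) ∧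
      32 ≤ (Finset.univ.filter fun v : V => K.act (h * t * h⁻¹) v = v).card := by
  classical
  have H := S.hyp
  have hdt := (Commute.mul_left L.dz ht).eq
  have hdtE : ∀ v, K.act (d * t) v = E u v := fun v => by rw [K.act_mul H L.dz ht, L.act, hact, D0_invol]
  have hdtx : K.act (d * t) x0 = x0 := by rw [hdtE, E_x0]
  obtain ⟨r, hr, q, hq, e⟩ := S.decompose hdt hdtx (fun w => by
    show (K.act (d * t) (inj w)).2 = w
    simp [hdtE, tail_E, inj])
  have hur : S.ur r = u := by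
    have h := congrFun (S.act_R hr) f0
    have h' : K.act (d * t) f0 = K.act r f0 := by
      rw [e, K.act_mul H (S.R_z hr) (H.extra.comm_z hq), K.act_mem H hq]
    rw [hdtE, h] at h'
    have := congrArg (fun v : V => v.2) h'
    simpa [tail_E, f0] using this.symm
  have htd : t = d * r * q := by rw [mul_assoc, ← e, ← mul_assoc, L.sq, one_mul]
  have hdr := L.dr r hr (hur ▸ hu1) (hur ▸ hu2)
  rw [hur] at hdr
  have hrd : d * r * d * r = S.el (BW u Φ) (qW 0 u) := by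
    calc d * r * d * r = (d * r * d⁻¹ * r⁻¹) * (r * r) := by
          rw [inv_eq_of_mul_eq_one_right L.sq]; group
      _ = _ := by rw [hdr, S.sq_R hr, hur, S.el_mul, add_zero, zero_add]
  have hdrz := (Commute.mul_left L.dz (S.R_z hr)).eq
  have hdrx := (Commute.mul_left L.dx (S.R_x hr)).eq
  -- `q` centralizes `x`
  have hqe : (d * r) * q * (d * r)⁻¹ = q⁻¹ * S.el (BW u Φ) (qW 0 u) := by
    have e1 : d * r * q * (d * r) = q⁻¹ := by
      rw [eq_inv_iff_mul_eq_one, ← h2, htd]; group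
    calc (d * r) * q * (d * r)⁻¹ = d * r * q * (d * r) * (d * r * d * r)⁻¹ := by group
      _ = _ := by rw [e1, hrd, inv_eq_of_mul_eq_one_right (S.el_sq _ _)]
  have hv := congrArg K.vec hqe
  rw [← K.act_vec H hdrz hq, K.mul (inv_mem hq) (S.el_mem _ _), K.vec_inv hq, S.vec_el, K.act_mul H L.dz (S.R_z hr),
    L.act, S.act_R hr, hur] at hv
  have hv2 : sig0 ((K.vec q).2 + (K.vec q).1.2 • u) = (K.vec q).2 := by
    have := congrArg (fun v : V => v.2) hv
    simpa [D0, tail_E] using this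
  obtain ⟨hb, hw1, hw2⟩ := tail_fix u hu1 hu2 hL _ _ hv2
  have hqx : q * x = x * q := (S.comm_x_iff hq).2 hb
  have hdq := L.dq q hq hb hw1 hw2
  have hsq : t * t = S.el (BW u Φ) 0 * (r * q * (r * q)) := by
    rw [htd, ← hdr]
    calc d * r * q * (d * r * q) = d * r * (q * d) * r * q := by group
      _ = d * r * (d * q) * r * q := by rw [hdq]
      _ = _ := by
        conv_rhs => rw [inv_eq_of_mul_eq_one_right L.sq]
        group
  rw [h2, S.sq_rq hr hq hqx, hur, S.el_mul, ← S.el_zero] at hsq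
  obtain ⟨c1, c2⟩ := S.el_inj hsq.symm
  rw [zero_add] at c2
  obtain ⟨qu, Bu⟩ := plane_forms u hu1 hu2
  have qw := (plane_forms _ hw1 hw2).1
  rw [Bu _ hw1 hw2, Bu _ L.hΦ.1 L.hΦ.2, qw] at c1
  rw [Bu _ hw1 hw2, qu] at c2
  -- choose the tail
  obtain ⟨t', ⟨y, hy, hty⟩, r', q', hr', hq', hqx', hw1', hw2', hF1, hF2, htd'⟩ : ∃ t', (∃ y : G, y * z = z * y ∧ y * t * y⁻¹ = t') ∧ ∃ r' q',
      r' ∈ S.R ∧ q' ∈ Q ∧ q' * x = x * q' ∧ BW (K.vec q').2 A1 = 0 ∧ BW (K.vec q').2 A2 = 0 ∧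
      BW (Φ + (K.vec q').2) H1 = 0 ∧ BW (Φ + (K.vec q').2) H2 = 0 ∧ t' = d * r' * q' := by
    rcases plane_choice (BW u H1) (BW u H2) (BW (K.vec q).2 H1) (BW (K.vec q).2 H2) (BW Φ H1) (BW Φ H2) hL
      (by linear_combination c1) (by linear_combination c2) with ⟨k1, k2⟩ | ⟨k1, k2⟩
    · exact ⟨t, ⟨1, by simp, by simp⟩, r, q, hr, hq, hqx, hw1, hw2, by rw [BW_add_left, k1], by rw [BW_add_left, k2], htd⟩
    · set v := K.lift f0 with hv0
      have hvQ : v ∈ Q := K.lift_mem _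
      have hdri := (Commute.inv_left hdrz).eq
      have hm : (d * r)⁻¹ * v * (d * r) ∈ Q := by
        have := H.norm _ hdri v hvQ
        rwa [inv_inv] at this
      have hq' := mul_mem (mul_mem hm hq) (inv_mem hvQ)
      have hai : K.act (d * r)⁻¹ f0 = E u f0 := by
        refine K.act_injective H hdrz ?_
        rw [K.act_cancel H hdrz, K.act_mul H L.dz (S.R_z hr), L.act, S.act_R hr, hur]
        have : E u (E u f0) = f0 := by
          refine Prod.ext (Prod.ext ?_ rfl) ?_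
          · simp [E, f0, BW_self, CharTwo.add_self_eq_zero, BW_zero_right]
          · simp [E, f0, addW]
        rw [this]; exact D0_facts.2.1.symm
      have hvec : K.vec ((d * r)⁻¹ * v * (d * r) * q * v⁻¹) = E u f0 + K.vec q + f0 := by
        rw [K.mul (mul_mem hm hq) (inv_mem hvQ), K.mul hm hq, K.vec_inv hvQ]
        have h' := K.act_vec H hdri hvQ
        rw [inv_inv] at h'
        rw [← h', hv0, K.vec_lift, hai]
      refine ⟨v * t * v⁻¹, ⟨v, H.extra.comm_z hvQ, rfl⟩, r, _, hr, hq', (S.comm_x_iff hq').2 ?_, ?_, ?_, ?_, ?_,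
        by rw [htd]; group⟩
      all_goals rw [hvec]
      · simp [E, f0, hb, CharTwo.add_self_eq_zero]
      · simp [E, f0, BW_add_left, hu1, hw1]
      · simp [E, f0, BW_add_left, hu2, hw2]
      · simp [E, f0, BW_add_left]
        linear_combination k1
      · simp [E, f0, BW_add_left]
        linear_combination k2
  subst htd'
  have ht'z : d * r' * q' * z = z * (d * r' * q') :=
    ((Commute.mul_left L.dz (S.R_z hr')).mul_left (H.extra.comm_z hq')).eq
  have ht'x : d * r' * q' * x = x * (d * r' * q') :=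
    ((Commute.mul_left L.dx (S.R_x hr')).mul_left hqx').eq
  set s := g⁻¹ * (d * r' * q') * g with hs
  have hsz : s * z = z * s := by
    calc s * z = g⁻¹ * (d * r' * q' * (g * z * g⁻¹)) * g := by rw [hs]; group
      _ = g⁻¹ * (g * z * g⁻¹ * (d * r' * q')) * g := by rw [S.hg, ht'x]
      _ = z * s := by rw [hs]; group
  have h32 := S.swap_fixed L hr' hq' hqx' hw1' hw2' hF1 hF2 hsz
  refine ⟨g⁻¹ * y, ?_, ?_, ?_⟩
  · rw [show g⁻¹ * y * z * (g⁻¹ * y)⁻¹ = g⁻¹ * (y * z * y⁻¹) * g by group, hy, mul_inv_cancel_right]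
    exact S.w_spec.1
  · rw [show g⁻¹ * y * t * (g⁻¹ * y)⁻¹ = s by rw [hs, ← hty]; group]
    exact hsz
  · rw [show g⁻¹ * y * t * (g⁻¹ * y)⁻¹ = s by rw [hs, ← hty]; group]
    exact h32

theorem cls_line {ta tb : G} (hta : S.Typ A1 A2 ta) (htb : S.Typ U1 W1 tb) {d : G} {Φ : W} (L : Line S d Φ)
    {t : G} (ht : t * z = z * t) (h2 : t * t = 1) (h1 : t ≠ 1) {u : W} (hu1 : BW u A1 = 0) (hu2 : BW u A2 = 0)
    (hact : ∀ v, K.act t v = D0 (E u v)) : Cls (z := z) ta tb t := by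
  classical
  have H := S.hyp
  by_cases hL : BW u H1 = 0 ∧ BW u H2 = 0
  · obtain ⟨a, ⟨ha, haq, hfix⟩, hperp⟩ := line_point u hu1 hu2 hL.1 hL.2
    refine S.cls_point hta htb ht h2 h1 ha haq (by rw [hact, hfix]) fun v hv => ?_
    simpa only [hact] using hperp v hv
  obtain ⟨y, -, hsz, h32⟩ := S.line_swap L ht h2 hu1 hu2 hL hact
  set s := y * t * y⁻¹ with hs
  have hs2 : s * s = 1 := conj_sq_one h2
  have hts : IsConj t s := isConj_iff.2 ⟨y, rfl⟩
  have hs1 : s ≠ 1 := fun k => h1 (conj_eq_one_iff.1 k)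
  obtain ⟨c, hc, hcase⟩ := S.normal L hsz hs2
  refine cls_of_conj ?_ (hts.trans (isConj_iff.2 ⟨c, rfl⟩))
  have hcz := conj_comm_z hc hsz
  have hc2 : c * s * c⁻¹ * (c * s * c⁻¹) = 1 := conj_sq_one hs2
  have hc1 : c * s * c⁻¹ ≠ 1 := fun k => hs1 (conj_eq_one_iff.1 k)
  rcases hcase with ⟨u', hu'⟩ | ⟨u', e1, e2, hu'⟩
  · exact S.cls_trivial hta htb hcz hc2 hc1 (by rw [hu', E_x0]) (fun w => by
      show (K.act (c * s * c⁻¹) (inj w)).2 = w
      simp [hu', tail_E, inj])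
  · by_cases hL' : BW u' H1 = 0 ∧ BW u' H2 = 0
    · obtain ⟨a, ⟨ha, haq, hfix⟩, hperp⟩ := line_point u' e1 e2 hL'.1 hL'.2
      refine S.cls_point hta htb hcz hc2 hc1 ha haq (by rw [hu', hfix]) fun v hv => ?_
      simpa only [hu'] using hperp v hv
    · exfalso
      have hk := K.fixed_card_conj H hc hsz
      simp only [hu'] at hk
      rw [fixed_count u' e1 e2 hL'] at hk
      omega

/-- Every involution of `C(z)` is conjugate in `G` to one of three. -/
theorem cls {ta tb : G} (hta : S.Typ A1 A2 ta) (htb : S.Typ U1 W1 tb) {t : G} (ht : t * z = z * t)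
    (h2 : t * t = 1) (h1 : t ≠ 1) : Cls (z := z) ta tb t := by
  obtain ⟨d, Φ, L⟩ := S.exists_line
  obtain ⟨c, hc, hcase⟩ := S.normal L ht h2
  refine cls_of_conj ?_ (isConj_iff.2 ⟨c, rfl⟩)
  have hcz := conj_comm_z hc ht
  have hc1 : c * t * c⁻¹ ≠ 1 := fun k => h1 (conj_eq_one_iff.1 k)
  rcases hcase with ⟨u, hu⟩ | ⟨u, e1, e2, hu⟩
  · exact S.cls_trivial hta htb hcz (conj_sq_one h2) hc1 (by rw [hu, E_x0]) (fun w => by
      show (K.act (c * t * c⁻¹) (inj w)).2 = w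
      simp [hu, tail_E, inj])
  · exact S.cls_line hta htb L hcz (conj_sq_one h2) hc1 e1 e2 hu

end Base

end CfsgLib.CoOneType
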