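import Mathlib
import Cfsg.Agent.Lib.CoOneType.Upper

/-!
The lifts of the chosen pairs are not conjugate to `z`.
-/

set_option autoImplicit false
set_option linter.style.longLine false
set_option maxHeartbeats 2000000
set_option synthInstance.maxSize 8000
set_option synthInstance.maxHeartbeats 1000000

namespace CfsgLib.CoOneType

open Subgroup

/-- The partner of `A2`. -/
def G2 : W := ((0, 0), ((0, 1), 0))

/-- The two images of `G1` under maps fixing `L⊥`. -/
def Tline : Fin 2 → W := ![G1, G1 + A2]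
/-- The three nonsingular vectors of the anisotropic plane. -/
def Tpair : Fin 3 → W := ![U1, W1, U1 + W1]

theorem perp_four : (Finset.univ.filter fun a : W => ∀ w : W, BW w A1 = 0 → BW w A2 = 0 → BW a w = 0).card = 4 ∧
    (Finset.univ.filter fun a : W => ∀ w : W, BW w U1 = 0 → BW w W1 = 0 → BW a w = 0).card = 4 := by
  decide +kernel

theorem Tline_closed : ∀ i : Fin 2, ∀ a : W, qW 0 a = qW 0 (Tline i) →
    (∀ w : W, BW w A1 = 0 → BW w A2 = 0 → BW a w = BW (Tline i) w) → ∃ j, a = Tline j := by decide +kernel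

theorem Tpair_closed : ∀ i : Fin 3, ∀ a : W, qW 0 a = qW 0 (Tpair i) →
    (∀ w : W, BW w U1 = 0 → BW w W1 = 0 → BW a w = BW (Tpair i) w) → ∃ j, a = Tpair j := by decide +kernel

theorem G2_fixed : ∀ a : W, qW 0 a = qW 0 G2 → (∀ w : W, BW w A1 = 0 → BW w A2 = 0 → BW a w = BW G2 w) →
    BW a G1 = BW G2 G1 → BW a (G1 + A2) = BW G2 (G1 + A2) → a = G2 := by decide +kernel

theorem line_dense : ∀ d : W, (∀ w : W, BW w A1 = 0 → BW w A2 = 0 → BW d w = 0) → BW d G1 = 0 → BW d G2 = 0 →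
    d = 0 := by decide +kernel

theorem pair_dense : ∀ d : W, (∀ w : W, BW w U1 = 0 → BW w W1 = 0 → BW d w = 0) → BW d U1 = 0 → BW d W1 = 0 →
    d = 0 := by decide +kernel

theorem T_injective : Function.Injective Tline ∧ Function.Injective Tpair := by
  constructor <;> decide +kernel

theorem F_count : (Finset.univ.filter fun v : V => v.1.2 = 0 ∧ BW v.2 A1 = 0 ∧ BW v.2 A2 = 0).card = 32 ∧
    (Finset.univ.filter fun v : V => v.1.2 = 0 ∧ BW v.2 U1 = 0 ∧ BW v.2 W1 = 0).card = 32 := by decide +kernel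

theorem line_faithful {σ : W → W} (hq : ∀ w, qW 0 (σ w) = qW 0 w) (hB : ∀ a b, BW (σ a) (σ b) = BW a b)
    (hF : ∀ w, BW w A1 = 0 → BW w A2 = 0 → σ w = w) (hT : ∀ i, σ (Tline i) = Tline i) (w : W) : σ w = w := by
  have hBF : ∀ a v, BW v A1 = 0 → BW v A2 = 0 → BW (σ a) v = BW a v := fun a v h1 h2 => by
    conv_lhs => rw [← hF v h1 h2]
    exact hB a v
  have h0 : σ G1 = G1 := hT 0
  have h1 : σ (G1 + A2) = G1 + A2 := hT 1
  have h2 : σ G2 = G2 := G2_fixed _ (hq _) (hBF G2) (by conv_lhs => rw [← h0]; exact hB _ _) (by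
    conv_lhs => rw [← h1]
    exact hB _ _)
  refine eqW (line_dense _ (fun v a b => ?_) ?_ ?_)
  · rw [BW_add_left, hBF w v a b, CharTwo.add_self_eq_zero]
  · rw [BW_add_left]; conv_lhs => arg 1; rw [← h0, hB]
    exact CharTwo.add_self_eq_zero _
  · rw [BW_add_left]; conv_lhs => arg 1; rw [← h2, hB]
    exact CharTwo.add_self_eq_zero _

theorem pair_faithful {σ : W → W} (hB : ∀ a b, BW (σ a) (σ b) = BW a b)
    (hF : ∀ w, BW w U1 = 0 → BW w W1 = 0 → σ w = w) (hT : ∀ i, σ (Tpair i) = Tpair i) (w : W) : σ w = w := by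
  have h0 : σ U1 = U1 := hT 0
  have h1 : σ W1 = W1 := hT 1
  refine eqW (pair_dense _ (fun v a b => ?_) ?_ ?_)
  · rw [BW_add_left]; conv_lhs => arg 1; rw [← hF v a b, hB]
    exact CharTwo.add_self_eq_zero _
  · rw [BW_add_left]; conv_lhs => arg 1; rw [← h0, hB]
    exact CharTwo.add_self_eq_zero _
  · rw [BW_add_left]; conv_lhs => arg 1; rw [← h1, hB]
    exact CharTwo.add_self_eq_zero _

variable {G : Type*} [Group G] [Finite G] {z : G} {Q : Subgroup G}

namespace Base

variable {K : Coord z Q 0} {x g : G} (S : Base K x g)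
include S

theorem typ_comm_lifts {u0 w0 : W} {t a : G} (ht : S.Typ u0 w0 t) (ha : a ∈ Q) (h1 : (K.vec a).1.2 = 0)
    (h2 : BW (K.vec a).2 u0 = 0) (h3 : BW (K.vec a).2 w0 = 0) : a * t = t * a := by
  obtain ⟨r, q, hr, hq, hqx, rfl, hu, hw⟩ := ht
  have hra := S.comm_el_zero hr ha ((S.comm_x_iff ha).2 h1) (by rw [hu, BW_comm]; exact h2)
  have hqa : a * q = q * a := (K.comm_iff S.hyp.extra.ne_one ha hq).2 (by
    simp [B, pB, h1, (S.comm_x_iff hq).1 hqx, hw, h3])
  exact (Commute.mul_right hra.symm hqa).eq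

theorem not_conj_z {n : ℕ} (hn : ¬ 4 ∣ n.factorial) {u0 w0 : W} {t0 : G} (h0 : S.Typ u0 w0 t0)
    (h02 : t0 * t0 = 1) (hu0 : u0 ≠ 0) (hpair : ∀ s t : ZMod 2, ∃ w : W, BW u0 w = s ∧ BW w0 w = t)
    (h32 : (Finset.univ.filter fun v : V => v.1.2 = 0 ∧ BW v.2 u0 = 0 ∧ BW v.2 w0 = 0).card = 32)
    (hfour : (Finset.univ.filter fun a : W => ∀ w : W, BW w u0 = 0 → BW w w0 = 0 → BW a w = 0).card = 4)
    (T : Fin n → W) (hT : Function.Injective T)
    (hclosed : ∀ i a, qW 0 a = qW 0 (T i) → (∀ w : W, BW w u0 = 0 → BW w w0 = 0 → BW a w = BW (T i) w) →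
      ∃ j, a = T j)
    (hfaith : ∀ σ : W → W, (∀ w, qW 0 (σ w) = qW 0 w) → (∀ a b, BW (σ a) (σ b) = BW a b) →
      (∀ w, BW w u0 = 0 → BW w w0 = 0 → σ w = w) → (∀ i, σ (T i) = T i) → ∀ w, σ w = w) :
    ¬ IsConj z t0 := by
  classical
  intro hconj
  obtain ⟨h, hh⟩ := isConj_iff.1 hconj
  have H := S.hyp
  have h0z := S.typ_comm h0
  have hQ0 : t0 ∉ Q := fun hm => hu0 (by
    have h' := congrFun (S.typ_act h0) f0
    rw [K.act_mem H hm] at h'
    have := congrArg (fun v : V => v.2) h'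
    simpa [tail_E, f0] using this.symm)
  have hnot : ∀ e : G, e ∈ Q → e * e = 1 → e ≠ 1 → e ≠ z → ¬ InQ z Q e t0 := by
    intro e he he2 he1 hez hin
    obtain ⟨c, hc, hcv⟩ := K.transitive H (w := x0) (fun h => ((K.zero_iff he).1 h).elim he1 hez)
      ((K.invol_iff H.extra.ne_one he).1 he2) (by decide) (by decide)
    obtain ⟨c, hc, hcx⟩ : ∃ c, c * z = z * c ∧ c * e * c⁻¹ = x := by
      rw [K.act_vec H hc he, ← S.hxv] at hcv
      rcases K.eq_or H (H.norm c hc e he) S.hx hcv with k | k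
      · exact ⟨c, hc, k⟩
      · obtain ⟨y, hy, hyx⟩ := H.extra.exists_conj_eq S.hx S.x_ne.1 S.x_ne.2
        refine ⟨y * c, (Commute.mul_left (H.extra.comm_z hy) hc).eq, ?_⟩
        calc y * c * e * (y * c)⁻¹ = y * (c * e * c⁻¹) * y⁻¹ := by group
          _ = y * (z * x) * y⁻¹ := by rw [k]
          _ = z * (y * x * y⁻¹) := by rw [← mul_assoc y z, H.extra.comm_z hy]; group
          _ = z * (z * x) := by rw [hyx]
          _ = x := by rw [← mul_assoc, H.extra.sq_one, one_mul]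
    have hR : c * t0 * c⁻¹ ∈ S.R := by
      have := Hyp.inQ_conj c hin
      rw [hcx, H.inQ_iff S.hg] at this
      exact S.mem_R.2 ⟨this, conj_comm_z hc h0z⟩
    have hu' : S.ur (c * t0 * c⁻¹) ≠ 0 := fun k => hQ0 (by
      have := H.norm c⁻¹ (Commute.inv_left hc).eq _ ((S.ur_zero hR).1 k)
      simpa [mul_assoc] using this)
    -- `z` is a commutator of `t0` with `Q`
    obtain ⟨r, q, hr, hq, hqx, hrq, hur, hw⟩ := h0
    obtain ⟨w, hw1, hw2⟩ := hpair 0 1
    set b := K.lift (inj w) with hb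
    have hbQ : b ∈ Q := K.lift_mem _
    have hrb : r * b = b * r := S.comm_el_zero hr hbQ (S.lift_x w) (by rw [hur, hb, K.vec_lift]; exact hw1)
    have hqb : q * b * q⁻¹ = z * b := by
      rw [K.conj hbQ hq, if_neg]
      rw [hb, K.vec_lift, B_comm]
      simp [B, pB, inj, (S.comm_x_iff hq).1 hqx, hw, hw2]
    have ht0b : t0 * b * t0⁻¹ = z * b := by
      calc t0 * b * t0⁻¹ = r * (q * b * q⁻¹) * r⁻¹ := by rw [hrq]; group
        _ = r * z * b * r⁻¹ := by rw [hqb]; group
        _ = z * (r * b) * r⁻¹ := by rw [S.R_z hr]; group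
        _ = z * b := by rw [hrb]; group
    set b' := c * b * c⁻¹ with hb'
    have hb'Q : b' ∈ Q := H.norm c hc b hbQ
    have he' : c * t0 * c⁻¹ * b' * (c * t0 * c⁻¹)⁻¹ = z * b' := by
      calc c * t0 * c⁻¹ * b' * (c * t0 * c⁻¹)⁻¹ = c * (t0 * b * t0⁻¹) * c⁻¹ := by rw [hb']; group
        _ = (c * z) * b * c⁻¹ := by rw [ht0b]; group
        _ = z * b' := by rw [hc, hb']; group
    have hv := congrArg K.vec he'
    rw [← K.act_vec H (S.R_z hR) hb'Q, S.act_R hR, K.mul H.extra.z_mem hb'Q, K.vec_z H, zero_add] at hv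
    have hv2 := congrArg (fun v : V => v.2) hv
    rcases zcases (K.vec b').1.2 with k | k
    · have e := S.comm_R hR hb'Q ((S.comm_x_iff hb'Q).2 k)
      rw [he', mul_inv_cancel_right] at e
      obtain ⟨e1, e2⟩ := S.el_inj ((by simp [el] : S.el 1 0 = z).trans e)
      exact absurd (e1.trans e2.symm) (by decide)
    · simp [tail_E, k] at hv2
      exact hu' hv2
  have hz : ¬ InQ z Q t0 z := fun hi =>
    hQ0 (H.inQ_z.1 (H.inQ_symm (h := 1) (by group) hi))
  have htriv : ∀ b, b ∈ Q → InQ z Q t0 b → b = 1 := by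
    intro b hb hi
    by_contra hb1
    rcases H.extra.sq_cases hb with hb2 | hb2
    · obtain ⟨y, hy⟩ := K.conj_of_mem H hb hb2 hb1
      exact hnot b hb hb2 hb1 (fun k => hz (k ▸ hi)) (H.inQ_symm hy hi)
    · refine hz (hb2 ▸ (H.inQ_iff hh).2 ?_)
      rw [show h⁻¹ * (b * b) * h = h⁻¹ * b * h * (h⁻¹ * b * h) by group]
      exact mul_mem ((H.inQ_iff hh).1 hi) ((H.inQ_iff hh).1 hi)
  set s := h⁻¹ * z * h with hs
  have hsz : s * z = z * s := by
    rw [← hh] at h0z
    calc s * z = h⁻¹ * (z * (h * z * h⁻¹)) * h := by rw [hs]; group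
      _ = h⁻¹ * (h * z * h⁻¹ * z) * h := by rw [h0z]
      _ = z * s := by rw [hs]; group
  have hs2 : s * s = 1 := by
    rw [hs, show h⁻¹ * z * h * (h⁻¹ * z * h) = h⁻¹ * (z * z) * h by group, H.extra.sq_one]; group
  -- at least sixteen elements of `Q` commute with `s`
  have hfix16 : 16 ≤ (Finset.univ.filter fun v : V => K.act s v = v).card := by
    have hI := K.inv_act H hsz hs2
    set N : V → V := fun v => K.act s v + v with hN
    have h1 : (Finset.univ : Finset V).card ≤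
        (Finset.univ.filter fun v : V => K.act s v = v).card * (Finset.univ.image N).card := by
      refine Finset.card_le_mul_card_image _ _ fun b hb => ?_
      obtain ⟨a, -, rfl⟩ := Finset.mem_image.1 hb
      refine Finset.card_le_card_of_injOn (fun v => v + a) (fun v hv => ?_) (fun p _ r _ e => add_right_cancel e)
      simp only [Finset.coe_filter, Set.mem_setOf_eq, Finset.mem_univ, true_and, hN] at hv ⊢
      refine eqV ?_
      rw [hI.add, show K.act s v + K.act s a + (v + a) = (K.act s v + v) + (K.act s a + a) by abel, hv, addV]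
    have h2 : (Finset.univ.image N).card ≤ (Finset.univ.filter fun v : V => K.act s v = v).card := by
      refine Finset.card_le_card fun b hb => ?_
      obtain ⟨a, -, rfl⟩ := Finset.mem_image.1 hb
      simp only [Finset.mem_filter, Finset.mem_univ, true_and, hN]
      rw [hI.add, hI.inv, add_comm]
    have h3 : (Finset.univ : Finset V).card = 256 := by
      simp [Finset.card_univ, Fintype.card_prod, ZMod.card]
    rw [h3] at h1
    generalize (Finset.univ.filter fun v : V => K.act s v = v).card = a at h1 h2 ⊢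
    generalize (Finset.univ.image N).card = b at h1 h2
    by_contra hlt
    have := Nat.mul_le_mul (show a ≤ 15 by omega) (show b ≤ 15 by omega)
    omega
  have h16 : 16 ≤ Nat.card {a : G // a ∈ Q ∧ a * s = s * a} := by
    have hA : 32 ≤ Nat.card {a : G // a ∈ Q ∧ K.act s (K.vec a) = K.vec a} := by
      rw [K.card_lifts H (fun v => K.act s v = v)]; omega
    have key : ∀ a : {a : G // a ∈ Q ∧ K.act s (K.vec a) = K.vec a}, ¬ a.1 * s = s * a.1 →
        s * a.1 * s⁻¹ = z * a.1 := fun a hn => by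
      have e : K.vec (s * a.1 * s⁻¹) = K.vec a.1 := by rw [← K.act_vec H hsz a.2.1]; exact a.2.2
      exact (K.eq_or H (H.norm s hsz _ a.2.1) a.2.1 e).resolve_left fun k =>
        hn (mul_inv_eq_iff_eq_mul.1 k).symm
    suffices hle : Nat.card {a : G // a ∈ Q ∧ K.act s (K.vec a) = K.vec a} ≤
        2 * Nat.card {a : G // a ∈ Q ∧ a * s = s * a} by omega
    rw [show 2 * Nat.card {a : G // a ∈ Q ∧ a * s = s * a} =
      Nat.card (Bool × {a : G // a ∈ Q ∧ a * s = s * a}) by simp]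
    by_cases hall : ∀ a : {a : G // a ∈ Q ∧ K.act s (K.vec a) = K.vec a}, a.1 * s = s * a.1
    · refine Nat.card_le_card_of_injective (fun a => (true, ⟨a.1, a.2.1, hall a⟩)) fun a b k => Subtype.ext ?_
      simpa using k
    · obtain ⟨a0, ha0⟩ := not_forall.1 hall
      let f : {a : G // a ∈ Q ∧ K.act s (K.vec a) = K.vec a} → Bool × {a : G // a ∈ Q ∧ a * s = s * a} :=
        fun a => if ha : a.1 * s = s * a.1 then (true, ⟨a.1, a.2.1, ha⟩) else
          (false, ⟨a.1 * a0.1, mul_mem a.2.1 a0.2.1, by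
            refine (mul_inv_eq_iff_eq_mul.1 (?_ : s * (a.1 * a0.1) * s⁻¹ = a.1 * a0.1)).symm
            calc s * (a.1 * a0.1) * s⁻¹ = (s * a.1 * s⁻¹) * (s * a0.1 * s⁻¹) := by group
              _ = z * (a.1 * z) * a0.1 := by rw [key a ha, key a0 ha0]; group
              _ = a.1 * a0.1 := by
                rw [H.extra.comm_z a.2.1, ← mul_assoc z z, H.extra.sq_one, one_mul]⟩)
      refine Nat.card_le_card_of_injective f fun a b k => Subtype.ext ?_
      simp only [f] at k
      split_ifs at k with p1 p2 p2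
      · simpa using k
      · simp at k
      · simp at k
      · simpa using k
  -- the group `M`
  let M : Subgroup G := Q.map (MulAut.conj h).toMonoidHom ⊓ centralizer ({z} : Set G)
  have hM : ∀ m, m ∈ M ↔ h⁻¹ * m * h ∈ Q ∧ m * z = z * m := by
    intro m
    simp only [M, mem_inf, mem_centralizer_singleton_iff]
    refine and_congr ⟨?_, fun k => ⟨_, k, by simp [mul_assoc]⟩⟩ Iff.rfl
    rintro ⟨q, hq, rfl⟩
    simpa [mul_assoc] using hq
  have hM16 : 16 ≤ Nat.card M := by
    refine h16.trans (Nat.card_le_card_of_injective (fun a => ⟨h * a.1 * h⁻¹, (hM _).2 ⟨?_, ?_⟩⟩) ?_)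
    · simpa [mul_assoc] using a.2.1
    · calc h * a.1 * h⁻¹ * z = h * (a.1 * (h⁻¹ * z * h)) * h⁻¹ := by group
        _ = h * (h⁻¹ * z * h * a.1) * h⁻¹ := congrArg (fun w => h * w * h⁻¹) a.2.2
        _ = z * (h * a.1 * h⁻¹) := by group
    · intro a b k
      have := congrArg (fun m : M => (m : G)) k
      simpa [mul_assoc, Subtype.ext_iff] using this
  have hzM : ∀ m : M, (m : G) * z = z * m := fun m => ((hM _).1 m.2).2
  have hcA : ∀ a ∈ Q, a * t0 = t0 * a → ∀ m : M, (m : G) * a = a * m := by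
    intro a ha hat m
    obtain ⟨hmQ, hm⟩ := (hM _).1 m.2
    have h1 : (m : G) * a * (m : G)⁻¹ * a⁻¹ ∈ Q := mul_mem (H.norm m hm a ha) (inv_mem ha)
    have hha : h⁻¹ * a * h * z = z * (h⁻¹ * a * h) := by
      calc h⁻¹ * a * h * z = h⁻¹ * (a * (h * z * h⁻¹)) * h := by group
        _ = h⁻¹ * (t0 * a) * h := by rw [hh, hat]
        _ = z * (h⁻¹ * a * h) := by rw [← hh]; group
    have h2 : InQ z Q t0 ((m : G) * a * (m : G)⁻¹ * a⁻¹) := by
      refine (H.inQ_iff hh).2 ?_
      rw [show h⁻¹ * ((m : G) * a * (m : G)⁻¹ * a⁻¹) * h =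
        h⁻¹ * m * h * (h⁻¹ * a * h * (h⁻¹ * m * h)⁻¹ * (h⁻¹ * a * h)⁻¹) by group]
      exact mul_mem hmQ (H.norm _ hha _ (inv_mem hmQ))
    exact mul_inv_eq_iff_eq_mul.1 (mul_inv_eq_one.1 (htriv _ h1 h2))
  have hFfix : ∀ (m : M) (v : V), v.1.2 = 0 → BW v.2 u0 = 0 → BW v.2 w0 = 0 → K.act m v = v := by
    intro m v h1 h2 h3
    have ha := K.lift_mem v
    have hv := K.vec_lift v
    have k := hcA _ ha (S.typ_comm_lifts h0 ha (by rw [hv]; exact h1) (by rw [hv]; exact h2) (by rw [hv]; exact h3)) m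
    rw [← hv, K.act_vec H (hzM m) ha, k, mul_inv_cancel_right]
  have hx0 : ∀ m : M, K.act m x0 = x0 := fun m => hFfix m x0 rfl (BW_zero_left _) (BW_zero_left _)
  have hres : ∀ (m : M) (w : W), BW w u0 = 0 → BW w w0 = 0 → K.res m w = w := fun m w h1 h2 => by
    show (K.act m (inj w)).2 = w
    rw [hFfix m (inj w) rfl h1 h2]; rfl
  have hperm : ∀ (m : M) (i : Fin n), ∃ j, K.res m (T i) = T j := fun m i =>
    hclosed i _ (K.res_q H (hzM m) (hx0 m) _) fun w h1 h2 => by
      conv_lhs => rw [← hres m w h1 h2]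
      exact K.res_B H (hzM m) (hx0 m) _ _
  choose f hf using hperm
  have hf1 : ∀ i, f 1 i = i := fun i => hT (by rw [← hf, Subgroup.coe_one, K.res_one H])
  have hfm : ∀ m m' i, f (m * m') i = f m (f m' i) := fun m m' i => hT (by
    rw [← hf, Subgroup.coe_mul, K.res_mul H (hzM m) (hzM m') (hx0 m) (hx0 m'), hf, hf])
  let φ : M →* Equiv.Perm (Fin n) :=
    { toFun := fun m => ⟨f m, f m⁻¹, fun i => by rw [← hfm, inv_mul_cancel, hf1],
        fun i => by rw [← hfm, mul_inv_cancel, hf1]⟩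
      map_one' := Equiv.ext hf1
      map_mul' := fun m m' => Equiv.ext (hfm m m') }
  have hker : Nat.card φ.ker ≤ 4 := by
    rw [← hfour, ← Nat.card_eq_finsetCard]
    have hE : ∀ m : φ.ker, K.act (m.1 : G) = E (K.act (m.1 : G) f0).2 := fun m =>
      K.eq_E H (hzM m.1) (hx0 m.1) (hfaith _ (K.res_q H (hzM m.1) (hx0 m.1)) (K.res_B H (hzM m.1) (hx0 m.1))
        (hres m.1) fun i => by rw [hf]; exact congrArg T (Equiv.ext_iff.1 (MonoidHom.mem_ker.1 m.2) i))
    refine Nat.card_le_card_of_injective (fun m => ⟨(K.act (m.1 : G) f0).2, ?_⟩) fun m m' k => ?_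
    · refine Finset.mem_filter.2 ⟨Finset.mem_univ _, fun w h1 h2 => ?_⟩
      have e := hFfix m.1 (inj w) rfl h1 h2
      rw [hE m] at e
      have e1 := congrArg (fun v : V => v.1.1) e
      simpa [E, inj] using e1
    · have k' : (K.act (m.1 : G) f0).2 = (K.act (m'.1 : G) f0).2 := congrArg Subtype.val k
      have hz' := ((Commute.inv_left (hzM m'.1)).mul_left (hzM m.1)).eq
      obtain ⟨hmQ, -⟩ := (hM _).1 (m'.1⁻¹ * m.1).2
      have := htriv _ (K.mem_of_act H (c := (m'.1 : G)⁻¹ * m.1) hz' fun v => by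
        rw [K.act_mul H (Commute.inv_left (hzM m'.1)).eq (hzM m.1), hE m, k', ← hE m',
          K.act_inv_cancel H (hzM m'.1)]) ((H.inQ_iff hh).2 hmQ)
      exact Subtype.ext (Subtype.ext (inv_mul_eq_one.1 this).symm)
  have hprod := Subgroup.card_eq_card_quotient_mul_card_subgroup φ.ker
  rw [Nat.card_congr (QuotientGroup.quotientKerEquivRange φ).toEquiv] at hprod
  have d1 : Nat.card φ.range ∣ n.factorial := by
    have := Subgroup.card_subgroup_dvd_card φ.range
    rwa [Nat.card_eq_fintype_card (α := Equiv.Perm (Fin n)), Fintype.card_perm, Fintype.card_fin] at this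
  have d2 : Nat.card φ.range ∣ 512 := by
    refine (Dvd.intro _ hprod.symm).trans ?_
    have := Subgroup.card_dvd_of_le (inf_le_left : M ≤ Q.map (MulAut.conj h).toMonoidHom)
    rwa [Subgroup.card_map_of_injective (MulAut.conj h).injective, H.card] at this
  have hle : Nat.card φ.range ≤ 2 := by
    obtain ⟨k, -, hk⟩ := (Nat.dvd_prime_pow Nat.prime_two).1 (show Nat.card φ.range ∣ 2 ^ 9 from d2)
    rcases k with _ | _ | k
    · rw [hk]; norm_num
    · rw [hk]; norm_num
    · exact absurd ((Dvd.intro (2 ^ k) (by rw [hk]; ring)).trans d1) hn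
  nlinarith [Nat.mul_le_mul hle hker]

theorem typA_not_conj {t : G} (ht : S.Typ A1 A2 t) : ¬ IsConj z t :=
  S.not_conj_z (n := 2) (by decide) ht
    (by rw [S.typ_sq ht, base_line.1, base_line.2.1, base_line.2.2.1, add_zero, S.el_zero])
    base_line.2.2.2.1 (fun s t => (typ_fix s t).1) F_count.1 perp_four.1 Tline T_injective.1 Tline_closed
    fun _ hq hB hF hT => line_faithful hq hB hF hT

theorem typB_not_conj {t : G} (ht : S.Typ U1 W1 t) : ¬ IsConj z t :=
  S.not_conj_z (n := 3) (by decide) ht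
    (by rw [S.typ_sq ht, base_pair.1, base_pair.2.1, base_pair.2.2, CharTwo.add_self_eq_zero, S.el_zero])
    (by decide) (fun s t => (typ_fix s t).2) F_count.2 perp_four.2 Tpair T_injective.2 Tpair_closed
    fun _ _ hB hF hT => pair_faithful hB hF hT

end Base

end CfsgLib.CoOneType
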