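import Mathlib
import Cfsg.Agent.Lib.CoOneType.Lower

/-!
Every involution is conjugate into the centralizer of `z`.
-/

set_option autoImplicit false
set_option linter.style.longLine false

namespace CfsgLib.CoOneType

open Subgroup

variable {G : Type*} [Group G] [Finite G] {z : G} {Q : Subgroup G}

namespace Hyp

variable (H : Hyp z Q)
include H

theorem exists_sylow_le : ∃ S : Sylow 2 G, (S : Subgroup G) ≤ centralizer ({z} : Set G) := by
  have : Fact (Nat.Prime 2) := ⟨Nat.prime_two⟩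
  set C := centralizer ({z} : Set G) with hC
  let S₀ : Sylow 2 C := default
  have hQ2 : IsPGroup 2 (Q.subgroupOf C) :=
    IsPGroup.of_card (n := 9) (by
      rw [Nat.card_congr (Subgroup.subgroupOfEquivOfLe H.hQC).toEquiv, H.card]; norm_num)
  have hQn : (Q.subgroupOf C).Normal :=
    ⟨fun a ha g => H.norm g.1 (mem_centralizer_singleton_iff.1 g.2) a.1 ha⟩
  have hQS : ∀ q ∈ Q, ∀ h : q ∈ C, (⟨q, h⟩ : C) ∈ (S₀ : Subgroup C) := by
    intro q hq h
    obtain ⟨S', hS'⟩ := hQ2.exists_le_sylow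
    obtain ⟨g, hg⟩ := MulAction.exists_smul_eq C S' S₀
    rw [← hg, Sylow.coe_subgroup_smul, Subgroup.mem_pointwise_smul_iff_inv_smul_mem]
    exact hS' (by simpa using hQn.conj_mem ⟨q, h⟩ hq g⁻¹)
  set S := (S₀ : Subgroup C).map C.subtype with hS
  have hS2 : IsPGroup 2 S := S₀.isPGroup'.map _
  obtain ⟨S₁, hS₁⟩ := hS2.exists_le_sylow
  refine ⟨S₁, ?_⟩
  suffices h : (S₁ : Subgroup G) ≤ S from h.trans (map_subtype_le _)
  by_contra hne
  have hnil : Group.IsNilpotent (S₁ : Subgroup G) := S₁.isPGroup'.isNilpotent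
  have hlt : S.subgroupOf (S₁ : Subgroup G) < ⊤ := lt_top_iff_ne_top.2 fun h =>
    hne (Subgroup.subgroupOf_eq_top.1 h)
  obtain ⟨n, hnN, hnS⟩ :=
    SetLike.exists_of_lt (normalizerCondition_of_isNilpotent (S.subgroupOf _) hlt)
  have hconj : ∀ a ∈ S, (n : G)⁻¹ * a * n ∈ S ∧ (n : G) * a * (n : G)⁻¹ ∈ S := fun a ha => by
    have h1 := (mem_normalizer_iff.1 hnN ⟨a, hS₁ ha⟩).1 ha
    have h2 := (mem_normalizer_iff.1 (inv_mem hnN) ⟨a, hS₁ ha⟩).1 ha
    refine ⟨?_, h1⟩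
    simpa [Subgroup.mem_subgroupOf] using h2
  have hQS' : ∀ q ∈ Q, q ∈ S := fun q hq => ⟨⟨q, H.hQC hq⟩, hQS q hq _, rfl⟩
  have hzS : z ∈ S := hQS' z H.extra.z_mem
  set p := (n : G) * z * (n : G)⁻¹ with hp
  have hpS : p ∈ S := (hconj z hzS).2
  have hpc : ∀ q ∈ Q, q * p = p * q := by
    intro q hq
    have h1 := mem_centralizer_singleton_iff.1 (map_subtype_le _ (hconj q (hQS' q hq)).1)
    calc q * p = (n : G) * ((n : G)⁻¹ * q * n * z) * (n : G)⁻¹ := by rw [hp]; group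
      _ = p * q := by rw [h1, hp]; group
  have hpQ : p ∈ Q := H.self p (mem_centralizer_singleton_iff.1 (map_subtype_le _ hpS)) hpc
  have hpz : p = z := by
    refine (H.extra.central_cases hpQ hpc).resolve_left fun h => H.extra.ne_one ?_
    calc z = (n : G)⁻¹ * p * n := by rw [hp]; group
      _ = 1 := by rw [h]; group
  have hnC : (n : G) ∈ C := mem_centralizer_singleton_iff.2 (mul_inv_eq_iff_eq_mul.1 hpz)
  have hmax := S₀.3 (Q := (S₁ : Subgroup G).subgroupOf C)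
    (S₁.isPGroup'.comap_of_injective C.subtype C.subtype_injective)
    (fun a ha => hS₁ ⟨a, ha, rfl⟩)
  refine hnS ?_
  show (n : G) ∈ S
  exact ⟨⟨n, hnC⟩, hmax ▸ (n.2 : (n : G) ∈ (S₁ : Subgroup G)), rfl⟩

theorem exists_conj_mem {t : G} (ht : t * t = 1) : ∃ g, g * t * g⁻¹ * z = z * (g * t * g⁻¹) := by
  have : Fact (Nat.Prime 2) := ⟨Nat.prime_two⟩
  obtain ⟨S, hS⟩ := H.exists_sylow_le
  have hp : IsPGroup 2 (zpowers t) := by
    intro y
    refine ⟨1, Subtype.ext ?_⟩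
    obtain ⟨i, hi⟩ := y.2
    show (y : G) ^ (2 ^ 1) = 1
    rw [← hi, pow_one, ← zpow_natCast, ← zpow_mul, mul_comm, zpow_mul, zpow_natCast, pow_two, ht,
      one_zpow]
  obtain ⟨S', hS'⟩ := hp.exists_le_sylow
  obtain ⟨g, hg⟩ := MulAction.exists_smul_eq G S' S
  refine ⟨g, mem_centralizer_singleton_iff.1 (hS ?_)⟩
  rw [← hg, Sylow.coe_subgroup_smul, Subgroup.mem_pointwise_smul_iff_inv_smul_mem]
  exact hS' (by simp [mul_assoc])

end Hyp

end CfsgLib.CoOneType
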