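import Mathlib
import Cfsg.Agent.Lib.CoOneType.IntoCentralizer

/-!
The lifts of a singular and of an anisotropic pair are not conjugate: their centralizers have different
2-parts.
-/

set_option autoImplicit false
set_option linter.style.longLine false
set_option maxHeartbeats 2000000
set_option synthInstance.maxSize 8000
set_option synthInstance.maxHeartbeats 1000000

namespace CfsgLib.CoOneType

open Subgroup

/-- An admissible pair of parameters of the first kind. -/
abbrev okA (p : W × W) : Prop :=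
  qW 0 p.1 = 0 ∧ qW 0 p.2 = 0 ∧ BW p.1 p.2 = 0 ∧ p.1 ≠ 0 ∧ p.2 ≠ 0 ∧ p.1 ≠ p.2

/-- An admissible pair of parameters of the second kind. -/
abbrev okB (p : W × W) : Prop := qW 0 p.1 = 1 ∧ qW 0 p.2 = 1 ∧ BW p.1 p.2 = 1

theorem exists_pv : ∃ p : W, qW 0 p = 1 ∧ BW p U1 = 0 ∧ BW p W1 = 0 := by decide +kernel

theorem pair_central : ∀ a : W, (∀ w : W, BW w U1 = 0 → BW w W1 = 0 → BW a w = 0) →
    ∀ p : W, qW 0 p = 1 → BW p U1 = 0 → BW p W1 = 0 → reflW p (reflW U1 a) = a → a = 0 ∨ a = U1 := by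
  decide +kernel

theorem B_f0_x0 : B f0 x0 = 1 := by decide +kernel

theorem E_U1_twice : ∀ v : V, E U1 (E U1 v) = v := by decide +kernel

theorem pair_perp_zero : ∀ d : W, (∀ w : W, BW w U1 = 0 → BW w W1 = 0 → BW d w = 0) → BW U1 d = 0 →
    BW W1 d = 0 → d = 0 := by decide +kernel

variable {G : Type*} [Group G] [Finite G] {z : G} {Q : Subgroup G}

namespace Base

variable {K : Coord z Q 0} {x g : G} (S : Base K x g)
include S

/-- Conjugation by an element of `Q` outside `C(x)`. -/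
theorem typ_shift {u w : W} {t : G} (ht : S.Typ u w t) :
    S.Typ u (w + u) (K.lift f0 * t * (K.lift f0)⁻¹) := by
  have H := S.hyp
  obtain ⟨r, q, hr, hq, hqx, rfl, hu, hw⟩ := ht
  set v := K.lift f0 with hv
  have hvQ : v ∈ Q := K.lift_mem _
  have hrinv := (Commute.inv_left (S.R_z hr)).eq
  have hri : r⁻¹ * v * r ∈ Q := by
    have := H.norm r⁻¹ hrinv v hvQ
    rwa [inv_inv] at this
  have hq' := mul_mem (mul_mem hri hq) (inv_mem hvQ)
  have hui : S.ur r⁻¹ = u := by
    have := S.ur_mul hr (inv_mem hr)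
    rw [mul_inv_cancel, (S.ur_zero (one_mem _)).2 (one_mem _), hu] at this
    exact (eqW this.symm).symm
  have hvec : K.vec (r⁻¹ * v * r * q * v⁻¹) = E u f0 + K.vec q + f0 := by
    rw [K.mul (mul_mem hri hq) (inv_mem hvQ), K.mul hri hq, K.vec_inv hvQ,
      show r⁻¹ * v * r = r⁻¹ * v * r⁻¹⁻¹ by group, ← K.act_vec H hrinv hvQ,
      S.act_R (inv_mem hr), hv, K.vec_lift, hui]
  refine ⟨r, _, hr, hq', (S.comm_x_iff hq').2 ?_, by group, hu, ?_⟩ <;> rw [hvec]
  · simp [E, f0, (S.comm_x_iff hq).1 hqx, CharTwo.add_self_eq_zero]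
  · simp [E, f0, hw, add_comm]

theorem act_x0 {c : G} (hc : c * z = z * c) (hx : c * x = x * c) : K.act c x0 = x0 := by
  rw [← S.hxv, K.act_vec S.hyp hc S.hx, hx, mul_inv_cancel_right]

theorem act_f0_conj : K.lift f0 * x * (K.lift f0)⁻¹ = z * x := by
  rw [K.conj S.hx (K.lift_mem f0), K.vec_lift, S.hxv, if_neg]
  decide +kernel

/-- The elements of one kind. -/
def kind (ok : W × W → Prop) : Set G := {t | ∃ p, ok p ∧ S.Typ p.1 p.2 t}

/-- The stabilizer count. -/
theorem card_stab (ok : W × W → Prop) [DecidablePred ok] {u0 w0 : W} {t0 : G} (h0 : S.Typ u0 w0 t0)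
    (hok0 : ok (u0, w0)) (hpair : ∀ s t : ZMod 2, ∃ w : W, BW u0 w = s ∧ BW w0 w = t)
    (hshift : ∀ p, ok p → ok (p.1, p.2 + p.1))
    (hres : ∀ {c : G}, c * z = z * c → K.act c x0 = x0 → ∀ p, ok p → ok (K.res c p.1, K.res c p.2))
    (htrans : ∀ p, ok p → ∃ c : G, c * z = z * c ∧ K.act c x0 = x0 ∧ K.res c p.1 = u0 ∧ K.res c p.2 = w0) :
    Nat.card ↥(((K.P S.hyp).map (Cz z).subtype) ⊓ centralizer ({t0} : Set G)) *
      ((Finset.univ.filter ok).card * 4) * 135 = 512 * 174182400 := by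
  classical
  have H := S.hyp
  have hcard : Nat.card (S.kind ok) = (Finset.univ.filter ok).card * 4 := by
    have hrep : ∀ p : {p // ok p}, ∃ t, S.Typ p.1.1 p.1.2 t := fun p => S.exists_typ _ _
    choose rep hrep using hrep
    have hel : ∀ (p : {p // ok p}) (i j : ZMod 2), S.Typ p.1.1 p.1.2 (rep p * S.el i j) := fun p i j => by
      obtain ⟨r, q, hr, hq, hqx, e, hu, hw⟩ := hrep p
      refine ⟨r, q * S.el i j, hr, mul_mem hq (S.el_mem i j), (Commute.mul_left hqx (S.el_x i j)).eq,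
        by rw [e, mul_assoc], hu, ?_⟩
      rw [K.mul hq (S.el_mem i j), S.vec_el, Prod.snd_add, hw, add_zero]
    let F : {p // ok p} × (ZMod 2 × ZMod 2) → S.kind ok := fun a =>
      ⟨rep a.1 * S.el a.2.1 a.2.2, a.1.1, a.1.2, hel a.1 a.2.1 a.2.2⟩
    have hF : Function.Bijective F := by
      constructor
      · rintro ⟨p, i, j⟩ ⟨p', i', j'⟩ h
        have h1 : rep p * S.el i j = rep p' * S.el i' j' := congrArg Subtype.val h
        have hu : p.1.1 = p'.1.1 := by
          have e := congrFun (S.typ_act (hel p i j)) f0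
          rw [h1, S.typ_act (hel p' i' j')] at e
          simpa [tail_E, f0] using (congrArg (fun v : V => v.2) e).symm
        obtain ⟨r, q, hr, hq, -, e, hur, hw⟩ := hrep p
        obtain ⟨r', q', hr', hq', -, e', hur', hw'⟩ := hrep p'
        obtain ⟨k, l, hk⟩ := S.ur_congr hr hr' (by rw [hur, hur', hu])
        have hww : p.1.2 = p'.1.2 := by
          rw [e, e', hk, mul_assoc, mul_assoc, mul_assoc] at h1
          have := congrArg K.vec (mul_left_cancel h1)
          rw [K.mul hq (S.el_mem i j), K.mul (S.el_mem k l) (mul_mem hq' (S.el_mem i' j')),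
            K.mul hq' (S.el_mem i' j'), S.vec_el, S.vec_el, S.vec_el] at this
          have h2 := congrArg (fun v : V => v.2) this
          simpa [hw, hw'] using h2
        obtain rfl : p = p' := Subtype.ext (Prod.ext hu hww)
        obtain ⟨rfl, rfl⟩ := S.el_inj (mul_left_cancel h1)
        rfl
      · rintro ⟨t, p, hp, ht⟩
        obtain ⟨r, q, hr, hq, hqx, rfl, hu, hw⟩ := ht
        obtain ⟨r', q', hr', hq', hqx', e', hu', hw'⟩ := hrep ⟨p, hp⟩
        obtain ⟨k, l, hk⟩ := S.ur_congr hr' hr (hu'.trans hu.symm)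
        obtain ⟨k', l', hk'⟩ := S.exists_el (mul_mem (inv_mem hq') hq)
          (by rw [K.mul (inv_mem hq') hq, K.vec_inv hq', Prod.fst_add, Prod.snd_add, (S.comm_x_iff hq').1 hqx',
            (S.comm_x_iff hq).1 hqx, add_zero])
          (by rw [K.mul (inv_mem hq') hq, K.vec_inv hq', Prod.snd_add, hw, hw', addW])
        refine ⟨(⟨p, hp⟩, k + k', l + l'), Subtype.ext ?_⟩
        show rep ⟨p, hp⟩ * S.el (k + k') (l + l') = r * q
        rw [inv_mul_eq_iff_eq_mul.1 hk', hk, e', ← S.el_mul,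
          show r' * q' * (S.el k l * S.el k' l') = r' * (q' * S.el k l) * S.el k' l' by group,
          S.el_comm (H.extra.comm_z hq') hqx']
        group
    rw [← Nat.card_eq_of_bijective F hF, Nat.card_prod, Nat.card_eq_fintype_card, Fintype.card_subtype,
      Nat.card_prod, Nat.card_zmod]
  set P' := (K.P H).map (Cz z).subtype with hP'
  have hP : ∀ c : P', (c : G) * z = z * c ∧ K.act (c : G) x0 = x0 := by
    rintro ⟨c, c', hc', rfl⟩
    exact ⟨Hyp.comm, hc'⟩
  have hmove : ∀ (c : P') (t : G), t ∈ S.kind ok → (c : G) * t * (c : G)⁻¹ ∈ S.kind ok := by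
    rintro c t ⟨p, hp, ht⟩
    obtain ⟨hc, hcx⟩ := hP c
    have hv : K.vec ((c : G) * x * (c : G)⁻¹) = K.vec x := by rw [← K.act_vec H hc S.hx, S.hxv, hcx]
    rcases K.eq_or H (H.norm _ hc x S.hx) S.hx hv with k | k
    · exact ⟨_, hres hc hcx p hp, S.typ_move ht hc (mul_inv_eq_iff_eq_mul.1 k) hcx⟩
    · set v := K.lift f0 with hv0
      have hvQ : v ∈ Q := K.lift_mem _
      set d := v⁻¹ * (c : G) with hd
      have hdz : d * z = z * d := (Commute.mul_left (H.extra.comm_z (inv_mem hvQ)) hc).eq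
      have hdx : d * x = x * d := by
        refine mul_inv_eq_iff_eq_mul.1 ?_
        calc d * x * d⁻¹ = v⁻¹ * ((c : G) * x * (c : G)⁻¹) * v := by rw [hd]; group
          _ = v⁻¹ * (v * x * v⁻¹) * v := by rw [k, hv0, S.act_f0_conj]
          _ = x := by group
      have hd0 := S.act_x0 hdz hdx
      refine ⟨_, hshift _ (hres hdz hd0 p hp), ?_⟩
      have := S.typ_shift (S.typ_move ht hdz hdx hd0)
      rwa [← hv0, show v * (d * t * d⁻¹) * v⁻¹ = (c : G) * t * (c : G)⁻¹ by rw [hd]; group] at this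
  letI : MulAction P' (S.kind ok) :=
    { smul := fun c t => ⟨(c : G) * t.1 * (c : G)⁻¹, hmove c t.1 t.2⟩
      one_smul := fun t => Subtype.ext (by show ((1 : P') : G) * t.1 * ((1 : P') : G)⁻¹ = t.1; simp)
      mul_smul := fun c d t => Subtype.ext (by
        show ((c * d : P') : G) * t.1 * ((c * d : P') : G)⁻¹ = _
        rw [Subgroup.coe_mul, mul_inv_rev, ← mul_assoc]
        show _ = (c : G) * ((d : G) * t.1 * (d : G)⁻¹) * (c : G)⁻¹
        group) }
  let t0' : S.kind ok := ⟨t0, (u0, w0), hok0, h0⟩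
  have hsm : ∀ (c : P') (t : S.kind ok), ((c • t : S.kind ok) : G) = (c : G) * t.1 * (c : G)⁻¹ := fun _ _ => rfl
  have horb : MulAction.orbit P' t0' = Set.univ := by
    refine Set.eq_univ_of_forall ?_
    rintro ⟨t, p, hp, ht⟩
    obtain ⟨c, hc, hcx, hu, hw⟩ := htrans p hp
    obtain ⟨d, hdz, hdx, hd0, hd⟩ := S.exists_fix hc hcx
    have h := S.typ_move ht hdz hdx hd0
    rw [hd, hd, hu, hw] at h
    obtain ⟨y, -, hy, hyx, hyt⟩ := S.typ_conj hpair h h0
    have hyd : y * d * z = z * (y * d) := (Commute.mul_left hy hdz).eq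
    have hmem : (y * d)⁻¹ ∈ P' := inv_mem ⟨⟨y * d, mem_centralizer_singleton_iff.2 hyd⟩,
      S.act_x0 hyd (Commute.mul_left hyx hdx).eq, rfl⟩
    refine ⟨⟨_, hmem⟩, Subtype.ext ?_⟩
    show ((⟨_, hmem⟩ : P') • t0' : S.kind ok).1 = t
    rw [hsm]
    show (y * d)⁻¹ * t0 * (y * d)⁻¹⁻¹ = t
    rw [← hyt]
    group
  have h1 := Nat.card_congr (MulAction.orbitProdStabilizerEquivGroup P' t0')
  rw [Nat.card_prod, horb, Nat.card_congr (Equiv.Set.univ _), hcard] at h1
  have h2 : Nat.card (MulAction.stabilizer P' t0') = Nat.card ↥(P' ⊓ centralizer ({t0} : Set G)) :=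
    Nat.card_congr
      { toFun := fun c => ⟨c.1.1, c.1.2, mem_centralizer_singleton_iff.2 (mul_inv_eq_iff_eq_mul.1 (by
          have := congrArg Subtype.val (MulAction.mem_stabilizer_iff.1 c.2)
          rwa [hsm] at this))⟩
        invFun := fun c => ⟨⟨c.1, c.2.1⟩, MulAction.mem_stabilizer_iff.2 (Subtype.ext (by
          rw [hsm]
          exact mul_inv_eq_iff_eq_mul.2 (mem_centralizer_singleton_iff.1 c.2.2)))⟩
        left_inv := fun c => rfl
        right_inv := fun c => rfl }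
  rw [h2, Subgroup.card_map_of_injective (Cz z).subtype_injective] at h1
  have h3 := K.card_P_eq H
  rw [← h1] at h3
  rw [← h3]
  ring

theorem card_stabA {t : G} (ht : S.Typ A1 A2 t) :
    Nat.card ↥(((K.P S.hyp).map (Cz z).subtype) ⊓ centralizer ({t} : Set G)) = 262144 := by
  have H := S.hyp
  have h := S.card_stab okA ht base_line (fun s t => (typ_fix s t).1)
    (fun p hp => ⟨hp.1, by rw [qW_add, hp.1, hp.2.1, BW_comm, hp.2.2.1]; rfl,
      by rw [BW_add_right, hp.2.2.1, BW_self, add_zero], hp.2.2.2.1,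
      fun e => hp.2.2.2.2.2 (eqW e).symm, fun e => hp.2.2.2.2.1 (right_eq_add.mp e)⟩)
    (fun {c} hc hcx p hp => by
      have hinj := Function.LeftInverse.injective (K.res_inv_cancel H hc hcx)
      have hzero : K.res c 0 = 0 := by
        have := K.res_add H hc 0 0
        rw [add_zero] at this
        exact left_eq_add.mp this
      exact ⟨(K.res_q H hc hcx _).trans hp.1, (K.res_q H hc hcx _).trans hp.2.1,
        (K.res_B H hc hcx _ _).trans hp.2.2.1, fun e => hp.2.2.2.1 (hinj (e.trans hzero.symm)),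
        fun e => hp.2.2.2.2.1 (hinj (e.trans hzero.symm)), fun e => hp.2.2.2.2.2 (hinj e)⟩)
    fun p hp => K.resMoveLine H hp.1 hp.2.1 hp.2.2.1 hp.2.2.2.1 hp.2.2.2.2.1 hp.2.2.2.2.2
  have hcount : (Finset.univ.filter okA).card = 630 := by decide +kernel
  rw [hcount] at h
  generalize Nat.card _ = n at h ⊢
  nlinarith

theorem card_stabB {t : G} (ht : S.Typ U1 W1 t) :
    Nat.card ↥(((K.P S.hyp).map (Cz z).subtype) ⊓ centralizer ({t} : Set G)) = 491520 := by
  have H := S.hyp
  have h := S.card_stab okB ht base_pair (fun s t => (typ_fix s t).2)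
    (fun p hp => ⟨hp.1, by rw [qW_add, hp.1, hp.2.1, BW_comm, hp.2.2]; rfl,
      by rw [BW_add_right, hp.2.2, BW_self, add_zero]⟩)
    (fun {c} hc hcx p hp => ⟨(K.res_q H hc hcx _).trans hp.1, (K.res_q H hc hcx _).trans hp.2.1,
      (K.res_B H hc hcx _ _).trans hp.2.2⟩)
    fun p hp => by
      obtain ⟨c, hc, hcx, hcA⟩ := K.resMoveNs H hp.1 base_pair.1
      obtain ⟨a, ⟨ha, ha1⟩, b, ⟨hb, hb1⟩, hab⟩ := moveW_pair_second (K.res c p.2)
        ((K.res_q H hc hcx _).trans hp.2.1) (by rw [← hcA, K.res_B H hc hcx, hp.2.2])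
      obtain ⟨d, hd, hd0, hdr⟩ := K.resPair H ha hb
      refine ⟨d * c, (Commute.mul_left hd hc).eq, by rw [K.act_mul H hd hc, hcx, hd0], ?_, ?_⟩
      · rw [K.res_mul H hd hc hd0 hcx, hcA, hdr]
        simp [reflW, BW_comm U1 b, BW_comm U1 a, ha1, hb1]
      · rw [K.res_mul H hd hc hd0 hcx, hdr, hab]
  have hcount : (Finset.univ.filter okB).card = 336 := by decide +kernel
  rw [hcount] at h
  generalize Nat.card _ = n at h ⊢
  nlinarith

theorem P_of_commute {t : G} (ht : S.Typ U1 W1 t) {c : G} (hc : c * z = z * c) (hct : c * t = t * c) :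
    K.act c x0 = x0 := by
  have H := S.hyp
  have htz := S.typ_comm ht
  have hN : ∀ v, K.act c (E U1 v + v) = E U1 (K.act c v) + K.act c v := fun v => by
    rw [K.act_add H hc, ← S.typ_act ht, ← K.act_mul H hc htz, hct, K.act_mul H htz hc]
  have hv : E U1 (inj W1) + inj W1 = x0 := by decide +kernel
  have h1 : K.act c x0 = E U1 (K.act c (inj W1)) + K.act c (inj W1) := by
    conv_lhs => rw [← hv]
    exact hN _
  rw [move_eq] at h1
  have hne : K.act c x0 ≠ 0 := fun e =>
    absurd (K.act_injective H hc (e.trans (K.act_zero H hc).symm)) (by decide)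
  have hq := K.act_q H hc x0
  rw [h1] at hq hne ⊢
  rcases zcases (K.act c (inj W1)).1.2 with k | k
  · rw [k] at hne ⊢
    rcases zero_line (((BW U1 (K.act c (inj W1)).2 + 0 * qW 0 U1, 0), (0 : ZMod 2) • U1) : V) rfl (zero_smul _ _)
      with e | e
    · exact absurd e hne
    · exact e
  · rw [k] at hq
    simp [qV, base_pair.1, x0, qW_zero] at hq

/-- An element of `Q` central in the relevant subgroup. -/
theorem central_el {t : G} (ht : S.Typ U1 W1 t) {b : G} (hb : b ∈ Q) (hbt : b * t = t * b)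
    (hlift : ∀ a ∈ Q, (K.vec a).1.2 = 0 → BW (K.vec a).2 U1 = 0 → BW (K.vec a).2 W1 = 0 → b * a = a * b)
    {c : G} (hcz : c * z = z * c) (hcx : c * x * c⁻¹ = z * x) (hbc : b * c = c * b) : b = 1 ∨ b = z := by
  have H := S.hyp
  have hne := H.extra.ne_one
  have hb0 : (K.vec b).1.2 = 0 := by
    refine (S.comm_x_iff hb).1 (hlift x S.hx ?_ ?_ ?_) <;> rw [S.hxv]
    exacts [rfl, BW_zero_left _, BW_zero_left _]
  have htail : (K.vec b).2 = 0 := by
    obtain ⟨r, q, hr, hq, hqx, rfl, hu, hw⟩ := ht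
    have hbx := (S.comm_x_iff hb).2 hb0
    have e1 := S.comm_R hr hb hbx
    rw [hu] at e1
    have e2 : q * b * q⁻¹ = S.el (BW W1 (K.vec b).2) 0 * b := by
      rw [K.conj hb hq]
      have : B (K.vec b) (K.vec q) = BW W1 (K.vec b).2 := by
        simp [B, pB, hb0, (S.comm_x_iff hq).1 hqx, hw, BW_comm]
      rw [this]
      rcases zcases (BW W1 (K.vec b).2) with k | k <;> simp [k, el]
    have e3 : r * b * r⁻¹ = S.el (BW U1 (K.vec b).2) (BW U1 (K.vec b).2) * b := by
      rw [← e1]; group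
    have e4 : S.el (BW W1 (K.vec b).2 + BW U1 (K.vec b).2) (BW U1 (K.vec b).2) = S.el 0 0 := by
      rw [S.el_zero]
      refine mul_right_cancel (b := b) ?_
      calc S.el (BW W1 (K.vec b).2 + BW U1 (K.vec b).2) (BW U1 (K.vec b).2) * b
          = S.el (BW W1 (K.vec b).2) 0 * (r * b * r⁻¹) := by rw [e3, ← mul_assoc, S.el_mul, zero_add]
        _ = r * (q * b * q⁻¹) * r⁻¹ := by rw [e2, ← mul_assoc r, S.R_el hr]; group
        _ = (r * q) * b * (r * q)⁻¹ := by group
        _ = 1 * b := by rw [← hbt, mul_inv_cancel_right, one_mul]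
    obtain ⟨k1, k2⟩ := S.el_inj e4
    rw [k2, add_zero] at k1
    refine pair_perp_zero _ (fun w h1 h2 => ?_) k2 k1
    have := (K.comm_iff hne hb (K.lift_mem (inj w))).1 (hlift _ (K.lift_mem _) (by rw [K.vec_lift]; rfl)
      (by rw [K.vec_lift]; exact h1) (by rw [K.vec_lift]; exact h2))
    simpa [B, pB, K.vec_lift, inj, hb0] using this
  obtain ⟨i, j, rfl⟩ := S.exists_el hb hb0 htail
  rcases zcases j with rfl | rfl
  · rcases zcases i with rfl | rfl
    · exact Or.inl S.el_zero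
    · exact Or.inr (by simp [el])
  · exfalso
    have hcel : c * S.el i 1 * c⁻¹ = S.el i 1 := by rw [← hbc, mul_inv_cancel_right]
    have hx1 : S.el i 1 = S.el i 0 * x := by simp [el]
    have : c * S.el i 1 * c⁻¹ = S.el i 0 * (z * x) := by
      rw [hx1, ← hcx]
      rcases zcases i with rfl | rfl
      · rw [S.el_zero]; group
      · rw [show S.el 1 0 = z by simp [el], ← mul_assoc c z x, hcz]; group
    rw [hcel, hx1] at this
    exact hne (right_eq_mul.mp (mul_left_cancel this))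

theorem typ_not_conj_typ {ta tb : G} (hA : S.Typ A1 A2 ta) (hB : S.Typ U1 W1 tb) : ¬ IsConj ta tb := by
  classical
  intro hconj
  obtain ⟨h, hh⟩ := isConj_iff.1 hconj
  have : Fact (Nat.Prime 2) := ⟨Nat.prime_two⟩
  have H := S.hyp
  have htz := S.typ_comm hB
  set CC := Cz z ⊓ centralizer ({tb} : Set G) with hCC
  have hmemCC : ∀ {m : G}, m ∈ CC ↔ m * z = z * m ∧ m * tb = tb * m := fun {m} => by
    rw [hCC, mem_inf, mem_centralizer_singleton_iff, mem_centralizer_singleton_iff]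
  have hCC2 : Nat.card CC = 491520 := by
    rw [← S.card_stabB hB]
    congr 1
    have heq : CC = ((K.P H).map (Cz z).subtype) ⊓ centralizer ({tb} : Set G) := by
      refine le_antisymm (fun m hm => ?_) fun m hm => ?_
      · obtain ⟨h1, h2⟩ := hmemCC.1 hm
        exact ⟨⟨⟨m, mem_centralizer_singleton_iff.2 h1⟩, S.P_of_commute hB h1 h2, rfl⟩,
          mem_centralizer_singleton_iff.2 h2⟩
      · obtain ⟨⟨m', -, rfl⟩, hm2⟩ := hm
        exact ⟨m'.2, hm2⟩
    rw [heq]
  -- an element of `CC` moving `x`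
  obtain ⟨p, hp1, hpU, hpW⟩ := exists_pv
  obtain ⟨d, hdz, hdx, hd0, hd⟩ := S.exists_pair hp1 base_pair.1
  set v := K.lift f0 with hv0
  have hvQ : v ∈ Q := K.lift_mem _
  have hT1 := S.typ_move (S.typ_shift hB) hdz hdx hd0
  have hdU : K.res d U1 = U1 := by rw [hd]; simp [reflW, BW_self, BW_comm U1 p, hpU]
  have hdW : K.res d (W1 + U1) = W1 := by
    rw [hd]
    have e1 : reflW U1 (W1 + U1) = W1 := by
      simp [reflW, BW_add_left, BW_self, BW_comm W1 U1, base_pair.2.2, add_assoc, addW]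
    rw [e1]
    simp [reflW, BW_comm W1 p, hpW]
  rw [hdU, hdW] at hT1
  obtain ⟨y, hyQ, hy, hyx, hyt⟩ := S.typ_conj (fun s t => (typ_fix s t).2) hT1 hB
  set c0 := y * d * v with hc0
  have hc0z : c0 * z = z * c0 := ((Commute.mul_left hy hdz).mul_left (H.extra.comm_z hvQ)).eq
  have hc0t : c0 * tb = tb * c0 := by
    refine mul_inv_eq_iff_eq_mul.1 ?_
    rw [show c0 * tb * c0⁻¹ = y * (d * (v * tb * v⁻¹) * d⁻¹) * y⁻¹ by rw [hc0]; group]
    exact hyt
  have hc0x : c0 * x * c0⁻¹ = z * x := by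
    have e := S.act_f0_conj
    rw [← hv0] at e
    calc c0 * x * c0⁻¹ = y * d * (v * x * v⁻¹) * (y * d)⁻¹ := by rw [hc0]; group
      _ = (y * d * z) * x * (y * d)⁻¹ := by rw [e]; group
      _ = z * ((y * d) * x) * (y * d)⁻¹ := by rw [(Commute.mul_left hy hdz).eq]; group
      _ = z * x := by rw [(Commute.mul_left hyx hdx).eq]; group
  -- raise it to an odd power
  obtain ⟨k, m, hm, hord⟩ : ∃ k m, ¬ 2 ∣ m ∧ orderOf c0 = 2 ^ k * m :=
    Nat.exists_eq_pow_mul_and_not_dvd (orderOf_pos c0).ne' 2 (by norm_num)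
  obtain ⟨n, rfl⟩ : Odd m := Nat.odd_iff.2 (by omega)
  set c := c0 ^ (2 * n + 1) with hc
  have hcmem : c ∈ CC := pow_mem (hmemCC.2 ⟨hc0z, hc0t⟩) _
  obtain ⟨hcz, hct⟩ := hmemCC.1 hcmem
  have hc2x : ∀ i : ℕ, (c0 * c0) ^ i * x = x * (c0 * c0) ^ i := fun i => by
    refine (Commute.pow_left ?_ i).eq
    refine mul_inv_eq_iff_eq_mul.1 ?_
    calc c0 * c0 * x * (c0 * c0)⁻¹ = c0 * (c0 * x * c0⁻¹) * c0⁻¹ := by group
      _ = (c0 * z) * x * c0⁻¹ := by rw [hc0x]; group
      _ = z * (c0 * x * c0⁻¹) := by rw [hc0z]; group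
      _ = x := by rw [hc0x, ← mul_assoc, H.extra.sq_one, one_mul]
  have hc' : c = c0 * (c0 * c0) ^ n := by rw [hc, pow_succ', pow_mul, pow_two]
  have hcx : c * x * c⁻¹ = z * x := by
    rw [hc', show c0 * (c0 * c0) ^ n * x * (c0 * (c0 * c0) ^ n)⁻¹ =
      c0 * ((c0 * c0) ^ n * x * ((c0 * c0) ^ n)⁻¹) * c0⁻¹ by group, hc2x, mul_inv_cancel_right, hc0x]
  have hcx0 : K.act c x0 = x0 := S.P_of_commute hB hcz hct
  have hcres : ∀ w, K.res c w = reflW p (reflW U1 w) := by
    have hb : ∀ w, K.res c0 w = reflW p (reflW U1 w) := fun w => by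
      have hyd := (Commute.mul_left hy hdz).eq
      have hy0 := S.act_x0 hy hyx
      have hyd0 : K.act (y * d) x0 = x0 := by rw [K.act_mul H hy hdz, hd0, hy0]
      rw [hc0, K.res_mul H hyd (H.extra.comm_z hvQ) hyd0 (K.act_mem H hvQ x0), K.res_mem H hvQ,
        K.res_mul H hy hdz hy0 hd0, ← hd]
      exact K.res_mem H hyQ _
    have h00 : K.act c0 x0 = x0 := S.P_of_commute hB hc0z hc0t
    have hccz := (Commute.mul_left hc0z hc0z).eq
    have hcc0 : K.act (c0 * c0) x0 = x0 := by rw [K.act_mul H hc0z hc0z, h00, h00]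
    have hsq : ∀ i w, K.res ((c0 * c0) ^ i) w = w := by
      intro i
      induction i with
      | zero => intro w; rw [pow_zero, K.res_one H]
      | succ i ih =>
        intro w
        have hp0 : K.act ((c0 * c0) ^ i) x0 = x0 := S.P_of_commute hB (Commute.pow_left hccz i).eq
          (Commute.pow_left (Commute.mul_left hc0t hc0t) i).eq
        rw [pow_succ, K.res_mul H (Commute.pow_left hccz i).eq hccz hp0 hcc0, ih,
          K.res_mul H hc0z hc0z h00 h00, hb, hb]
        simp [reflW, BW_add_left, BW_smul_left, BW_self, BW_comm U1 p, hpU]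
        rcases zcases (BW w p) with e1 | e1 <;> rcases zcases (BW w U1) with e2 | e2 <;>
          simp [e1, e2, BW_comm U1 p, hpU, BW_add_left, BW_self, add_assoc, addW, add_left_comm]
    intro w
    have hp0 : K.act ((c0 * c0) ^ n) x0 = x0 := S.P_of_commute hB (Commute.pow_left hccz n).eq
      (Commute.pow_left (Commute.mul_left hc0t hc0t) n).eq
    rw [hc', K.res_mul H hc0z (Commute.pow_left hccz n).eq h00 hp0, hsq, hb]
  have hc2 : IsPGroup 2 (zpowers c) := by
    refine IsPGroup.of_card_dvd_pow (n := k) ?_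
    rw [Nat.card_zpowers]
    refine orderOf_dvd_of_pow_eq_one ?_
    rw [hc, ← pow_mul, mul_comm, ← hord, pow_orderOf_eq_one]
  -- a Sylow subgroup of `CC` containing it
  obtain ⟨T, hT⟩ := (hc2.comap_of_injective CC.subtype CC.subtype_injective).exists_le_sylow
  set T' := (T : Subgroup CC).map CC.subtype with hT'
  have hcT : c ∈ T' := ⟨⟨c, hcmem⟩, hT (mem_comap.2 (mem_zpowers c)), rfl⟩
  have hT'2 : IsPGroup 2 T' := T.isPGroup'.map _
  have hT'le : T' ≤ CC := map_subtype_le _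
  -- the normal 2-subgroup
  have hrestr : ∀ m ∈ CC, K.act m x0 = x0 := fun m hm => S.P_of_commute hB (hmemCC.1 hm).1 (hmemCC.1 hm).2
  let N0 : Subgroup CC :=
    { carrier := {m | ∀ w, K.res (m : G) w = w}
      one_mem' := fun w => K.res_one H w
      mul_mem' := fun {a b} ha hb w => by
        rw [Subgroup.coe_mul, K.res_mul H (hmemCC.1 a.2).1 (hmemCC.1 b.2).1 (hrestr _ a.2) (hrestr _ b.2), hb, ha]
      inv_mem' := fun {a} ha w => by
        conv_lhs => rw [← ha w]
        exact K.res_inv_cancel H (hmemCC.1 a.2).1 (hrestr _ a.2) w }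
  have hN0n : N0.Normal := ⟨fun a ha b w => by
    rw [Subgroup.coe_mul, Subgroup.coe_mul, Subgroup.coe_inv]
    have hb := (hmemCC.1 b.2).1
    have hbi := (Commute.inv_left hb).eq
    rw [K.res_mul H (Commute.mul_left hb (hmemCC.1 a.2).1).eq hbi
      (by rw [K.act_mul H hb (hmemCC.1 a.2).1, hrestr _ a.2, hrestr _ b.2]) (hrestr _ (inv_mem b.2)),
      K.res_mul H hb (hmemCC.1 a.2).1 (hrestr _ b.2) (hrestr _ a.2), ha]
    have := K.res_inv_cancel H hbi (hrestr _ (inv_mem b.2)) w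
    rwa [inv_inv] at this⟩
  have hN02 : IsPGroup 2 N0 := by
    intro a
    refine ⟨3, Subtype.ext (Subtype.ext ?_)⟩
    show ((a : CC) : G) ^ (2 ^ 3) = 1
    obtain ⟨r, hr, q, hq, e⟩ := S.decompose (hmemCC.1 (a : CC).2).1 (hrestr _ (a : CC).2) a.2
    have hsq : r * q * (r * q) ∈ Q := by
      have h2 : r * r ∈ Q := by rw [S.sq_R hr]; exact S.el_mem _ _
      have hq' := H.norm r (S.R_z hr) q hq
      rw [show r * q * (r * q) = r * q * r⁻¹ * (r * r) * q by group]
      exact mul_mem (mul_mem hq' h2) hq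
    have h8 : ∀ m : G, m ^ (2 ^ 3) = (m * m * (m * m)) ^ 2 := fun m => by
      simp only [show (2 : ℕ) ^ 3 = 8 from rfl, pow_succ, pow_zero, one_mul, mul_assoc]
    rw [h8, e]
    rcases H.extra.sq_cases hsq with k | k <;> rw [k, pow_two]
    · exact one_mul 1
    · exact H.extra.sq_one
  have hN0T : ∀ {m : G} (hm : m ∈ CC), (∀ w, K.res m w = w) → m ∈ T' := by
    intro m hm hres
    obtain ⟨T1, hT1⟩ := hN02.exists_le_sylow
    obtain ⟨b, hb⟩ := MulAction.exists_smul_eq CC T1 T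
    refine ⟨⟨m, hm⟩, ?_, rfl⟩
    rw [← hb, SetLike.mem_coe, Sylow.coe_subgroup_smul, Subgroup.mem_pointwise_smul_iff_inv_smul_mem]
    refine hT1 ?_
    have := hN0n.conj_mem ⟨m, hm⟩ hres b⁻¹
    simpa using this
  have hlift : ∀ a ∈ Q, (K.vec a).1.2 = 0 → BW (K.vec a).2 U1 = 0 → BW (K.vec a).2 W1 = 0 → a ∈ T' :=
    fun a ha h1 h2 h3 =>
      hN0T (hmemCC.2 ⟨H.extra.comm_z ha, S.typ_comm_lifts hB ha h1 h2 h3⟩) (K.res_mem H ha)
  have hzT : z ∈ T' := hlift z H.extra.z_mem (by rw [K.vec_z H]; rfl) (by rw [K.vec_z H]; exact BW_zero_left _)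
    (by rw [K.vec_z H]; exact BW_zero_left _)
  -- a second element of `CC` with nontrivial translation
  obtain ⟨r2, hr2, hur2⟩ := S.exists_R W1
  obtain ⟨m2, hm2, hm2E⟩ : ∃ m2 ∈ CC, K.act m2 = E W1 := by
    have hmove := S.typ_move hB (S.R_z hr2) (S.R_x hr2) (S.R_fix hr2)
    rw [S.R_res hr2, S.R_res hr2] at hmove
    obtain ⟨s, hs, -, -, hst⟩ := S.typ_conj (fun s t => (typ_fix s t).2) hmove hB
    refine ⟨s * r2, hmemCC.2 ⟨(Commute.mul_left (H.extra.comm_z hs) (S.R_z hr2)).eq, ?_⟩, ?_⟩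
    · refine mul_inv_eq_iff_eq_mul.1 ?_
      rw [show s * r2 * tb * (s * r2)⁻¹ = s * (r2 * tb * r2⁻¹) * s⁻¹ by group]
      exact hst
    · funext w
      rw [K.act_mul H (H.extra.comm_z hs) (S.R_z hr2), K.act_mem H hs, S.act_R hr2, hur2]
  have hm2T : m2 ∈ T' := hN0T hm2 fun w => by
    show (K.act m2 (inj w)).2 = w
    simp [hm2E, tail_E, inj]
  -- the central involutions of `T'` conjugate to `z`
  have huniq : ∀ z' ∈ T', (∀ m ∈ T', z' * m = m * z') → IsConj z z' → z' = z := by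
    intro z' hz' hcen hzz'
    obtain ⟨hz'z, hz't⟩ := hmemCC.1 (hT'le hz')
    have h0 : K.act z' x0 = x0 := hrestr _ (hT'le hz')
    have hF : ∀ w, BW w U1 = 0 → BW w W1 = 0 → K.act z' (inj w) = inj w := by
      intro w h1 h2
      have ha := K.lift_mem (inj w)
      have k := hcen _ (hlift _ ha (by rw [K.vec_lift]; rfl) (by rw [K.vec_lift]; exact h1) (by rw [K.vec_lift]; exact h2))
      conv_lhs => rw [← K.vec_lift (inj w), K.act_vec H hz'z ha, k, mul_inv_cancel_right, K.vec_lift]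
    have hfixT : ∀ (m : G) (u : W), m * z = z * m → K.act m = E u → z' * m = m * z' → K.res z' u = u := by
      intro m u hmz hmE hc
      have h : K.act z' (E u f0) = E u (K.act z' f0) := by
        rw [← hmE, ← K.act_mul H hz'z hmz, hc, K.act_mul H hmz hz'z]
      have hp : (K.act z' f0).1.2 = 1 := by
        rw [← B_x0, ← h0, K.act_B H hz'z]; exact B_f0_x0
      rw [show E u f0 = f0 + (E u f0 + f0) by rw [add_comm (E u f0), ← add_assoc, addV, zero_add],
        K.act_add H hz'z] at h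
      have h2 := congrArg (fun v : V => v.2) h
      simp only [Prod.snd_add, tail_E, hp, one_smul] at h2
      rw [K.res_perp H hz'z h0 (E u f0 + f0) (by rw [move_eq]), move_eq] at h2
      simpa [f0] using h2
    have hU := hfixT tb U1 htz (S.typ_act hB) hz't
    have hW := hfixT m2 W1 (hmemCC.1 hm2).1 hm2E (hcen _ hm2T)
    have hres : ∀ w, K.res z' w = w := pair_faithful (K.res_B H hz'z h0)
      (fun w h1 h2 => by show (K.act z' (inj w)).2 = w; rw [hF w h1 h2]; rfl)
      (fun i => by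
        fin_cases i
        · exact hU
        · exact hW
        · show K.res z' (U1 + W1) = U1 + W1
          rw [K.res_add H hz'z, hU, hW])
    have hE := K.eq_E H hz'z h0 hres
    set a := (K.act z' f0).2 with ha
    have hperp : ∀ w, BW w U1 = 0 → BW w W1 = 0 → BW a w = 0 := fun w h1 h2 => by
      have e := hF w h1 h2
      rw [hE] at e
      simpa [E, inj] using congrArg (fun v : V => v.1.1) e
    have hca : K.res c a = a := by
      have h : K.act c (E a f0) = E a (K.act c f0) := by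
        rw [← hE, ← K.act_mul H hcz hz'z, ← hcen c hcT, K.act_mul H hz'z hcz]
      have hp : (K.act c f0).1.2 = 1 := by
        rw [← B_x0, ← hcx0, K.act_B H hcz]; exact B_f0_x0
      rw [show E a f0 = f0 + (E a f0 + f0) by rw [add_comm (E a f0), ← add_assoc, addV, zero_add],
        K.act_add H hcz] at h
      have h2 := congrArg (fun v : V => v.2) h
      simp only [Prod.snd_add, tail_E, hp, one_smul] at h2
      rw [K.res_perp H hcz hcx0 (E a f0 + f0) (by rw [move_eq]), move_eq] at h2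
      simpa [f0] using h2
    have hz1 : z' ≠ 1 := fun e => H.extra.ne_one (isConj_one_left.1 (e ▸ hzz'))
    have hlc : ∀ b ∈ Q, (K.vec b).1.2 = 0 → BW (K.vec b).2 U1 = 0 → BW (K.vec b).2 W1 = 0 → z' * b = b * z' :=
      fun b hb h1 h2 h3 => hcen b (hlift b hb h1 h2 h3)
    rcases pair_central a hperp p hp1 hpU hpW (by rw [← hcres]; exact hca) with e | e
    · refine (S.central_el hB (K.mem_of_act H hz'z fun v => by rw [hE, e, E_zero]) hz't hlc hcz hcx
        (hcen c hcT)).resolve_left hz1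
    · exfalso
      have hz'tz : z' * tb * z = z * (z' * tb) := (Commute.mul_left hz'z htz).eq
      have hbQ : z' * tb ∈ Q := K.mem_of_act H hz'tz fun v => by
        rw [K.act_mul H hz'z htz, hE, S.typ_act hB, e]
        exact E_U1_twice v
      have hb := S.central_el hB hbQ (Commute.mul_left hz't rfl).eq
        (fun b hb h1 h2 h3 => (Commute.mul_left (hlc b hb h1 h2 h3) (S.typ_comm_lifts hB hb h1 h2 h3).symm).eq)
        hcz hcx (Commute.mul_left (hcen c hcT) hct.symm).eq
      have htb2 : tb * tb = 1 := by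
        rw [S.typ_sq hB, base_pair.1, base_pair.2.1, base_pair.2.2, CharTwo.add_self_eq_zero, S.el_zero]
      have hz'eq : z' = (z' * tb) * tb := by rw [mul_assoc, htb2, mul_one]
      have hTyp : S.Typ U1 W1 z' := by
        rw [hz'eq]
        obtain ⟨i, hi⟩ : ∃ i, z' * tb = S.el i 0 := by
          rcases hb with k | k
          exacts [⟨0, k.trans S.el_zero.symm⟩, ⟨1, k.trans (by simp [el])⟩]
        obtain ⟨r, q, hr, hq, hqx, hrq, hu, hw⟩ := hB
        rw [hi, hrq]
        refine ⟨r, S.el i 0 * q, hr, mul_mem (S.el_mem _ _) hq, (Commute.mul_left (S.el_x i 0) hqx).eq,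
          by rw [← mul_assoc, ← S.R_el hr, mul_assoc], hu, ?_⟩
        rw [K.mul (S.el_mem _ _) hq, S.vec_el, Prod.snd_add, hw, zero_add]
      exact S.typB_not_conj hTyp hzz'
  -- `T'` is a Sylow subgroup of `C(tb)`
  set CT := centralizer ({tb} : Set G) with hCT
  have hT'CT : T' ≤ CT := hT'le.trans inf_le_right
  obtain ⟨S1, hS1⟩ := (hT'2.comap_of_injective CT.subtype CT.subtype_injective).exists_le_sylow
  set S' := (S1 : Subgroup CT).map CT.subtype with hS'
  have hTS : T' ≤ S' := fun m hm => ⟨⟨m, hT'CT hm⟩, hS1 hm, rfl⟩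
  have hS'2 : IsPGroup 2 S' := S1.isPGroup'.map _
  have hST : S' ≤ T' := by
    by_contra hne
    have hnil : Group.IsNilpotent S' := hS'2.isNilpotent
    have hlt : T'.subgroupOf S' < ⊤ := lt_top_iff_ne_top.2 fun h => hne (Subgroup.subgroupOf_eq_top.1 h)
    obtain ⟨n, hnN, hnT⟩ :=
      SetLike.exists_of_lt (Group.normalizerCondition_of_isNilpotent (T'.subgroupOf _) hlt)
    have hconj : ∀ a ∈ T', (n : G)⁻¹ * a * n ∈ T' ∧ (n : G) * a * (n : G)⁻¹ ∈ T' := fun a ha => by
      have h1 := (mem_normalizer_iff.1 hnN ⟨a, hTS ha⟩).1 ha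
      have h2 := (mem_normalizer_iff.1 (inv_mem hnN) ⟨a, hTS ha⟩).1 ha
      refine ⟨?_, h1⟩
      simpa [Subgroup.mem_subgroupOf] using h2
    have hz' := huniq _ (hconj z hzT).2 (fun a ha => by
      have hc := (hmemCC.1 (hT'le (hconj a ha).1)).1
      calc (n : G) * z * (n : G)⁻¹ * a = (n : G) * (z * ((n : G)⁻¹ * a * n)) * (n : G)⁻¹ := by group
        _ = (n : G) * ((n : G)⁻¹ * a * n * z) * (n : G)⁻¹ := by rw [hc]
        _ = a * ((n : G) * z * (n : G)⁻¹) := by group) (isConj_iff.2 ⟨n, rfl⟩)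
    have hnCC : (n : G) ∈ CC := hmemCC.2 ⟨mul_inv_eq_iff_eq_mul.1 hz', by
      obtain ⟨m, -, hm⟩ := n.2
      rw [← hm]
      exact mem_centralizer_singleton_iff.1 m.2⟩
    have hmax := T.3 (Q := S'.subgroupOf CC) (hS'2.comap_of_injective CC.subtype CC.subtype_injective)
      (fun a ha => hTS ⟨a, ha, rfl⟩)
    exact hnT ⟨⟨n, hnCC⟩, hmax ▸ (n.2 : (n : G) ∈ S'), rfl⟩
  -- compare with the other kind
  set A := (((K.P H).map (Cz z).subtype) ⊓ centralizer ({ta} : Set G)).map (MulAut.conj h).toMonoidHom with hA'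
  have hAcard : Nat.card A = 262144 := by
    rw [hA', Subgroup.card_map_of_injective (MulAut.conj h).injective, S.card_stabA hA]
  have hA2 : IsPGroup 2 A := IsPGroup.of_card (n := 18) (by rw [hAcard]; norm_num)
  have hACT : A ≤ CT := by
    rintro _ ⟨m, ⟨-, hm⟩, rfl⟩
    have hm' := mem_centralizer_singleton_iff.1 hm
    refine mem_centralizer_singleton_iff.2 ?_
    show h * m * h⁻¹ * tb = tb * (h * m * h⁻¹)
    rw [← hh]
    calc h * m * h⁻¹ * (h * ta * h⁻¹) = h * (m * ta) * h⁻¹ := by group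
      _ = h * (ta * m) * h⁻¹ := by rw [hm']
      _ = h * ta * h⁻¹ * (h * m * h⁻¹) := by group
  obtain ⟨S2, hS2⟩ := (hA2.comap_of_injective CT.subtype CT.subtype_injective).exists_le_sylow
  have d1 : Nat.card A ≤ Nat.card (S2 : Subgroup CT) :=
    Nat.card_le_card_of_injective (fun m => ⟨⟨m.1, hACT m.2⟩, hS2 m.2⟩) fun a b k =>
      Subtype.ext (congrArg (fun w : (S2 : Subgroup CT) => ((w : CT) : G)) k)
  have d2 : Nat.card (S2 : Subgroup CT) = Nat.card (S1 : Subgroup CT) := by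
    rw [Sylow.card_eq_multiplicity, Sylow.card_eq_multiplicity]
  have d3 : Nat.card (S1 : Subgroup CT) ∣ 491520 := by
    rw [← hCC2, ← Subgroup.card_map_of_injective CT.subtype_injective]
    exact Subgroup.card_dvd_of_le (hST.trans hT'le)
  obtain ⟨i, hi⟩ := S1.isPGroup'.exists_card_eq
  rw [hi] at d3 d2
  rw [d2, hAcard] at d1
  have h18 : 18 ≤ i := (Nat.pow_le_pow_iff_right (by norm_num : 1 < 2)).1 (by norm_num; exact d1)
  have := (Nat.pow_dvd_pow 2 h18).trans d3
  norm_num at this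

end Base

end CfsgLib.CoOneType
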