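import Mathlib
import Cfsg.Agent.Lib.CoOneType.Split
import Cfsg.Agent.Lib.CoOneType.Upper

/-!
Exactly three classes of involutions.
-/

set_option autoImplicit false
set_option linter.style.longLine false
set_option maxHeartbeats 1000000

namespace CfsgLib.CoOneType

open Subgroup

theorem sq_zero : (BW A1 A2 + qW 0 A2 = 0 ∧ BW A1 A2 + qW 0 A1 = 0) ∧
    BW U1 W1 + qW 0 W1 = 0 ∧ BW U1 W1 + qW 0 U1 = 0 := by decide +kernel

theorem E_ne : E A1 f0 ≠ f0 ∧ E U1 f0 ≠ f0 := by decide +kernel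

variable {G : Type*} [Group G] [Finite G] {z : G} {Q : Subgroup G}

/-- A group of this type has exactly three classes of involutions. -/
theorem Hyp.three_classes (H : Hyp z Q) : ∃ a b c : G, orderOf a = 2 ∧ orderOf b = 2 ∧ orderOf c = 2 ∧
    ¬ IsConj a b ∧ ¬ IsConj a c ∧ ¬ IsConj b c ∧
      ∀ t : G, orderOf t = 2 → IsConj t a ∨ IsConj t b ∨ IsConj t c := by
  have : Fact (Nat.Prime 2) := ⟨Nat.prime_two⟩
  obtain ⟨K⟩ := H.exists_plus
  obtain ⟨x, g, S⟩ := K.exists_base H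
  obtain ⟨ta, hA⟩ := S.exists_typ A1 A2
  obtain ⟨tb, hB⟩ := S.exists_typ U1 W1
  have ord : ∀ {u w : W} {t : G}, S.Typ u w t → E u f0 ≠ f0 → BW u w + qW 0 w = 0 →
      BW u w + qW 0 u = 0 → orderOf t = 2 := fun {u w t} ht hne k1 k2 => by
    refine orderOf_eq_prime (by rw [pow_two, S.typ_sq ht, k1, k2, S.el_zero]) fun k => hne ?_
    have := congrFun (S.typ_act ht) f0
    rw [k, K.act_one H] at this
    exact this.symm
  refine ⟨z, ta, tb, H.hz, ord hA E_ne.1 sq_zero.1.1 sq_zero.1.2,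
    ord hB E_ne.2 sq_zero.2.1 sq_zero.2.2,
    S.typA_not_conj hA, S.typB_not_conj hB, S.typ_not_conj_typ hA hB, fun t ht => ?_⟩
  have ht2 : t * t = 1 := by rw [← pow_two, ← ht]; exact pow_orderOf_eq_one t
  obtain ⟨y, hy⟩ := H.exists_conj_mem ht2
  have hct : IsConj t (y * t * y⁻¹) := isConj_iff.2 ⟨y, rfl⟩
  have hy1 : y * t * y⁻¹ ≠ 1 := fun k => by
    rw [conj_eq_one_iff] at k
    simp [k] at ht
  exact (S.cls hA hB hy (conj_sq_one ht2) hy1).imp hct.trans (Or.imp hct.trans hct.trans)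

end CfsgLib.CoOneType
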