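import Mathlib
import Cfsg.Agent.Lib.CoOneType.Plus

/-!
The quadratic space of dimension eight split by an element of order five: two systems of five singular
vectors with pairwise product one.
-/

set_option autoImplicit false
set_option linter.style.longLine false
set_option linter.unusedSectionVars false
set_option maxHeartbeats 1000000
set_option synthInstance.maxSize 8000
set_option synthInstance.maxHeartbeats 1000000

namespace CfsgLib.CoOneType

open Subgroup

/-! ### The model -/

abbrev X5 := Fin 5 → ZMod 2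

/-- The value of the form on a combination of a system. -/
def q5 (x : X5) : ZMod 2 :=
  x 0 * x 1 + x 0 * x 2 + x 0 * x 3 + x 0 * x 4 + x 1 * x 2 + x 1 * x 3 + x 1 * x 4 + x 2 * x 3 +
    x 2 * x 4 + x 3 * x 4

/-- The value of the product with the `j`-th member. -/
def b5 (x : X5) (j : Fin 5) : ZMod 2 := x 0 + x 1 + x 2 + x 3 + x 4 + x j

theorem q5_zero : ∀ x : X5, q5 x = 0 → x = 0 ∨ x = 1 ∨ ∃ i, x = Pi.single i 1 ∨ x = Pi.single i 1 + 1 := by
  decide +kernel

theorem b5_const : ∀ x : X5, (∀ j, b5 x j = 0) → x = 0 ∨ x = 1 := by decide +kernel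

theorem b5_norm : ∀ x : X5, x 4 = 0 → (∀ j, b5 x j = 0) → x = 0 := by decide +kernel

theorem shift_const : ∀ x : X5, (fun i => x (i + -1)) + x = 0 ∨ (fun i => x (i + -1)) + x = 1 → x = 0 ∨ x = 1 := by
  decide +kernel

theorem shift_onto : ∀ x : X5, ∃ w : X5, (fun i => w (i + -1)) + w = x ∨ (fun i => w (i + -1)) + w = x + 1 := by
  decide +kernel

theorem x5_count : (Finset.univ.filter fun x : X5 => x 4 = 0).card = 16 ∧
    (Finset.univ.filter fun x : X5 => x 4 = 0 ∧ q5 x = 0).card = 6 := by decide +kernel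

theorem five_mul : ∀ k m : Fin 5, k ≠ 0 → ∃ j : Fin 5, m = j * k := by decide +kernel

theorem five_ne : ∀ k : Fin 5, k ≠ 0 → k + k ≠ 0 ∧ k + k + k ≠ 0 ∧ k + k + k + k ≠ 0 ∧
    k + k + k + k + k = 0 := by decide +kernel

theorem five_cases : ∀ j k : Fin 5, j * k = 0 ∨ j * k = k ∨ j * k = k + k ∨ j * k = k + k + k ∨
    j * k = k + k + k + k := by decide +kernel

theorem qV_smul (a : ZMod 2) (v : V) : qV 0 (a • v) = a * qV 0 v := by
  rcases zcases a with rfl | rfl <;> simp [qV_zero]

theorem B_smul_left (a : ZMod 2) (v w : V) : B (a • v) w = a * B v w := by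
  rcases zcases a with rfl | rfl <;> simp [B_zero_left]

theorem B_smul_right (a : ZMod 2) (v w : V) : B v (a • w) = a * B v w := by
  rcases zcases a with rfl | rfl <;> simp [B_zero_right]

theorem B_sum {ι : Type} (A : Finset ι) (f : ι → V) (w : V) :
    B (∑ i ∈ A, f i) w = ∑ i ∈ A, B (f i) w :=
  map_sum (AddMonoidHom.mk' (fun v => B v w) fun a b => B_add_left a b w) f A

theorem card_V : Fintype.card V = 256 := by simp [ZMod.card]

/-- A combination of five vectors. -/
def io (s : Fin 5 → V) (x : X5) : V := ∑ i, x i • s i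

theorem io_add (s : Fin 5 → V) (x y : X5) : io s (x + y) = io s x + io s y := by
  simp [io, add_smul, Finset.sum_add_distrib]

theorem io_single (s : Fin 5 → V) (i : Fin 5) : io s (Pi.single i 1) = s i := by
  rw [io, Finset.sum_eq_single i (fun j _ hj => by rw [Pi.single_eq_of_ne hj, zero_smul])
    (fun h => absurd (Finset.mem_univ i) h), Pi.single_eq_same, one_smul]

theorem io_zero (s : Fin 5 → V) : io s 0 = 0 := by simp [io]

theorem io_map {f : V → V} (hf : ∀ a b, f (a + b) = f a + f b) (s : Fin 5 → V) (x : X5) :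
    f (io s x) = io (fun i => f (s i)) x := by
  let F : V →+ V := AddMonoidHom.mk' f hf
  show F (io s x) = _
  rw [io, map_sum]
  refine Finset.sum_congr rfl fun i _ => ?_
  show F (x i • s i) = x i • F (s i)
  rcases zcases (x i) with h | h <;> simp [h]

theorem io_perm (s : Fin 5 → V) (x : X5) (σ : Equiv.Perm (Fin 5)) :
    io (fun i => s (σ i)) x = io s (fun i => x (σ.symm i)) :=
  Finset.sum_equiv σ (by simp) fun i _ => by simp

/-- Five singular vectors with pairwise product one and sum zero. -/
structure Sys (s : Fin 5 → V) : Prop where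
  q : ∀ i, qV 0 (s i) = 0
  pair : ∀ i j, i ≠ j → B (s i) (s j) = 1
  sum : io s 1 = 0

namespace Sys

variable {s : Fin 5 → V} (S : Sys s)
include S

theorem io_B (x : X5) (j : Fin 5) : B (io s x) (s j) = b5 x j := by
  rw [io, B_sum, Fin.sum_univ_five]
  simp only [B_smul_left]
  fin_cases j <;> simp [b5, B_self, S.pair] <;> grind

theorem io_q (x : X5) : qV 0 (io s x) = q5 x := by
  rw [io, Fin.sum_univ_five]
  simp only [qV_add, qV_smul, B_add_left, B_smul_left, B_smul_right, S.q]
  simp [q5, S.pair]
  ring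

theorem add_one (x : X5) : io s (x + 1) = io s x := by rw [io_add, S.sum, add_zero]

theorem io_congr {x y : X5} (h : x + y = 0 ∨ x + y = 1) : io s x = io s y := by
  refine eqV ?_
  rcases h with h | h <;> rw [← io_add, h]
  exacts [io_zero s, S.sum]

theorem exists_norm (x : X5) : ∃ y : X5, y 4 = 0 ∧ io s y = io s x := by
  rcases zcases (x 4) with h | h
  · exact ⟨x, h, rfl⟩
  · exact ⟨x + 1, by simp [h]; rfl, S.add_one x⟩

theorem singular {x : X5} (h : qV 0 (io s x) = 0) : io s x = 0 ∨ ∃ i, io s x = s i := by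
  rw [S.io_q] at h
  rcases q5_zero x h with rfl | rfl | ⟨i, rfl | rfl⟩
  · exact Or.inl (io_zero s)
  · exact Or.inl S.sum
  · exact Or.inr ⟨i, io_single s i⟩
  · exact Or.inr ⟨i, by rw [S.add_one, io_single]⟩

theorem ne_zero (i : Fin 5) : s i ≠ 0 := fun h => by
  have hne : ∀ j : Fin 5, j ≠ j + 1 := by decide
  have := S.pair i (i + 1) (hne i)
  rw [h, B_zero_left] at this
  exact zero_ne_one this

theorem inj : Function.Injective s := fun i j h => by
  by_contra hne
  have := S.pair i j hne
  rw [h, B_self] at this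
  exact zero_ne_one this

theorem io_inj {x y : X5} (hx : x 4 = 0) (hy : y 4 = 0) (h : io s x = io s y) : x = y := by
  have h0 : x + y = 0 := b5_norm _ (by simp [hx, hy]) fun j => by
    rw [← S.io_B, io_add, h, addV, B_zero_left]
  funext i
  exact eq_of_add _ _ (congrFun h0 i)

end Sys

/-- Two orthogonal systems span the space. -/
theorem Sys.spanning {s t : Fin 5 → V} (S : Sys s) (T : Sys t) (hst : ∀ i j, B (s i) (t j) = 0) (v : V) :
    ∃ x y : X5, v = io s x + io t y := by
  classical
  let X := {x : X5 // x 4 = 0}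
  let F : X × X → V := fun p => io s p.1 + io t p.2
  have hts : ∀ x j, B (io t x) (s j) = 0 := fun x j => by
    rw [io, B_sum]
    exact Finset.sum_eq_zero fun i _ => by rw [B_smul_left, B_comm, hst, mul_zero]
  have hst' : ∀ x j, B (io s x) (t j) = 0 := fun x j => by
    rw [io, B_sum]
    exact Finset.sum_eq_zero fun i _ => by rw [B_smul_left, hst, mul_zero]
  have hF : Function.Injective F := by
    rintro ⟨⟨x, hx⟩, ⟨y, hy⟩⟩ ⟨⟨x', hx'⟩, ⟨y', hy'⟩⟩ h
    have h0 : io s (x + x') + io t (y + y') = 0 := by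
      have h' : io s x + io t y = io s x' + io t y' := h
      rw [io_add, io_add, show io s x + io s x' + (io t y + io t y') = io s x + io t y + (io s x' + io t y') by abel,
        h', addV]
    have hz : x + x' = 0 := b5_norm _ (by simp [hx, hx']) fun j => by
      have := congrArg (fun v => B v (s j)) h0
      simp only [B_add_left (io s _), hts, add_zero, B_zero_left] at this
      rw [← S.io_B]; exact this
    have hw : y + y' = 0 := b5_norm _ (by simp [hy, hy']) fun j => by
      have := congrArg (fun v => B v (t j)) h0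
      simp only [B_add_left (io s _), hst', zero_add, B_zero_left] at this
      rw [← T.io_B]; exact this
    refine Prod.ext (Subtype.ext (funext fun i => ?_)) (Subtype.ext (funext fun i => ?_))
    exacts [eq_of_add _ _ (congrFun hz i), eq_of_add _ _ (congrFun hw i)]
  have hcard : Fintype.card (X × X) = Fintype.card V := by
    rw [Fintype.card_prod, Fintype.card_subtype, x5_count.1, card_V]
  obtain ⟨⟨x, y⟩, h⟩ := ((Fintype.bijective_iff_injective_and_card F).2 ⟨hF, hcard⟩).2 v
  exact ⟨x, y, h.symm⟩

variable {G : Type*} [Group G] [Finite G] {z : G} {Q : Subgroup G}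

/-- An element of order five with its fixed system and its moved system. -/
structure Five (K : Coord z Q 0) (b : G) (s t : Fin 5 → V) : Prop where
  hyp : Hyp z Q
  ord : orderOf b = 5
  bz : b * z = z * b
  sys : Sys s
  tys : Sys t
  cross : ∀ i j, B (s i) (t j) = 0
  fix : ∀ i, K.act b (s i) = s i
  shift : ∀ i, K.act b (t i) = t (i + 1)

namespace Five

variable {K : Coord z Q 0} {b : G} {s t : Fin 5 → V} (F : Five K b s t)
include F

theorem spanning (v : V) : ∃ x y : X5, v = io s x + io t y := F.sys.spanning F.tys F.cross v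

theorem s_t (x : X5) (j : Fin 5) : B (io s x) (t j) = 0 := by
  rw [io, B_sum]
  exact Finset.sum_eq_zero fun i _ => by rw [B_smul_left, F.cross, mul_zero]

theorem t_s (y : X5) (j : Fin 5) : B (io t y) (s j) = 0 := by
  rw [io, B_sum]
  exact Finset.sum_eq_zero fun i _ => by rw [B_smul_left, B_comm, F.cross, mul_zero]

theorem ext {f g : V → V} (hf : ∀ a b, f (a + b) = f a + f b) (hg : ∀ a b, g (a + b) = g a + g b)
    (hs : ∀ i, f (s i) = g (s i)) (ht : ∀ i, f (t i) = g (t i)) (v : V) : f v = g v := by
  obtain ⟨x, y, rfl⟩ := F.spanning v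
  rw [hf, hg, io_map hf, io_map hf, io_map hg, io_map hg]
  simp only [hs, ht]

theorem perp_t {v : V} (h : ∀ j, B v (t j) = 0) : ∃ x, v = io s x := by
  obtain ⟨x, y, rfl⟩ := F.spanning v
  refine ⟨x, ?_⟩
  rcases b5_const y fun j => by
      rw [← F.tys.io_B, ← h j, B_add_left, F.s_t, zero_add] with rfl | rfl
  · rw [io_zero, add_zero]
  · rw [F.tys.sum, add_zero]

theorem perp_s {v : V} (h : ∀ j, B v (s j) = 0) : ∃ y, v = io t y := by
  obtain ⟨x, y, rfl⟩ := F.spanning v
  refine ⟨y, ?_⟩
  rcases b5_const x fun j => by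
      rw [← F.sys.io_B, ← h j, B_add_left, F.t_s, add_zero] with rfl | rfl
  · rw [io_zero, zero_add]
  · rw [F.sys.sum, zero_add]

theorem act_io_t (y : X5) : K.act b (io t y) = io t (fun i => y (i + -1)) := by
  rw [io_map (K.act_add F.hyp F.bz), show (fun i => K.act b (t i)) = fun i => t ((Equiv.addRight 1) i) from
    funext F.shift, io_perm]
  rfl

theorem act_io_s (x : X5) : K.act b (io s x) = io s x := by
  rw [io_map (K.act_add F.hyp F.bz)]
  simp only [F.fix]

theorem fixed {v : V} (h : K.act b v = v) : ∃ x, v = io s x := by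
  obtain ⟨x, y, rfl⟩ := F.spanning v
  refine ⟨x, ?_⟩
  rw [K.act_add F.hyp F.bz, F.act_io_s, add_left_cancel_iff, F.act_io_t] at h
  have h0 : io t ((fun i => y (i + -1)) + y) = 0 := by rw [io_add, h, addV]
  rcases shift_const y (b5_const _ fun j => by rw [← F.tys.io_B, h0, B_zero_left]) with rfl | rfl
  · rw [io_zero, add_zero]
  · rw [F.tys.sum, add_zero]

theorem fixed_iff (v : V) : K.act b v = v ↔ ∃ x, v = io s x := by
  refine ⟨F.fixed, ?_⟩
  rintro ⟨x, rfl⟩
  exact F.act_io_s x

/-- Every moved vector is a commutator with `b`. -/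
theorem moved_onto (y : X5) : ∃ w : X5, K.act b (io t w) + io t w = io t y := by
  obtain ⟨w, h⟩ := shift_onto y
  refine ⟨w, ?_⟩
  rw [F.act_io_t, ← io_add]
  rcases h with h | h <;> rw [h]
  exact F.tys.add_one y

end Five

/-! ### Construction -/

theorem exists_sys (F : V → Prop) (h0 : ∀ v w, F v → F w → F (v + w))
    (hcard : Nat.card {v // F v} = 16) (hrad : ∀ v, F v → (∀ w, F w → B v w = 0) → v = 0)
    (hline : ∀ v w, F v → F w → v ≠ 0 → w ≠ 0 → v ≠ w → qV 0 v = 0 → qV 0 w = 0 → B v w ≠ 0) :
    ∃ s, Sys s ∧ ∀ v, F v ↔ ∃ x, v = io s x := by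
  classical
  rw [Nat.card_eq_fintype_card, Fintype.card_subtype] at hcard
  have hpos : ∃ v, F v ∧ v ≠ 0 := by
    by_contra h
    push Not at h
    have := Finset.card_le_card (s := Finset.univ.filter F) (t := {0}) fun v hv =>
      Finset.mem_singleton.2 (h v (Finset.mem_filter.1 hv).2)
    simp [hcard] at this
  have hq0 : F 0 := by
    obtain ⟨v, hv, -⟩ := hpos
    exact addV v ▸ h0 v v hv hv
  -- a singular vector
  obtain ⟨s0, hs0F, hs0, hs0q⟩ : ∃ v, F v ∧ v ≠ 0 ∧ qV 0 v = 0 := by
    by_contra h
    push Not at h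
    have h1 : ∀ {v}, F v → v ≠ 0 → qV 0 v = 1 := fun hv hv0 => eq_one (h _ hv hv0)
    have hB : ∀ {v w}, F v → F w → v ≠ 0 → w ≠ 0 → v ≠ w → B v w = 1 := fun {v w} hv hw v0 w0 hvw => by
      have := h1 (h0 v w hv hw) fun e => hvw (eqV e)
      rw [qV_add, h1 hv v0, h1 hw w0] at this
      exact (zero_add (B v w)).symm.trans this
    obtain ⟨v, hv, hv0⟩ := hpos
    obtain ⟨w, hw, hwv⟩ : ∃ w, F w ∧ ¬ (w = 0 ∨ w = v) := by
      by_contra h
      push Not at h
      have := Finset.card_le_card (s := Finset.univ.filter F) (t := {0, v}) fun w hw => by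
        simpa [or_iff_not_imp_left] using h w (Finset.mem_filter.1 hw).2
      rw [hcard] at this
      exact absurd (this.trans Finset.card_le_two) (by norm_num)
    push Not at hwv
    obtain ⟨u, hu, hu'⟩ : ∃ u, F u ∧ ¬ (u = 0 ∨ u = v ∨ u = w ∨ u = v + w) := by
      by_contra h
      push Not at h
      have := Finset.card_le_card (s := Finset.univ.filter F) (t := {0, v, w, v + w}) fun u hu => by
        simpa [or_iff_not_imp_left] using h u (Finset.mem_filter.1 hu).2
      rw [hcard] at this
      exact absurd (this.trans Finset.card_le_four) (by norm_num)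
    push Not at hu'
    have := hB hu (h0 v w hv hw) hu'.1 (fun e => hwv.2 (eqV e).symm) hu'.2.2.2
    rw [B_add_right, hB hu hv hu'.1 hv0 hu'.2.1, hB hu hw hu'.1 hwv.1 hu'.2.2.1] at this
    exact absurd this (by decide)
  -- its partner
  obtain ⟨s1, hs1F, hs1q, h01⟩ : ∃ w, F w ∧ qV 0 w = 0 ∧ B s0 w = 1 := by
    obtain ⟨p, hp, hpB⟩ : ∃ p, F p ∧ B s0 p ≠ 0 := by
      by_contra h
      push Not at h
      exact hs0 (hrad s0 hs0F h)
    have hpB1 := eq_one hpB
    rcases zcases (qV 0 p) with h | h
    · exact ⟨p, hp, h, hpB1⟩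
    · refine ⟨p + s0, h0 _ _ hp hs0F, ?_, ?_⟩
      · rw [qV_add, h, hs0q, B_comm p, hpB1]; decide
      · rw [B_add_right, hpB1, B_self, add_zero]
  -- the anisotropic plane
  let P := fun v => F v ∧ B v s0 = 0 ∧ B v s1 = 0
  have hPq : ∀ {v}, P v → v ≠ 0 → qV 0 v = 1 := by
    rintro v ⟨hv, hv0, hv1⟩ hne
    refine eq_one fun hq => hline v s0 hv hs0F hne hs0 (fun e => ?_) hq hs0q hv0
    rw [e, h01] at hv1
    exact one_ne_zero hv1
  let pr : V → V := fun v => v + B v s1 • s0 + B v s0 • s1
  have hprF : ∀ {v}, F v → P (pr v) := by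
    intro v hv
    have hsm : ∀ (a : ZMod 2) {u}, F u → F (a • u) := fun a {u} hu => by
      rcases zcases a with rfl | rfl
      · simpa using hq0
      · simpa using hu
    refine ⟨h0 _ _ (h0 _ _ hv (hsm _ hs0F)) (hsm _ hs1F), ?_, ?_⟩
    · simp only [pr, B_add_left, B_smul_left, B_self, B_comm s1 s0, h01]
      rcases zcases (B v s0) with e | e <;> rw [e] <;> simp [CharTwo.add_self_eq_zero]
    · simp only [pr, B_add_left, B_smul_left, B_self, h01]
      rcases zcases (B v s1) with e | e <;> rw [e] <;> simp [CharTwo.add_self_eq_zero]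
  have hP4 : 4 ≤ (Finset.univ.filter P).card := by
    have h := Finset.card_le_card_of_injOn (fun v => (pr v, B v s0, B v s1))
      (s := Finset.univ.filter F) (t := (Finset.univ.filter P) ×ˢ (Finset.univ : Finset (ZMod 2 × ZMod 2)))
      (fun v hv => by
        simp only [Finset.coe_filter, Set.mem_setOf_eq] at hv
        simpa using hprF hv.2)
      (fun v _ w _ e => by
        simp only [Prod.mk.injEq, pr] at e
        obtain ⟨e1, e2, e3⟩ := e
        rw [e2, e3] at e1
        simpa [add_assoc] using e1)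
    rw [hcard, Finset.card_product, Finset.card_univ, Fintype.card_prod, ZMod.card] at h
    omega
  obtain ⟨p, hp, hp0⟩ : ∃ p, P p ∧ p ≠ 0 := by
    by_contra h
    push Not at h
    have := Finset.card_le_card (s := Finset.univ.filter P) (t := {0}) fun v hv =>
      Finset.mem_singleton.2 (h v (Finset.mem_filter.1 hv).2)
    simp at this
    omega
  obtain ⟨p', hp', hp'0, hp'p⟩ : ∃ p', P p' ∧ p' ≠ 0 ∧ p' ≠ p := by
    by_contra h
    push Not at h
    have := (Finset.card_le_card (s := Finset.univ.filter P) (t := {0, p}) fun v hv => by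
      simpa [or_iff_not_imp_left] using h v (Finset.mem_filter.1 hv).2).trans Finset.card_le_two
    omega
  have hPadd : P (p + p') := ⟨h0 _ _ hp.1 hp'.1, by rw [B_add_left, hp.2.1, hp'.2.1, add_zero],
    by rw [B_add_left, hp.2.2, hp'.2.2, add_zero]⟩
  have hpp : B p p' = 1 := by
    have h := hPq hPadd fun e => hp'p (eqV e).symm
    rw [qV_add, hPq hp hp0, hPq hp' hp'0] at h
    exact (zero_add (B p p')).symm.trans h
  let s : Fin 5 → V := ![s0, s1, s0 + s1 + p, s0 + s1 + p', s0 + s1 + (p + p')]
  have hsF : ∀ i, F (s i) := by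
    intro i
    fin_cases i
    exacts [hs0F, hs1F, h0 _ _ (h0 _ _ hs0F hs1F) hp.1, h0 _ _ (h0 _ _ hs0F hs1F) hp'.1,
      h0 _ _ (h0 _ _ hs0F hs1F) hPadd.1]
  have f1 := hp.2.1
  have f2 := hp.2.2
  have f3 := hp'.2.1
  have f4 := hp'.2.2
  have g1 : B s0 p = 0 := B_comm s0 p ▸ f1
  have g2 : B s1 p = 0 := B_comm s1 p ▸ f2
  have g3 : B s0 p' = 0 := B_comm s0 p' ▸ f3
  have g4 : B s1 p' = 0 := B_comm s1 p' ▸ f4
  have g5 : B p' p = 1 := B_comm p' p ▸ hpp
  have h10 : B s1 s0 = 1 := B_comm s1 s0 ▸ h01
  have S : Sys s := by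
    refine ⟨fun i => ?_, fun i j hij => ?_, ?_⟩
    · fin_cases i <;> simp [s, qV_add, B_add_left, B_add_right, hs0q, hs1q, h01, f1, f2, f3, f4, g1, g2, g3, g4,
        hPq hp hp0, hPq hp' hp'0, hpp] <;> decide
    · fin_cases i <;> fin_cases j <;> simp [s, B_add_left, B_add_right, h01, h10, f1, f2, f3, f4, g1, g2, g3, g4,
        hpp, g5, B_self] at hij ⊢ <;> decide
    · simp [io, Fin.sum_univ_five, s]
      have key : ∀ a c d e : V, a + c + (a + c + d) + (a + c + e) + (a + c + (d + e)) = 0 := fun a c d e => by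
        rw [show a + c + (a + c + d) + (a + c + e) + (a + c + (d + e)) =
          (a + a) + (a + a) + ((c + c) + (c + c)) + ((d + d) + (e + e)) by abel]
        simp [addV]
      exact key _ _ _ _
  refine ⟨s, S, ?_⟩
  have hio : ∀ x, F (io s x) := by
    intro x
    refine Finset.sum_induction _ F h0 hq0 fun i _ => ?_
    rcases zcases (x i) with h | h <;> rw [h]
    · simpa using hq0
    · simpa using hsF i
  have himg : (Finset.univ.filter fun x : X5 => x 4 = 0).image (io s) = Finset.univ.filter F := by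
    refine Finset.eq_of_subset_of_card_le (fun v hv => ?_) ?_
    · obtain ⟨x, -, rfl⟩ := Finset.mem_image.1 hv
      exact Finset.mem_filter.2 ⟨Finset.mem_univ _, hio x⟩
    · rw [hcard, Finset.card_image_of_injOn fun x hx y hy e => S.io_inj (Finset.mem_filter.1 hx).2
        (Finset.mem_filter.1 hy).2 e, x5_count.1]
  intro v
  refine ⟨fun hv => ?_, fun ⟨x, e⟩ => e ▸ hio x⟩
  have : v ∈ Finset.univ.filter F := Finset.mem_filter.2 ⟨Finset.mem_univ _, hv⟩
  rw [← himg] at this
  obtain ⟨x, -, e⟩ := Finset.mem_image.1 this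
  exact ⟨x, e.symm⟩

/-- Counting zeros of a sum of two functions. -/
theorem count_split {A W' U : Type} [Finite A] [Finite W'] [Finite U] (E : A × W' ≃ U) (qa : A → ZMod 2)
    (qw : W' → ZMod 2) (q : U → ZMod 2) (hq : ∀ a, q (E a) = qa a.1 + qw a.2) (hA : Nat.card A = 16)
    (hA0 : Nat.card {a // qa a = 0} = 6) (hU : Nat.card U = 256) (hU0 : Nat.card {u // q u = 0} = 136) :
    Nat.card W' = 16 ∧ Nat.card {w // qw w = 0} = 6 := by
  classical
  have h16 : Nat.card W' = 16 := by
    have h := Nat.card_congr E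
    rw [Nat.card_prod, hA, hU] at h
    omega
  have E1 : {u // q u = 0} ≃ {a : A × W' // (qa a.1 = 0 ∧ qw a.2 = 0) ∨ (¬ qa a.1 = 0 ∧ ¬ qw a.2 = 0)} :=
    E.symm.subtypeEquiv fun u => by
      have h := hq (E.symm u)
      rw [E.apply_symm_apply] at h
      rw [h]
      rcases zcases (qa (E.symm u).1) with a | a <;> rcases zcases (qw (E.symm u).2) with c | c <;>
        rw [a, c] <;> decide
  have hd : Disjoint (fun a : A × W' => qa a.1 = 0 ∧ qw a.2 = 0)
      (fun a : A × W' => ¬ qa a.1 = 0 ∧ ¬ qw a.2 = 0) := by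
    rw [Pi.disjoint_iff]
    intro a
    simp only [Prop.disjoint_iff]
    exact fun h => h.2.1 h.1.1
  have h := Nat.card_congr (E1.trans ((subtypeOrEquiv _ _ hd).trans
    (Equiv.sumCongr (Equiv.subtypeProdEquivProd (p := fun a => qa a = 0) (q := fun w => qw w = 0))
      (Equiv.subtypeProdEquivProd (p := fun a => ¬ qa a = 0) (q := fun w => ¬ qw w = 0)))))
  rw [Nat.card_sum, Nat.card_prod, Nat.card_prod, hU0, hA0] at h
  have h1 := Nat.card_congr (Equiv.sumCompl (fun a : A => qa a = 0))
  have h2 := Nat.card_congr (Equiv.sumCompl (fun w : W' => qw w = 0))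
  rw [Nat.card_sum, hA0, hA] at h1
  rw [Nat.card_sum, h16] at h2
  rw [show Nat.card {a // ¬ qa a = 0} = 10 by omega] at h
  exact ⟨h16, by omega⟩

/-- The vectors orthogonal to a system. -/
theorem Sys.perp_count {s : Fin 5 → V} (S : Sys s) :
    Nat.card {v : V // ∀ j, B v (s j) = 0} = 16 ∧
      Nat.card {w : {v : V // ∀ j, B v (s j) = 0} // qV 0 w.1 = 0} = 6 := by
  have hperp : ∀ {v : V}, (∀ j, B v (s j) = 0) → ∀ x, B (io s x) v = 0 := fun {v} hv x => by
    rw [io, B_sum]
    exact Finset.sum_eq_zero fun i _ => by rw [B_smul_left, B_comm, hv, mul_zero]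
  choose nrm hn4 hnio using S.exists_norm
  let cof : V → X5 := fun v j => B v (s j)
  have hcof : ∀ v j, B (v + io s (cof v)) (s j) = 0 := by
    intro v j
    rw [B_add_left, S.io_B]
    have h : B v (io s 1) = 0 := by rw [S.sum, B_zero_right]
    simp only [io, Pi.one_apply, one_smul, Fin.sum_univ_five, B_add_right] at h
    simp only [b5, cof]
    linear_combination h + CharTwo.add_self_eq_zero (B v (s j))
  let p : X5 → V → V := fun x w => io s x + w
  have hdec : ∀ x w, x 4 = 0 → (∀ j, B w (s j) = 0) → nrm (cof (io s x + w)) = x := by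
    intro x w hx hw
    refine S.io_inj (hn4 _) hx ?_
    rw [hnio]
    refine S.io_congr ?_
    have : ∀ j, cof (io s x + w) j = b5 x j := fun j => by
      simp only [cof, B_add_left, S.io_B, hw j, add_zero]
    rcases zcases (x 0 + x 1 + x 2 + x 3 + x 4) with e | e
    · left; funext j
      simp only [Pi.add_apply, this, b5, Pi.zero_apply]
      linear_combination e + CharTwo.add_self_eq_zero (x j)
    · right; funext j
      simp only [Pi.add_apply, this, b5, Pi.one_apply]
      linear_combination e + CharTwo.add_self_eq_zero (x j)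
  let A := {x : X5 // x 4 = 0}
  let Wt := {v : V // ∀ j, B v (s j) = 0}
  let E : A × Wt ≃ V :=
    { toFun := fun a => io s a.1.1 + a.2.1
      invFun := fun v => (⟨nrm (cof v), hn4 _⟩, ⟨v + io s (cof v), hcof v⟩)
      left_inv := fun ⟨⟨x, hx⟩, ⟨w, hw⟩⟩ => by
        refine Prod.ext (Subtype.ext (hdec x w hx hw)) (Subtype.ext ?_)
        show io s x + w + io s (cof (io s x + w)) = w
        rw [← hnio (cof _), hdec x w hx hw, show io s x + w + io s x = w + (io s x + io s x) by abel, addV,
          add_zero]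
      right_inv := fun v => by
        show io s (nrm (cof v)) + (v + io s (cof v)) = v
        rw [hnio, show io s (cof v) + (v + io s (cof v)) = v + (io s (cof v) + io s (cof v)) by abel, addV,
          add_zero] }
  have hA : Nat.card A = 16 := by
    rw [Nat.card_eq_fintype_card, Fintype.card_subtype]; exact x5_count.1
  have hA6 : Nat.card {a : A // q5 a.1 = 0} = 6 := by
    rw [Nat.card_congr (Equiv.subtypeSubtypeEquivSubtypeInter (fun x : X5 => x 4 = 0) (fun x => q5 x = 0)),
      Nat.card_eq_fintype_card, Fintype.card_subtype]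
    exact x5_count.2
  have hV : Nat.card V = 256 := by rw [Nat.card_eq_fintype_card]; exact card_V
  have hz : Nat.card {v : V // qV 0 v = 0} = 136 := by
    rw [Nat.card_eq_fintype_card, Fintype.card_subtype]; exact q_zero_count
  exact count_split E (fun a => q5 a.1) (fun w => qV 0 w.1) (qV 0)
    (fun a => by
      show qV 0 (io s a.1.1 + a.2.1) = _
      rw [qV_add, S.io_q, hperp a.2.2, add_zero]) hA hA6 hV hz

/-- The five singular vectors outside a system, permuted cyclically. -/
theorem exists_five (K : Coord z Q 0) (H : Hyp z Q) {b : G} (hb : orderOf b = 5) (hbz : b * z = z * b)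
    (hcard : Nat.card {v : V // K.act b v = v} = 16)
    (hrad : ∀ v, K.act b v = v → (∀ w, K.act b w = w → B v w = 0) → v = 0)
    (hline : ∀ v w, K.act b v = v → K.act b w = w → v ≠ 0 → w ≠ 0 → v ≠ w → qV 0 v = 0 → qV 0 w = 0 → B v w ≠ 0) :
    ∃ s t, Five K b s t := by
  classical
  obtain ⟨s, S, hF⟩ := exists_sys (fun v => K.act b v = v)
    (fun v w hv hw => by rw [K.act_add H hbz, hv, hw]) hcard hrad hline
  have hfix : ∀ i, K.act b (s i) = s i := fun i => (hF _).2 ⟨Pi.single i 1, (io_single s i).symm⟩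
  let W := fun v : V => ∀ j, B v (s j) = 0
  have hbp : ∀ n : ℕ, b ^ n * z = z * b ^ n := fun n => ((show Commute b z from hbz).pow_left n).eq
  have hWadd : ∀ v w, W v → W w → W (v + w) := fun v w hv hw j => by rw [B_add_left, hv, hw, add_zero]
  have hWb : ∀ v, W v → W (K.act b v) := fun v hv j => by
    rw [← hfix j, K.act_B H hbz]; exact hv j
  have hWperp : ∀ {v}, W v → ∀ x, B (io s x) v = 0 := fun {v} hv x => by
    rw [io, B_sum]
    exact Finset.sum_eq_zero fun i _ => by rw [B_smul_left, B_comm, hv, mul_zero]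
  have hW0 : ∀ {v}, W v → K.act b v = v → v = 0 := fun {v} hv hfv => hrad v hfv fun w hw => by
    obtain ⟨x, rfl⟩ := (hF w).1 hw
    rw [B_comm]; exact hWperp hv x
  obtain ⟨-, hW6⟩ := S.perp_count
  rw [Nat.card_congr (Equiv.subtypeSubtypeEquivSubtypeInter (fun v : V => ∀ j, B v (s j) = 0) (fun v => qV 0 v = 0)),
    Nat.card_eq_fintype_card, Fintype.card_subtype, ← Finset.filter_filter] at hW6
  let Wf := Finset.univ.filter W
  obtain ⟨t0, ht0W, ht0, ht0q⟩ : ∃ v, W v ∧ v ≠ 0 ∧ qV 0 v = 0 := by
    by_contra h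
    push Not at h
    have := Finset.card_le_card (s := Wf.filter fun v => qV 0 v = 0) (t := {0}) fun v hv => by
      simp only [Finset.mem_filter, Wf, Finset.mem_univ, true_and] at hv
      exact Finset.mem_singleton.2 (by_contra fun hv0 => h v hv.1 hv0 hv.2)
    rw [show (Wf.filter fun v => qV 0 v = 0).card = 6 by convert hW6, Finset.card_singleton] at this
    omega
  let t : Fin 5 → V := fun i => K.act (b ^ (i : ℕ)) t0
  have hpow : ∀ n m : ℕ, K.act (b ^ n) (K.act (b ^ m) t0) = K.act (b ^ (n + m)) t0 := fun n m => by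
    rw [pow_add, K.act_mul H (hbp n) (hbp m)]
  have hmod : ∀ n : ℕ, K.act (b ^ n) t0 = K.act (b ^ (n % 5)) t0 := fun n => by
    rw [← pow_mod_orderOf b n, hb]
  have ht : ∀ (n : ℕ) (i : Fin 5), K.act (b ^ n) (t i) = t (⟨n % 5, Nat.mod_lt _ (by norm_num)⟩ + i) :=
    fun n i => by
      simp only [t, hpow, Fin.val_add]
      conv_lhs => rw [hmod]
      rw [Nat.mod_add_mod]
  have hshift : ∀ i, K.act b (t i) = t (i + 1) := fun i => by
    rw [← pow_one b, ht, add_comm]; rfl
  have hWt : ∀ i, W (t i) := by
    have : ∀ n : ℕ, W (K.act (b ^ n) t0) := by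
      intro n
      induction n with
      | zero => rw [pow_zero, K.act_one H]; exact ht0W
      | succ n ih => rw [pow_succ', K.act_mul H hbz (hbp n)]; exact hWb _ ih
    exact fun i => this i
  have htq : ∀ i, qV 0 (t i) = 0 := fun i => by
    show qV 0 (K.act _ t0) = 0
    rw [K.act_q H (hbp _)]; exact ht0q
  have htne : ∀ i, t i ≠ 0 := fun i h => ht0 (K.act_injective H (hbp _) (h.trans (K.act_zero H (hbp _)).symm))
  have htr : ∀ d i, K.act (b ^ (d : Fin 5).val) (t i) = t (d + i) := fun d i => by
    rw [ht]; congr 1; simp [Nat.mod_eq_of_lt d.isLt]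
  have t_zero : t 0 = t0 := by show K.act (b ^ 0) t0 = t0; rw [pow_zero, K.act_one H]
  have htinj : Function.Injective t := by
    have hper : ∀ k : Fin 5, t k = t 0 → k = 0 := by
      intro k hk
      by_contra hk0
      have hstep : ∀ j, t (j + k) = t j := fun j => by
        have := htr j k
        rw [hk, htr, add_zero] at this
        exact this.symm
      have hall : ∀ j : Fin 5, t (j * k) = t 0 := by
        have h1 : t k = t 0 := hk
        have h2 : t (k + k) = t 0 := (hstep k).trans h1
        have h3 : t (k + k + k) = t 0 := (hstep _).trans h2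
        have h4 : t (k + k + k + k) = t 0 := (hstep _).trans h3
        intro j
        rcases five_cases j k with e | e | e | e | e <;> rw [e]
        exacts [h1, h2, h3, h4]
      obtain ⟨j, hj⟩ := five_mul k 1 hk0
      have h10 : t 1 = t 0 := hj ▸ hall j
      rw [← zero_add (1 : Fin 5), ← hshift, t_zero] at h10
      exact ht0 (hW0 ht0W h10)
    intro i j h
    have h2 := congrArg (K.act (b ^ (-i : Fin 5).val)) h
    rw [htr, htr, neg_add_cancel] at h2
    exact (neg_add_eq_zero.1 (hper _ h2.symm))
  have hclass : ∀ v, W v → qV 0 v = 0 → v = 0 ∨ ∃ i, v = t i := by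
    intro v hv hvq
    have e : insert 0 (Finset.univ.image t) = Wf.filter fun v => qV 0 v = 0 := by
      refine Finset.eq_of_subset_of_card_le (fun u hu => ?_) ?_
      · simp only [Finset.mem_filter, Wf, Finset.mem_univ, true_and]
        rcases Finset.mem_insert.1 hu with rfl | hu
        · exact ⟨fun j => B_zero_left _, qV_zero 0⟩
        · obtain ⟨i, -, rfl⟩ := Finset.mem_image.1 hu
          exact ⟨hWt i, htq i⟩
      · rw [hW6, Finset.card_insert_of_notMem (by simpa using htne),
          Finset.card_image_of_injective _ htinj]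
        simp
    have : v ∈ Wf.filter fun v => qV 0 v = 0 := by simp [Wf, hv, hvq]
    rw [← e] at this
    simpa [eq_comm] using this
  have hpair : ∀ i j, i ≠ j → B (t i) (t j) = 1 := by
    intro i j hij
    by_contra hne
    have h0 : B (t i) (t j) = 0 := (zcases _).resolve_right hne
    have hk : j - i ≠ 0 := sub_ne_zero.2 hij.symm
    set k := j - i with hkdef
    obtain ⟨m, hm⟩ := (hclass _ (hWadd _ _ (hWt i) (hWt j))
      (by rw [qV_add, htq, htq, h0]; rfl)).resolve_left fun e => hij (htinj (eqV e))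
    obtain ⟨d, hd⟩ := five_mul k (m - i) hk
    have hshiftE : ∀ a, t a + t (a + k) = t (a + d * k) := by
      intro a
      have := congrArg (K.act (b ^ (a - i : Fin 5).val)) hm
      rw [K.act_add H (hbp _), htr, htr, htr] at this
      rwa [sub_add_cancel, show a - i + j = a + k by rw [hkdef]; abel,
        show a - i + m = a + (m - i) by abel, hd] at this
    obtain ⟨n2, n3, n4, n5⟩ := five_ne k hk
    have e0 := hshiftE 0
    have e1 := hshiftE k
    have e2 := hshiftE (k + k)
    rw [zero_add, zero_add] at e0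
    have no : ∀ {a c : Fin 5}, t a = t c → a = c := fun h => htinj h
    have cancel : ∀ {u v w : V}, u + v = w → v = u + w := fun {u v w} h => by
      rw [← h, ← add_assoc, addV, zero_add]
    rcases five_cases d k with e | e | e | e | e <;> rw [e] at e0 e1 e2
    · have := cancel e0
      rw [addV] at this
      exact htne k this
    · have := cancel (show t k + t 0 = t k by rw [add_comm]; exact e0)
      rw [addV] at this
      exact htne 0 this
    · -- t(2k) = t0 + tk, t(3k) = tk + t(2k)
      rw [← e0, ← add_assoc k k k] at e1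
      rw [show t k + (t 0 + t k) = t 0 + (t k + t k) by abel, addV, add_zero] at e1
      exact n3 (no e1).symm
    · rw [show k + (k + k + k) = k + k + k + k by abel] at e1
      rw [show k + k + (k + k + k) = k + k + k + k + k by abel, n5, ← e0] at e2
      have : t (k + k) + t k = 0 := by
        rw [show t (k + k) + t k = t (k + k) + (t 0 + t k) + t 0 by
          rw [show t (k + k) + (t 0 + t k) + t 0 = t (k + k) + t k + (t 0 + t 0) by abel, addV, add_zero],
          e2, addV]
      exact hk (add_left_cancel (b := k) (c := 0) (by rw [add_zero]; exact no (eqV this)))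
    · rw [show k + (k + k + k + k) = k + k + k + k + k by abel, n5] at e1
      have : t (k + k) = t (k + k + k + k) := by
        rw [← e0, cancel e1, add_comm]
      have h2 := no this
      rw [show k + k + k + k = k + k + (k + k) by abel] at h2
      exact n2 (left_eq_add.1 h2)
  have hsumW : W (io t 1) := fun j => by
    rw [io, B_sum]
    exact Finset.sum_eq_zero fun i _ => by rw [B_smul_left, hWt i j, mul_zero]
  have hsum : io t 1 = 0 := hW0 hsumW (by
    rw [io_map (K.act_add H hbz), show (fun i => K.act b (t i)) = fun i => t ((Equiv.addRight 1) i) from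
      funext hshift, io_perm]
    rfl)
  exact ⟨s, t, H, hb, hbz, S, ⟨htq, hpair, hsum⟩, fun i j => by rw [B_comm]; exact hWt j i, hfix, hshift⟩

end CfsgLib.CoOneType
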