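import Mathlib
import Cfsg.Agent.Lib.CoOneType.FiveSpace
import Cfsg.Agent.Lib.CoOneType.Radical
import Cfsg.Agent.Lib.MonsterType.LocalLift
import Cfsg.Agent.Lib.HJType.Quot

/-!
The common centralizer of `z` and an element of order five: five singular points are permuted by the
alternating group, and the part fixing the moved system commutes with the corresponding part of its partner.
-/

set_option autoImplicit false
set_option linter.style.longLine false
set_option linter.unusedSectionVars false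
set_option maxHeartbeats 1000000
set_option synthInstance.maxSize 8000
set_option synthInstance.maxHeartbeats 1000000

namespace CfsgLib.CoOneType

open Subgroup Equiv

theorem a5_three_prod : ∀ σ : HJType.A5, ∃ u v : HJType.A5, u ^ 3 = 1 ∧ v ^ 3 = 1 ∧ σ = u * v := by
  decide +kernel

theorem perm5_three : ∀ u : Perm (Fin 5), u ^ 3 = 1 →
    u = 1 ∨ ∃ i j k : Fin 5, i ≠ j ∧ j ≠ k ∧ u = swap i j * swap j k := by
  decide +kernel

theorem swap_sign : ∀ σ : Perm (Fin 5), σ ∉ alternatingGroup (Fin 5) →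
    σ * swap 0 1 ∈ alternatingGroup (Fin 5) := by
  simp only [Equiv.Perm.mem_alternatingGroup]; decide +kernel

theorem five_sum : ∀ i : Fin 5, i + 1 ≠ i := by decide

variable {G : Type*} [Group G] [Finite G] {z : G} {Q : Subgroup G}

theorem Hyp.isPGroup (H : Hyp z Q) : IsPGroup 2 Q :=
  IsPGroup.of_card (n := 9) (by rw [H.card]; norm_num)

theorem Hyp.five_four (H : Hyp z Q) {y : G} (hy : y ∈ Q) : y ^ 4 = 1 := by
  rw [show y ^ 4 = y * y * (y * y) by simp [pow_succ, mul_assoc]]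
  rcases H.extra.sq_cases hy with e | e <;> rw [e]
  · rw [one_mul]
  · exact H.extra.sq_one

namespace Five

variable {K : Coord z Q 0} {b : G} {s t : Fin 5 → V} (F : Five K b s t)
include F

/-- An element of `Q` commutes with `b` exactly when its vector is fixed. -/
theorem comm_b_iff {y : G} (hy : y ∈ Q) : y * b = b * y ↔ K.act b (K.vec y) = K.vec y := by
  have H := F.hyp
  rw [K.act_vec H F.bz hy]
  constructor
  · intro h
    rw [← h, mul_inv_cancel_right]
  · intro h
    refine (MonsterType.Local.commute_of_sign F.ord (by decide) H.extra.sq_one F.bz ?_).symm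
    exact K.eq_or H (H.norm b F.bz y hy) hy h

theorem comm_b_iff' {y : G} (hy : y ∈ Q) : y * b = b * y ↔ ∃ x, K.vec y = io s x :=
  (F.comm_b_iff hy).trans (F.fixed_iff _)

theorem card_fix : Nat.card {y : G // y ∈ Q ∧ y * b = b * y} = 32 := by
  classical
  rw [Nat.card_congr (Equiv.subtypeEquivRight (q := fun y => y ∈ Q ∧ ∀ j, B (K.vec y) (t j) = 0)
    fun y => and_congr_right fun hy => ?_)]
  · rw [K.card_lifts F.hyp (fun v => ∀ j, B v (t j) = 0)]
    have h := F.tys.perp_count.1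
    rw [Nat.card_eq_fintype_card, Fintype.card_subtype] at h
    rw [h]
  · rw [F.comm_b_iff' hy]
    exact ⟨fun ⟨x, e⟩ j => by rw [e, F.s_t], F.perp_t⟩

/-- The part of `C(z) ∩ C(b)` fixing the moved system. -/
def dGroup (F : Five K b s t) : Subgroup G where
  carrier := {c | c * z = z * c ∧ c * b = b * c ∧ ∀ i, K.act c (t i) = t i}
  one_mem' := ⟨by simp, by simp, fun i => K.act_one F.hyp _⟩
  mul_mem' := fun {a c} ha hc => ⟨(Commute.mul_left ha.1 hc.1).eq, (Commute.mul_left ha.2.1 hc.2.1).eq,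
    fun i => by rw [K.act_mul F.hyp ha.1 hc.1, hc.2.2, ha.2.2]⟩
  inv_mem' := fun {a} ha => ⟨(Commute.inv_left ha.1).eq, (Commute.inv_left ha.2.1).eq, fun i => by
    conv_lhs => rw [← ha.2.2 i]
    rw [K.act_inv_cancel F.hyp ha.1]⟩

theorem mem_dGroup {c : G} : c ∈ F.dGroup ↔ c * z = z * c ∧ c * b = b * c ∧ ∀ i, K.act c (t i) = t i :=
  Iff.rfl

theorem fix_mem {y : G} (hy : y ∈ Q) (hyb : y * b = b * y) : y ∈ F.dGroup :=
  ⟨F.hyp.extra.comm_z hy, hyb, fun i => K.act_mem F.hyp hy _⟩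

/-- An element of `C(z) ∩ C(b)` permutes the fixed system. -/
theorem exists_image {c : G} (hc : c * z = z * c) (hcb : c * b = b * c) (i : Fin 5) :
    ∃ j, K.act c (s i) = s j := by
  have H := F.hyp
  have h : K.act b (K.act c (s i)) = K.act c (s i) := by
    rw [← K.act_mul H F.bz hc, ← hcb, K.act_mul H hc F.bz, F.fix]
  obtain ⟨x, hx⟩ := F.fixed h
  have hq : qV 0 (io s x) = 0 := by rw [← hx, K.act_q H hc, F.sys.q]
  rcases F.sys.singular hq with e | ⟨j, e⟩
  · exact absurd (K.act_injective H hc ((hx.trans e).trans (K.act_zero H hc).symm)) (F.sys.ne_zero i)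
  · exact ⟨j, hx.trans e⟩

/-- The permutation of the fixed system. -/
noncomputable def permFun (F : Five K b s t) (c : ↥F.dGroup) (i : Fin 5) : Fin 5 :=
  Classical.choose (F.exists_image c.2.1 c.2.2.1 i)

theorem permFun_spec (c : ↥F.dGroup) (i : Fin 5) : K.act (c : G) (s i) = s (F.permFun c i) :=
  Classical.choose_spec (F.exists_image c.2.1 c.2.2.1 i)

theorem permFun_mul (c d : ↥F.dGroup) (i : Fin 5) : F.permFun (c * d) i = F.permFun c (F.permFun d i) :=
  F.sys.inj (by rw [← F.permFun_spec, ← F.permFun_spec, ← F.permFun_spec, ← K.act_mul F.hyp c.2.1 d.2.1]; rfl)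

theorem permFun_one (i : Fin 5) : F.permFun 1 i = i :=
  F.sys.inj (by rw [← F.permFun_spec]; exact K.act_one F.hyp _)

/-- The action on the fixed system. -/
noncomputable def psi (F : Five K b s t) : ↥F.dGroup →* Perm (Fin 5) where
  toFun c :=
    { toFun := F.permFun c
      invFun := F.permFun c⁻¹
      left_inv := fun i => by rw [← F.permFun_mul, inv_mul_cancel, F.permFun_one]
      right_inv := fun i => by rw [← F.permFun_mul, mul_inv_cancel, F.permFun_one] }
  map_one' := Equiv.ext F.permFun_one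
  map_mul' c d := Equiv.ext (F.permFun_mul c d)

theorem psi_spec (c : ↥F.dGroup) (i : Fin 5) : K.act (c : G) (s i) = s (F.psi c i) := F.permFun_spec c i

theorem psi_eq {c : ↥F.dGroup} {σ : Perm (Fin 5)} (h : ∀ i, K.act (c : G) (s i) = s (σ i)) : F.psi c = σ :=
  Equiv.ext fun i => F.sys.inj (by rw [← F.psi_spec, h])

theorem psi_eq_one {c : ↥F.dGroup} : F.psi c = 1 ↔ (c : G) ∈ Q := by
  constructor
  · intro h
    refine K.mem_of_act F.hyp c.2.1 fun v =>
      F.ext (g := fun v => v) (K.act_add F.hyp c.2.1) (fun _ _ => rfl) (fun i => ?_) c.2.2.2 v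
    rw [F.psi_spec, h]; rfl
  · exact fun h => F.psi_eq fun i => by rw [K.act_mem F.hyp h]; rfl

theorem refl_swap (i j : Fin 5) (hij : i ≠ j) (k : Fin 5) : refl (s i + s j) (s k) = s (swap i j k) := by
  have S := F.sys
  by_cases hki : k = i
  · subst hki
    rw [refl, B_add_right, B_self, S.pair k j hij, zero_add, one_smul, ← add_assoc, addV, zero_add,
      swap_apply_left]
  by_cases hkj : k = j
  · subst hkj
    rw [refl, B_add_right, B_self, S.pair k i (Ne.symm hij), add_zero, one_smul, add_comm (s i) (s k), ← add_assoc,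
      addV, zero_add, swap_apply_right]
  rw [refl, B_add_right, S.pair k i hki, S.pair k j hkj, swap_apply_of_ne_of_ne hki hkj]
  simp [show (1 : ZMod 2) + 1 = 0 from rfl]

theorem refl_t (i j k : Fin 5) : refl (s i + s j) (t k) = t k := by
  rw [refl, B_add_right, B_comm (t k), B_comm (t k), F.cross, F.cross]
  simp

theorem pair_q {i j : Fin 5} (hij : i ≠ j) : qV 0 (s i + s j) = 1 := by
  rw [qV_add, F.sys.q, F.sys.q, F.sys.pair i j hij]; rfl

/-- Every product of two transpositions is induced. -/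
theorem exists_swaps {i j k l : Fin 5} (hij : i ≠ j) (hkl : k ≠ l) :
    ∃ d : ↥F.dGroup, F.psi d = swap i j * swap k l := by
  have H := F.hyp
  obtain ⟨c, hc, hca⟩ := K.pair H (F.pair_q hij) (F.pair_q hkl)
  have hcs : ∀ m, K.act c (s m) = s ((swap i j * swap k l) m) := fun m => by
    rw [hca, F.refl_swap k l hkl, F.refl_swap i j hij]; rfl
  have hct : ∀ m, K.act c (t m) = t m := fun m => by rw [hca, F.refl_t, F.refl_t]
  have hbc : b * c * z = z * (b * c) := (Commute.mul_left F.bz hc).eq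
  have hcb : c * b * z = z * (c * b) := (Commute.mul_left hc F.bz).eq
  have heq : ∀ v, K.act (c * b) v = K.act (b * c) v := F.ext (K.act_add H hcb) (K.act_add H hbc)
    (fun m => by rw [K.act_mul H hc F.bz, K.act_mul H F.bz hc, F.fix, hcs, F.fix])
    (fun m => by rw [K.act_mul H hc F.bz, K.act_mul H F.bz hc, F.shift, hct, hct, F.shift])
  have hxz : c * b * c⁻¹ * b⁻¹ * z = z * (c * b * c⁻¹ * b⁻¹) :=
    (((Commute.mul_left hc F.bz).mul_left (Commute.inv_left hc)).mul_left (Commute.inv_left F.bz)).eq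
  have hx : c * b * c⁻¹ * b⁻¹ ∈ Q := by
    refine K.mem_of_act H hxz fun v => ?_
    rw [show c * b * c⁻¹ * b⁻¹ = c * b * (b * c)⁻¹ by group,
      K.act_mul H hcb (Commute.inv_left hbc).eq, heq, ← K.act_mul H hbc (Commute.inv_left hbc).eq,
      mul_inv_cancel, K.act_one H]
  have : Fact (Nat.Prime 5) := ⟨Nat.prime_five⟩
  obtain ⟨p, hp, hpc⟩ := MonsterType.Local.exists_mul_commute (l := 5) (by norm_num) H.isPGroup F.ord
    (fun y hy => H.norm b F.bz y hy) hx
  have hpz := H.extra.comm_z hp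
  refine ⟨⟨p * c, (Commute.mul_left hpz hc).eq, hpc, fun m => ?_⟩, F.psi_eq fun m => ?_⟩
  · rw [K.act_mul H hpz hc, K.act_mem H hp, hct]
  · show K.act (p * c) (s m) = _
    rw [K.act_mul H hpz hc, K.act_mem H hp, hcs]

theorem alternating_le : alternatingGroup (Fin 5) ≤ F.psi.range := by
  intro σ hσ
  obtain ⟨u, v, hu, hv, e⟩ := a5_three_prod ⟨σ, hσ⟩
  have key : ∀ w : HJType.A5, w ^ 3 = 1 → (w : Perm (Fin 5)) ∈ F.psi.range := by
    intro w hw
    rcases perm5_three w (by rw [← Subgroup.coe_pow, hw]; rfl) with h | ⟨i, j, k, hij, hjk, h⟩ <;> rw [h]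
    · exact one_mem _
    · exact F.exists_swaps hij hjk
  have e' : σ = (u : Perm (Fin 5)) * v := congrArg Subtype.val e
  rw [e']
  exact mul_mem (key u hu) (key v hv)

theorem psi_mem (c : ↥F.dGroup) : F.psi c ∈ alternatingGroup (Fin 5) := by
  by_contra hodd
  obtain ⟨d, hd⟩ := F.alternating_le (swap_sign _ hodd)
  have h : F.psi (c⁻¹ * d) = swap 0 1 := by rw [map_mul, map_inv, hd, inv_mul_cancel_left]
  have hmem := (c⁻¹ * d).2
  refine K.no_refl F.hyp (F.pair_q (show (0 : Fin 5) ≠ 1 by decide)) hmem.1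
    (F.ext (K.act_add F.hyp hmem.1) (refl_add _) (fun i => ?_) fun i => ?_)
  · rw [F.psi_spec, h, F.refl_swap 0 1 (by decide)]
  · rw [hmem.2.2, F.refl_t]

/-- The action as a map onto the alternating group. -/
noncomputable def psiA (F : Five K b s t) : ↥F.dGroup →* HJType.A5 := F.psi.codRestrict _ F.psi_mem

theorem psiA_surjective : Function.Surjective F.psiA := fun σ => by
  obtain ⟨d, hd⟩ := F.alternating_le σ.2
  exact ⟨d, Subtype.ext hd⟩

theorem psiA_eq_one {c : ↥F.dGroup} : F.psiA c = 1 ↔ (c : G) ∈ Q :=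
  Subtype.ext_iff.trans F.psi_eq_one

/-- Homomorphisms from the part fixing the moved system to groups without elements of order three. -/
theorem hom_trivial {A : Type*} [Group A] (hA : ∀ a : A, a ^ 3 = 1 → a = 1) (κ : ↥F.dGroup →* A)
    (hκ : ∀ c : ↥F.dGroup, (c : G) ∈ Q → κ c = 1) (c : ↥F.dGroup) : κ c = 1 := by
  obtain ⟨u, v, hu, hv, e⟩ := a5_three_prod (F.psiA c)
  have key : ∀ w : HJType.A5, w ^ 3 = 1 → ∃ d, F.psiA d = w ∧ κ d = 1 := by
    intro w hw
    obtain ⟨d, rfl⟩ := F.psiA_surjective w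
    refine ⟨d, rfl, hA _ ?_⟩
    rw [← map_pow]
    exact hκ _ (F.psiA_eq_one.1 (by rw [map_pow, hw]))
  obtain ⟨du, hdu, hku⟩ := key u hu
  obtain ⟨dv, hdv, hkv⟩ := key v hv
  have h := hκ ((du * dv)⁻¹ * c) (F.psiA_eq_one.1 (by rw [map_mul, map_inv, map_mul, hdu, hdv, e, inv_mul_cancel]))
  rwa [map_mul, map_inv, map_mul, hku, hkv, one_mul, inv_one, one_mul] at h

/-- The part fixing the moved system centralises the lifts of that system. -/
theorem comm_moved {d y : G} (hd : d ∈ F.dGroup) (hy : y ∈ Q) {x : X5} (hv : K.vec y = io t x) :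
    d * y = y * d := by
  have H := F.hyp
  obtain ⟨hdz, hdb, hdt⟩ := hd
  obtain ⟨w, hw⟩ := F.moved_onto x
  set y0 := K.lift (io t w) with hy0
  have hy0Q : y0 ∈ Q := K.lift_mem _
  have hfix : K.act d (K.vec y0) = K.vec y0 := by
    rw [hy0, K.vec_lift, io_map (K.act_add H hdz)]
    simp only [hdt]
  have hd0 : d * y0 * d⁻¹ = y0 ∨ d * y0 * d⁻¹ = z * y0 :=
    K.eq_or H (H.norm d hdz y0 hy0Q) hy0Q (by rw [← K.act_vec H hdz hy0Q, hfix])
  set y1 := b * y0 * b⁻¹ * y0⁻¹ with hy1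
  have hy1Q : y1 ∈ Q := mul_mem (H.norm b F.bz y0 hy0Q) (inv_mem hy0Q)
  have hd1 : d * y1 * d⁻¹ = y1 := by
    calc d * y1 * d⁻¹ = (d * b) * y0 * (d * b)⁻¹ * (d * y0 * d⁻¹)⁻¹ := by rw [hy1]; group
      _ = (b * d) * y0 * (b * d)⁻¹ * (d * y0 * d⁻¹)⁻¹ := by rw [hdb]
      _ = b * (d * y0 * d⁻¹) * b⁻¹ * (d * y0 * d⁻¹)⁻¹ := by group
      _ = y1 := by
        rcases hd0 with e | e <;> rw [e]
        rw [hy1, ← mul_assoc b z, F.bz, mul_inv_rev, H.extra.inv_eq,
          show z * b * y0 * b⁻¹ * (y0⁻¹ * z) = z * (b * y0 * b⁻¹ * y0⁻¹) * z by group,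
          show z * (b * y0 * b⁻¹ * y0⁻¹) = b * y0 * b⁻¹ * y0⁻¹ * z from (H.extra.comm_z hy1Q).symm,
          mul_assoc, H.extra.sq_one, mul_one]
  have hvec : K.vec y1 = K.vec y := by
    rw [hy1, K.mul (H.norm b F.bz y0 hy0Q) (inv_mem hy0Q), K.vec_inv hy0Q, ← K.act_vec H F.bz hy0Q,
      hy0, K.vec_lift, hw, hv]
  rcases K.eq_or H hy hy1Q hvec.symm with e | e <;> rw [e]
  · exact mul_inv_eq_iff_eq_mul.1 hd1
  · exact (Commute.mul_right hdz (mul_inv_eq_iff_eq_mul.1 hd1)).eq

/-- There is an element of order five of the same kind acting as a five-cycle. -/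
theorem exists_partner : ∃ b' ∈ F.dGroup, Five K b' t s := by
  have H := F.hyp
  have h5 : (Equiv.addRight (1 : Fin 5)) ∈ alternatingGroup (Fin 5) := by
    rw [Equiv.Perm.mem_alternatingGroup]; decide +kernel
  obtain ⟨c, hc⟩ := F.alternating_le h5
  have hc5 : ((c : G) ^ 5) ∈ Q := by
    rw [← Subgroup.coe_pow, ← F.psi_eq_one, map_pow, hc]
    decide +kernel
  have hpow : ((c : G) ^ 16) ^ 5 = 1 := by
    rw [← pow_mul, show 16 * 5 = 5 * 4 * 4 by norm_num, pow_mul, pow_mul, H.five_four hc5, one_pow]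
  have hψ : F.psi (c ^ 16) = Equiv.addRight 1 := by
    rw [map_pow, hc]; decide +kernel
  have hact : ∀ i, K.act (((c ^ 16 : ↥F.dGroup)) : G) (s i) = s (i + 1) := fun i => by
    rw [F.psi_spec, hψ]; rfl
  have hne : ((c : G) ^ 16) ≠ 1 := fun e => by
    have h0 := hact 0
    rw [Subgroup.coe_pow, e, K.act_one H] at h0
    exact five_sum 0 (F.sys.inj h0).symm
  have : Fact (Nat.Prime 5) := ⟨Nat.prime_five⟩
  refine ⟨((c ^ 16 : ↥F.dGroup) : G), (c ^ 16).2, H, ?_, (c ^ 16).2.1, F.tys, F.sys,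
    fun i j => by rw [B_comm]; exact F.cross j i, (c ^ 16).2.2.2, hact⟩
  rw [Subgroup.coe_pow]
  exact orderOf_eq_prime hpow hne

/-- The two parts commute. -/
theorem groups_commute {b' : G} (F' : Five K b' t s) {d d' : G} (hd : d ∈ F.dGroup) (hd' : d' ∈ F'.dGroup) :
    d * d' = d' * d := by
  have H := F.hyp
  have hcl : ∀ {d e y : G}, d ∈ F.dGroup → e ∈ F'.dGroup → y ∈ Q →
      d * e * d⁻¹ * e⁻¹ * y = y * (d * e * d⁻¹ * e⁻¹) := by
    intro d e y hd he hy
    have hk : ∀ y ∈ Q, ∀ x, K.vec y = io s x → d * e * d⁻¹ * e⁻¹ * y = y * (d * e * d⁻¹ * e⁻¹) := by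
      intro y hy x hx
      have e1 : Commute e y := F'.comm_moved he hy hx
      have hm : d⁻¹ * y * d ∈ Q := by
        have := H.norm d⁻¹ (Commute.inv_left hd.1).eq y hy
        rwa [inv_inv] at this
      have hb : d⁻¹ * y * d * b = b * (d⁻¹ * y * d) :=
        (((Commute.inv_left hd.2.1).mul_left ((F.comm_b_iff' hy).2 ⟨x, hx⟩)).mul_left hd.2.1).eq
      obtain ⟨x', hx'⟩ := (F.comm_b_iff' hm).1 hb
      have e2 : Commute e (d⁻¹ * y * d) := F'.comm_moved he hm hx'
      calc d * e * d⁻¹ * e⁻¹ * y = d * e * d⁻¹ * (e⁻¹ * y) := by group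
        _ = d * e * d⁻¹ * (y * e⁻¹) := by rw [e1.inv_left.eq]
        _ = d * (e * (d⁻¹ * y * d)) * d⁻¹ * e⁻¹ := by group
        _ = d * (d⁻¹ * y * d * e) * d⁻¹ * e⁻¹ := by rw [e2.eq]
        _ = y * (d * e * d⁻¹ * e⁻¹) := by group
    have hk' : ∀ y ∈ Q, ∀ x, K.vec y = io t x → d * e * d⁻¹ * e⁻¹ * y = y * (d * e * d⁻¹ * e⁻¹) := by
      intro y hy x hx
      have e1 : Commute d y := F.comm_moved hd hy hx
      have hm : e⁻¹ * y * e ∈ Q := by
        have := H.norm e⁻¹ (Commute.inv_left he.1).eq y hy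
        rwa [inv_inv] at this
      have hb : e⁻¹ * y * e * b' = b' * (e⁻¹ * y * e) :=
        (((Commute.inv_left he.2.1).mul_left ((F'.comm_b_iff' hy).2 ⟨x, hx⟩)).mul_left he.2.1).eq
      obtain ⟨x', hx'⟩ := (F'.comm_b_iff' hm).1 hb
      have e2 : Commute d (e⁻¹ * y * e) := F.comm_moved hd hm hx'
      calc d * e * d⁻¹ * e⁻¹ * y = d * e * (d⁻¹ * (e⁻¹ * y * e)) * e⁻¹ := by group
        _ = d * e * (e⁻¹ * y * e * d⁻¹) * e⁻¹ := by rw [e2.inv_left.eq]
        _ = (d * y) * e * d⁻¹ * e⁻¹ := by group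
        _ = y * (d * e * d⁻¹ * e⁻¹) := by rw [e1.eq]; group
    obtain ⟨x, x', h⟩ := F.spanning (K.vec y)
    have hp : K.lift (io s x) ∈ Q := K.lift_mem _
    have hr : (K.lift (io s x))⁻¹ * y ∈ Q := mul_mem (inv_mem hp) hy
    have h1 := hk _ hp x (K.vec_lift _)
    have h2 := hk' _ hr x' (by
      rw [K.mul (inv_mem hp) hy, K.vec_inv hp, K.vec_lift, h, ← add_assoc, addV, zero_add])
    calc d * e * d⁻¹ * e⁻¹ * y = d * e * d⁻¹ * e⁻¹ * K.lift (io s x) * ((K.lift (io s x))⁻¹ * y) := by group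
      _ = K.lift (io s x) * (d * e * d⁻¹ * e⁻¹ * ((K.lift (io s x))⁻¹ * y)) := by rw [h1]; group
      _ = y * (d * e * d⁻¹ * e⁻¹) := by rw [h2]; group
  have hcase : ∀ {d e : G}, d ∈ F.dGroup → e ∈ F'.dGroup → d * e * d⁻¹ * e⁻¹ = 1 ∨ d * e * d⁻¹ * e⁻¹ = z := by
    intro d e hd he
    have hz : d * e * d⁻¹ * e⁻¹ * z = z * (d * e * d⁻¹ * e⁻¹) :=
      (((Commute.mul_left hd.1 he.1).mul_left (Commute.inv_left hd.1)).mul_left (Commute.inv_left he.1)).eq
    have hc := H.self _ hz fun y hy => (hcl hd he hy).symm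
    exact H.extra.central_cases hc fun y hy => (hcl hd he hy).symm
  let k : ↥F.dGroup → G := fun c => (c : G) * d' * (c : G)⁻¹ * d'⁻¹
  have hkz : ∀ c : ↥F.dGroup, k c ∈ zpowers z := fun c => by
    rcases hcase c.2 hd' with e | e <;> simp only [k, e]
    exacts [one_mem _, mem_zpowers z]
  have hmulk : ∀ a c : ↥F.dGroup, k (a * c) = k a * k c := fun a c => by
    have hkc : (a : G) * k c = k c * (a : G) := by
      obtain ⟨i, hi⟩ := hkz c
      have hi' : z ^ i = k c := hi
      rw [← hi']; exact ((show Commute (a : G) z from a.2.1).zpow_right i).eq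
    have hcc : k c * k a = k a * k c := by
      obtain ⟨i, hi⟩ := hkz c
      obtain ⟨j, hj⟩ := hkz a
      rw [← (hi : z ^ i = k c), ← (hj : z ^ j = k a), ← zpow_add, ← zpow_add, add_comm]
    calc k (a * c) = (a : G) * k c * ((d' * (a : G)⁻¹) * d'⁻¹) := by simp only [k, Subgroup.coe_mul]; group
      _ = k c * k a := by rw [hkc]; simp only [k]; group
      _ = k a * k c := hcc
  let κ : ↥F.dGroup →* ↥(zpowers z) :=
    MonoidHom.mk' (fun c => ⟨k c, hkz c⟩) fun a c => Subtype.ext (hmulk a c)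
  have h3 : ∀ a : ↥(zpowers z), a ^ 3 = 1 → a = 1 := fun a ha => by
    have h2 : a ^ 2 = 1 := orderOf_dvd_iff_pow_eq_one.1 (by
      have := orderOf_dvd_natCard a
      rwa [Nat.card_zpowers, H.hz] at this)
    rwa [pow_succ, h2, one_mul] at ha
  have hQ : ∀ c : ↥F.dGroup, (c : G) ∈ Q → κ c = 1 := fun c hc => by
    refine Subtype.ext ?_
    obtain ⟨x, hx⟩ := (F.comm_b_iff' hc).1 c.2.2.1
    show k c = 1
    simp only [k]
    rw [← (F'.comm_moved hd' hc hx), mul_inv_cancel_right, mul_inv_cancel]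
  have h := congrArg Subtype.val (F.hom_trivial h3 κ hQ ⟨d, hd⟩)
  have h' : d * d' * d⁻¹ * d'⁻¹ = 1 := h
  exact mul_inv_eq_iff_eq_mul.1 (mul_inv_eq_one.1 h')

end Five

/-- The data from the centralizer of `b` in `Q`. -/
theorem Hyp.exists_five_of_fix (H : Hyp z Q) (K : Coord z Q 0) {b : G} (hb : orderOf b = 5) (hbz : b * z = z * b)
    (hcard : Nat.card {y : G // y ∈ Q ∧ y * b = b * y} = 32)
    (hcen : ∀ y ∈ Q, y * b = b * y → (∀ w ∈ Q, w * b = b * w → w * y = y * w) → y = 1 ∨ y = z)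
    (hline : ∀ y ∈ Q, ∀ w ∈ Q, y * b = b * y → w * b = b * w → y * y = 1 → w * w = 1 → y * w = w * y →
      K.vec y ≠ 0 → K.vec w ≠ 0 → K.vec y ≠ K.vec w → False) :
    ∃ s t, Five K b s t := by
  classical
  have hc : ∀ {y}, y ∈ Q → (y * b = b * y ↔ K.act b (K.vec y) = K.vec y) := by
    intro y hy
    rw [K.act_vec H hbz hy]
    refine ⟨fun h => by rw [← h, mul_inv_cancel_right], fun h => ?_⟩
    exact (MonsterType.Local.commute_of_sign hb (by decide) H.extra.sq_one hbz
      (K.eq_or H (H.norm b hbz y hy) hy h)).symm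
  have hl : ∀ {v}, K.act b v = v → K.lift v * b = b * K.lift v := fun {v} hv =>
    (hc (K.lift_mem v)).2 (by rw [K.vec_lift]; exact hv)
  refine exists_five K H hb hbz ?_ (fun v hv hperp => ?_) fun v w hv hw hv0 hw0 hvw hvq hwq hB => ?_
  · rw [Nat.card_congr (Equiv.subtypeEquivRight (q := fun y => y ∈ Q ∧ K.act b (K.vec y) = K.vec y)
      fun y => and_congr_right fun hy => hc hy), K.card_lifts H (fun v => K.act b v = v)] at hcard
    rw [Nat.card_eq_fintype_card, Fintype.card_subtype]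
    omega
  · have h := hcen _ (K.lift_mem v) (hl hv) fun w hw hwb =>
      (K.comm_iff H.extra.ne_one hw (K.lift_mem v)).2 (by
        rw [K.vec_lift, B_comm]; exact hperp _ ((hc hw).1 hwb))
    rw [← K.vec_lift v]
    exact (K.zero_iff (K.lift_mem v)).2 h
  · have hvs := (K.invol_iff H.extra.ne_one (K.lift_mem v)).2 (by rw [K.vec_lift]; exact hvq)
    have hws := (K.invol_iff H.extra.ne_one (K.lift_mem w)).2 (by rw [K.vec_lift]; exact hwq)
    refine hline _ (K.lift_mem v) _ (K.lift_mem w) (hl hv) (hl hw) hvs hws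
      ((K.comm_iff H.extra.ne_one (K.lift_mem v) (K.lift_mem w)).2 (by rw [K.vec_lift, K.vec_lift]; exact hB))
      ?_ ?_ ?_ <;> simp only [K.vec_lift] <;> assumption

end CfsgLib.CoOneType
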