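import Mathlib
import Cfsg.Agent.Lib.CoOneType.FiveLocal
import Cfsg.Agent.Lib.CoOneType.Upper
import Cfsg.Agent.Lib.CoOneType.Lower

/-!
An involution outside `Q` commuting with an element of order five is not conjugate to `z`.
-/

set_option autoImplicit false
set_option linter.style.longLine false
set_option linter.unusedSectionVars false
set_option maxHeartbeats 1000000
set_option synthInstance.maxSize 8000
set_option synthInstance.maxHeartbeats 1000000

namespace CfsgLib.CoOneType

open Subgroup Equiv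

theorem double_onto : ∀ x : X5,
    ((fun i => x ((swap 0 1 * swap 2 3 : Perm (Fin 5)) i)) + x = 0 ∨ (fun i => x ((swap 0 1 * swap 2 3 : Perm (Fin 5)) i)) + x = 1) →
    ∃ w : X5, (fun i => w ((swap 0 1 * swap 2 3 : Perm (Fin 5)) i)) + w + x = 0 ∨
      (fun i => w ((swap 0 1 * swap 2 3 : Perm (Fin 5)) i)) + w + x = 1 := by
  decide +kernel

theorem double_perm : swap 0 1 * swap 2 3 ≠ (1 : Perm (Fin 5)) ∧
    (swap 0 1 * swap 2 3 : Perm (Fin 5)) * (swap 0 1 * swap 2 3) = 1 ∧
    (swap 0 1 * swap 2 3 : Perm (Fin 5)).symm = swap 0 1 * swap 2 3 := by decide +kernel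

theorem four_only : ∀ i : Fin 5, i ≠ 4 → (4 : Fin 5) ≠ i := fun _ h => h.symm

theorem E_move_singular (u : W) (v : V) : qV 0 (E u v + v) = v.1.2 * qW 0 u := by
  rw [move_eq]
  rcases zcases v.1.2 with h | h <;> simp [qV, h, qW_zero]

variable {G : Type*} [Group G] [Finite G] {z : G} {Q : Subgroup G}

namespace Five

variable {K : Coord z Q 0} {b : G} {s t : Fin 5 → V} (F : Five K b s t)
include F

/-- An element acting as a double transposition on the fixed system and squaring into `⟨z⟩`. -/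
theorem exists_double : ∃ c ∈ F.dGroup, (∀ i, K.act c (s i) = s ((swap 0 1 * swap 2 3 : Perm (Fin 5)) i)) ∧
    (c * c = 1 ∨ c * c = z) := by
  have H := F.hyp
  set σ : Perm (Fin 5) := swap 0 1 * swap 2 3 with hσ
  obtain ⟨d, hd⟩ := F.exists_swaps (show (0 : Fin 5) ≠ 1 by decide) (show (2 : Fin 5) ≠ 3 by decide)
  have hd2 : (d : G) * d ∈ Q := by
    have : F.psi (d * d) = 1 := by rw [map_mul, hd, double_perm.2.1]
    simpa using F.psi_eq_one.1 this
  have hdz := d.2.1
  have hact : ∀ x, K.act (d : G) (io s x) = io s (fun i => x (σ i)) := fun x => by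
    rw [io_map (K.act_add H hdz)]
    simp only [F.psi_spec, hd]
    rw [io_perm, double_perm.2.2]
  obtain ⟨x, hx⟩ := (F.comm_b_iff' hd2).1 (Commute.mul_left d.2.2.1 d.2.2.1).eq
  have hfix : K.act (d : G) (io s x) = io s x := by
    rw [← hx, K.act_vec H hdz hd2, show (d : G) * ((d : G) * d) * (d : G)⁻¹ = d * d by group]
  rw [hact] at hfix
  have h0 : io s ((fun i => x (σ i)) + x) = 0 := by rw [io_add, hfix, addV]
  obtain ⟨w, hw⟩ := double_onto x (b5_const _ fun j => by rw [← F.sys.io_B, h0, B_zero_left])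
  set q := K.lift (io s w) with hq
  have hqQ : q ∈ Q := K.lift_mem _
  have hqD : q ∈ F.dGroup := F.fix_mem hqQ ((F.comm_b_iff' hqQ).2 ⟨w, K.vec_lift _⟩)
  refine ⟨q * d, mul_mem hqD d.2, fun i => ?_, ?_⟩
  · rw [K.act_mul H (H.extra.comm_z hqQ) hdz, K.act_mem H hqQ, F.psi_spec, hd]
  · have hm : (d : G) * q * (d : G)⁻¹ ∈ Q := H.norm _ hdz q hqQ
    have e : q * (d : G) * (q * d) = q * ((d : G) * q * (d : G)⁻¹) * (d * d) := by group
    rw [e]
    refine (K.zero_iff (mul_mem (mul_mem hqQ hm) hd2)).1 ?_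
    rw [K.mul (mul_mem hqQ hm) hd2, K.mul hqQ hm, ← K.act_vec H hdz hqQ, hq, K.vec_lift, hact, hx,
      ← io_add, ← io_add]
    rcases hw with e | e
    · rw [show w + (fun i => w (σ i)) + x = (fun i => w (σ i)) + w + x by abel, e, io_zero]
    · rw [show w + (fun i => w (σ i)) + x = (fun i => w (σ i)) + w + x by abel, e, F.sys.sum]

/-- An involution outside `Q` in `C(z) ∩ C(b)` which is not conjugate to `z`. -/
theorem exists_other : ∃ c ∈ F.dGroup, c * c = 1 ∧ c ∉ Q ∧ ¬ IsConj z c := by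
  have H := F.hyp
  have S := F.sys
  obtain ⟨c, hcD, hcs, hc2⟩ := F.exists_double
  obtain ⟨hcz, hcb, hct⟩ := hcD
  -- the action
  set a1 := s 0 + s 1
  set a2 := s 2 + s 3
  have ha12 : a1 + a2 = s 4 := by
    have h := S.sum
    simp only [io, Pi.one_apply, one_smul, Fin.sum_univ_five] at h
    refine eqV ?_
    simp only [a1, a2, ← add_assoc]
    exact h
  have hca : ∀ v, K.act c v = refl a1 (refl a2 v) := F.ext (K.act_add H hcz)
    (fun v w => by rw [refl_add, refl_add])
    (fun i => by rw [hcs, F.refl_swap 2 3 (by decide), F.refl_swap 0 1 (by decide)]; rfl)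
    (fun i => by rw [hct, F.refl_t, F.refl_t])
  have ha4 : K.act c (s 4) = s 4 := by
    rw [hcs]; rfl
  have hperp : ∀ v, B v (s 4) = 0 → K.act c v = v ∨ K.act c v = v + s 4 := by
    intro v hv
    have h12 : B (a2 : V) a1 = 0 := by
      simp only [a1, a2, B_add_left, B_add_right]
      rw [S.pair 2 0 (by decide), S.pair 2 1 (by decide), S.pair 3 0 (by decide), S.pair 3 1 (by decide)]
      rfl
    have heq : B v a1 = B v a2 := by
      rw [← ha12, B_add_right] at hv
      exact eq_of_add _ _ hv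
    rw [hca]
    simp only [refl, B_add_left, B_smul_left, h12, mul_zero, add_zero, heq]
    rcases zcases (B v a2) with h | h <;> rw [h]
    · left; simp
    · right; rw [one_smul, one_smul, add_assoc, add_comm a2, ha12]
  -- move the point to the base
  obtain ⟨K0, g0, Sb⟩ := K.exists_base H
  obtain ⟨e, he, hea⟩ := K.transitive H (w := x0) (S.ne_zero 4) (S.q 4) (by decide) (by decide)
  set c' := e * c * e⁻¹ with hc'
  have hc'z : c' * z = z * c' := conj_comm_z he hcz
  have hc'x : K.act c' x0 = x0 := by rw [← hea, K.act_conj_apply H he hcz, ha4]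
  have hc'res : ∀ w, K.res c' w = w := by
    intro w
    obtain ⟨v, hv⟩ := (Finite.injective_iff_surjective.1 (K.act_injective H he)) (inj w)
    show (K.act c' (inj w)).2 = w
    rw [← hv, K.act_conj_apply H he hcz]
    rcases hperp v (by rw [← K.act_B H he v (s 4), hv, hea, B_x0]; rfl) with h | h <;> rw [h]
    · rw [hv]; rfl
    · rw [K.act_add H he, hv, hea]; simp [inj, x0]
  -- a moved vector is not singular
  have hmove : qV 0 (K.act c' (K.act e (s 0)) + K.act e (s 0)) = 1 := by
    rw [K.act_conj_apply H he hcz, ← K.act_add H he, K.act_q H he, hcs]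
    show qV 0 (s ((swap 0 1 * swap 2 3 : Perm (Fin 5)) 0) + s 0) = 1
    exact F.pair_q (by decide)
  obtain ⟨r, hr, q, hq, hrq⟩ := Sb.decompose hc'z hc'x hc'res
  have hact : ∀ v, K.act c' v = E (Sb.ur r) v := fun v => by
    rw [hrq, K.act_mul H (Sb.R_z hr) (H.extra.comm_z hq), K.act_mem H hq, Sb.act_R hr]
  have hu : qW 0 (Sb.ur r) = 1 := by
    rw [hact, E_move_singular] at hmove
    rcases zcases (qW 0 (Sb.ur r)) with h | h
    · rw [h, mul_zero] at hmove; exact absurd hmove (by decide)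
    · exact h
  have hu0 : Sb.ur r ≠ 0 := fun h => by rw [h, qW_zero] at hu; exact absurd hu (by decide)
  have hc'2 : c' * c' = 1 ∨ c' * c' = z := by
    rw [hc', show e * c * e⁻¹ * (e * c * e⁻¹) = e * (c * c) * e⁻¹ by group]
    rcases hc2 with h | h <;> rw [h]
    · left; group
    · right; rw [he, mul_inv_cancel_right]
  -- `q` centralises the base element
  have hqx : q * K0 = K0 * q := by
    refine (Sb.comm_x_iff hq).2 ((zcases _).resolve_right fun hb => hu0 ?_)
    have hz2 : K.vec (c' * c') = 0 := by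
      rcases hc'2 with h | h <;> rw [h]
      exacts [K.vec_one, K.vec_z H]
    have hrr : r * r ∈ Q := by rw [Sb.sq_R hr]; exact Sb.el_mem _ _
    rw [hrq, show r * q * (r * q) = r * q * r⁻¹ * (r * r) * q by group,
      K.mul (mul_mem (H.norm r (Sb.R_z hr) q hq) hrr) hq, K.mul (H.norm r (Sb.R_z hr) q hq) hrr,
      ← K.act_vec H (Sb.R_z hr) hq, Sb.act_R hr, Sb.sq_R hr, Sb.vec_el] at hz2
    have h2 := congrArg (fun v : V => v.2) hz2
    simp only [Prod.snd_add, Prod.snd_zero, tail_E, hb, one_smul, add_zero] at h2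
    rw [show (K.vec q).2 + Sb.ur r + (K.vec q).2 = Sb.ur r + ((K.vec q).2 + (K.vec q).2) by abel, addW, add_zero] at h2
    exact h2
  have hsq := Sb.sq_rq hr hq hqx
  rw [← hrq, hu] at hsq
  have hβ : BW (Sb.ur r) (K.vec q).2 = 1 := by
    have hel : ∃ i, c' * c' = Sb.el i 0 := by
      rcases hc'2 with h | h
      · exact ⟨0, by rw [h, Sb.el_zero]⟩
      · exact ⟨1, by rw [h]; simp [Base.el]⟩
    obtain ⟨i, hi⟩ := hel
    rw [hi] at hsq
    exact eq_of_add _ _ (Sb.el_inj hsq).2.symm
  -- `q` corresponds to a vector of the fixed system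
  have hei : e⁻¹ * z = z * e⁻¹ := (Commute.inv_left he).eq
  have hq1 : e⁻¹ * q * e ∈ Q := by
    have := H.norm e⁻¹ hei q hq
    rwa [inv_inv] at this
  have hperpq : ∀ j, B (K.vec (e⁻¹ * q * e)) (t j) = 0 := by
    intro j
    set y := K.lift (t j) with hy
    have hyQ : y ∈ Q := K.lift_mem _
    have hyc : c * y = y * c := F.comm_moved ⟨hcz, hcb, hct⟩ hyQ (x := Pi.single j 1) (by
      rw [hy, K.vec_lift, io_single])
    set y' := e * y * e⁻¹ with hy'
    have hy'Q : y' ∈ Q := H.norm e he y hyQ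
    have hy'x : y' * K0 = K0 * y' := by
      refine (Sb.comm_x_iff hy'Q).2 ?_
      rw [hy', ← K.act_vec H he hyQ, hy, K.vec_lift, ← B_x0, ← hea, K.act_B H he, B_comm, F.cross]
    have hc'y : c' * y' = y' * c' := by
      calc c' * y' = e * (c * y) * e⁻¹ := by rw [hc', hy']; group
        _ = y' * c' := by rw [hyc, hc', hy']; group
    have hfy : K.act r (K.vec y') = K.vec y' := by
      rw [Sb.act_R hr, ← hact, K.act_vec H hc'z hy'Q, hc'y, mul_inv_cancel_right]
    have hβy : BW (Sb.ur r) (K.vec y').2 = 0 := by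
      rw [Sb.act_R hr] at hfy
      have h1 := congrArg (fun v : V => v.1.1) hfy
      simp only [E, (Sb.comm_x_iff hy'Q).1 hy'x, zero_mul, add_zero] at h1
      exact add_eq_left.1 h1
    have hry : r * y' = y' * r := by
      have h := Sb.comm_R hr hy'Q hy'x
      rw [hβy, Sb.el_zero] at h
      exact mul_inv_eq_iff_eq_mul.1 (mul_inv_eq_one.1 h)
    have hqy : q * y' = y' * q := by
      refine mul_left_cancel (a := r) ?_
      rw [← mul_assoc, ← hrq, hc'y, hrq, ← mul_assoc, ← hry, mul_assoc]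
    have hy1 : e⁻¹ * y' * e = y := by rw [hy']; group
    have := (K.comm_iff H.extra.ne_one hq1 hyQ).1 (by
      rw [← hy1, show e⁻¹ * q * e * (e⁻¹ * y' * e) = e⁻¹ * (q * y') * e by group, hqy]; group)
    rwa [hy, K.vec_lift] at this
  obtain ⟨x, hx⟩ := F.perp_t hperpq
  have hevq : K.act e (K.vec (e⁻¹ * q * e)) = K.vec q := by
    rw [K.act_vec H he hq1]; congr 1; group
  have hq12 : (K.vec q).1.2 = 0 := (Sb.comm_x_iff hq).1 hqx
  have hqw : qW 0 (K.vec q).2 = 1 := by
    by_contra hne
    have h0 : qV 0 (io s x) = 0 := by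
      rw [← hx, ← K.act_q H he, hevq, qV, hq12, (zcases _).resolve_right hne, mul_zero, add_zero]
    have hB4 : B (io s x) (s 4) = 0 := by
      rw [← hx, ← K.act_B H he, hevq, hea, B_x0, hq12]
    have htail : (K.vec q).2 = 0 := by
      rcases F.sys.singular h0 with h | ⟨i, h⟩
      · rw [← hevq, hx, h, K.act_zero H he]; rfl
      · by_cases hi : i = 4
        · rw [← hevq, hx, h, hi, hea]; rfl
        · rw [h, S.pair i 4 hi] at hB4
          exact absurd hB4 one_ne_zero
    rw [htail, BW_zero_right] at hβ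
    exact zero_ne_one hβ
  have hone : c' * c' = 1 := by
    rw [hsq, hβ, hqw, show (1 : ZMod 2) + 1 = 0 from rfl, Sb.el_zero]
  have hc2' : c * c = 1 := by
    rw [hc', show e * c * e⁻¹ * (e * c * e⁻¹) = e * (c * c) * e⁻¹ by group, conj_eq_one_iff] at hone
    exact hone
  have hcQ : c ∉ Q := fun h => by
    have h0 := hcs 0
    rw [K.act_mem H h] at h0
    exact absurd (S.inj h0) (by decide)
  refine ⟨c, ⟨hcz, hcb, hct⟩, hc2', hcQ, fun hconj => ?_⟩
  -- the possible types
  rcases Sb.trivial_case hc'z hone hc'x hc'res with hQ | ⟨p, hp, hR⟩ | ⟨p, hp, hA | hB⟩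
  · rw [K.act_mem H hQ, addV, qV_zero] at hmove
    exact absurd hmove (by decide)
  all_goals
    have hpc : ∀ v, qV 0 (K.act (p * c' * p⁻¹) (K.act p v) + K.act p v) = qV 0 (K.act c' v + v) := fun v => by
      rw [K.act_conj_apply H hp hc'z, ← K.act_add H hp, K.act_q H hp]
  · have hsing := Sb.S0_singular (Sb.mem_S0.2 ⟨_, hR, rfl, conj_sq_one hone⟩)
    rw [← hpc, Sb.act_R hR, E_move_singular, hsing, mul_zero] at hmove
    exact absurd hmove (by decide)
  · rw [← hpc, Sb.typ_act hA, E_move_singular, base_line.1, mul_zero] at hmove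
    exact absurd hmove (by decide)
  · refine Sb.typB_not_conj hB (hconj.trans ((isConj_iff.2 ⟨e, rfl⟩ : IsConj c c').trans (isConj_iff.2 ⟨p, rfl⟩)))

end Five

end CfsgLib.CoOneType
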