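import Mathlib
import Cfsg.Agent.Lib.CoOneType.FiveClasses
import Cfsg.Agent.Lib.HJType.Global

/-!
The centralizer of `b` modulo `⟨b⟩` is of Hall–Janko type.
-/

set_option autoImplicit false
set_option linter.style.longLine false
set_option linter.unusedSectionVars false
set_option maxHeartbeats 1000000
set_option synthInstance.maxSize 8000
set_option synthInstance.maxHeartbeats 1000000

namespace CfsgLib.CoOneType

open Subgroup

theorem nsmul_zero_five : ∀ r : Fin 5, (r : ℕ) • (1 : Fin 5) = 0 → r = 0 := by decide +kernel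

theorem nsmul_self_five : ∀ r : Fin 5, (r : ℕ) • (1 : Fin 5) = r := by decide +kernel

section Gen

variable {G : Type*} [Group G]

/-- The centralizer of an element. -/
abbrev Hb (b : G) : Subgroup G := centralizer ({b} : Set G)

/-- The cyclic subgroup inside its centralizer. -/
abbrev Zb (b : G) : Subgroup ↥(Hb b) := (zpowers b).subgroupOf (Hb b)

theorem Zb_central {b : G} (x : ↥(Hb b)) {w : ↥(Hb b)} (hw : w ∈ Zb b) : x * w = w * x := by
  obtain ⟨i, hi⟩ := mem_zpowers_iff.1 hw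
  refine Subtype.ext ?_
  show (x : G) * w = w * x
  rw [show (w : G) = b ^ i from hi.symm]
  exact ((show Commute (x : G) b from mem_centralizer_singleton_iff.1 x.2).zpow_right i).eq

instance Zb_normal (b : G) : (Zb b).Normal :=
  ⟨fun w hw x => by rwa [Zb_central x hw, mul_inv_cancel_right]⟩

/-- The projection. -/
abbrev pib (b : G) : ↥(Hb b) →* ↥(Hb b) ⧸ Zb b := QuotientGroup.mk' (Zb b)

theorem pib_eq_one {b : G} {x : ↥(Hb b)} : pib b x = 1 ↔ (x : G) ∈ zpowers b := QuotientGroup.eq_one_iff x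

theorem pib_eq {b : G} {x y : ↥(Hb b)} (h : pib b x = pib b y) : (x : G)⁻¹ * y ∈ zpowers b :=
  pib_eq_one.1 (show pib b (x⁻¹ * y) = 1 by rw [map_mul, map_inv, h, inv_mul_cancel])

end Gen

variable {G : Type*} [Group G] [Finite G] {z : G} {Q : Subgroup G}

namespace Five

variable {K : Coord z Q 0} {b : G} {s t : Fin 5 → V} (F : Five K b s t)
include F

theorem b5pow : b ^ 5 = 1 := F.ord ▸ pow_orderOf_eq_one b

theorem zH : z ∈ Hb b := mem_centralizer_singleton_iff.2 F.bz.symm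

theorem dH {d : G} (hd : d ∈ F.dGroup) : d ∈ Hb b := mem_centralizer_singleton_iff.2 hd.2.1

theorem shift_pow (n : ℕ) (i : Fin 5) : K.act (b ^ n) (t i) = t (i + n • (1 : Fin 5)) := by
  induction n generalizing i with
  | zero => rw [pow_zero, K.act_one F.hyp, zero_smul, add_zero]
  | succ n ih =>
    rw [pow_succ', K.act_mul F.hyp F.bz ((show Commute b z from F.bz).pow_left n).eq, ih, F.shift, succ_nsmul,
      add_assoc]

/-- A power of `b` fixing the moved system is trivial. -/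
theorem dGroup_zpowers {x : G} (hx : x ∈ F.dGroup) (hxb : x ∈ zpowers b) : x = 1 := by
  rw [← mem_powers_iff_mem_zpowers] at hxb
  obtain ⟨n, rfl⟩ := hxb
  show b ^ n = 1
  rw [← pow_mod_orderOf, F.ord]
  have h : K.act (b ^ (n % 5)) (t 0) = t 0 := by
    have e := pow_mod_orderOf b n
    rw [F.ord] at e
    rw [e]; exact hx.2.2 0
  rw [F.shift_pow, zero_add] at h
  have h0 := congrArg Fin.val (nsmul_zero_five ⟨n % 5, Nat.mod_lt _ (by norm_num)⟩ (F.tys.inj h))
  rw [show n % 5 = 0 from h0, pow_zero]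

/-- An element of `C(z) ∩ C(b)` is a product from the two parts. -/
theorem exists_split {c : G} (hc : c * z = z * c) (hcb : c * b = b * c) :
    ∃ k : ℕ, (b ^ k)⁻¹ * c ∈ F.dGroup := by
  have H := F.hyp
  choose f hf using F.exists_image hc hcb
  have hsurj : Function.Surjective f := Finite.injective_iff_surjective.1 fun i j h =>
    F.sys.inj (K.act_injective H hc (by rw [hf, hf, h]))
  obtain ⟨y, hy⟩ := F.perp_s (v := K.act c (t 0)) fun j => by
    obtain ⟨i, rfl⟩ := hsurj j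
    rw [← hf, K.act_B H hc, B_comm, F.cross]
  obtain ⟨j, hj⟩ : ∃ j, K.act c (t 0) = t j := by
    have hq : qV 0 (io t y) = 0 := by rw [← hy, K.act_q H hc, F.tys.q]
    rcases F.tys.singular hq with e | ⟨j, e⟩
    · exact absurd (K.act_injective H hc ((hy.trans e).trans (K.act_zero H hc).symm)) (F.tys.ne_zero 0)
    · exact ⟨j, hy.trans e⟩
  have hall : ∀ n : ℕ, K.act c (t (n • (1 : Fin 5))) = t (j + n • (1 : Fin 5)) := fun n => by
    have hbn : b ^ n * z = z * b ^ n := ((show Commute b z from F.bz).pow_left n).eq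
    have h1 := F.shift_pow n 0
    rw [zero_add] at h1
    rw [← h1, ← K.act_mul H hc hbn, ((show Commute c b from hcb).pow_right n).eq, K.act_mul H hbn hc, hj,
      F.shift_pow]
  have hkz : (b ^ (j : ℕ))⁻¹ * z = z * (b ^ (j : ℕ))⁻¹ :=
    ((show Commute b z from F.bz).pow_left _).inv_left.eq
  refine ⟨j, (Commute.mul_left hkz hc).eq,
    (((Commute.refl b).pow_left _).inv_left.mul_left (show Commute c b from hcb)).eq, fun i => ?_⟩
  have e := hall i
  rw [nsmul_self_five i] at e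
  rw [K.act_mul H hkz hc, e]
  have h2 : K.act (b ^ (j : ℕ)) (t i) = t (j + i) := by rw [F.shift_pow, nsmul_self_five, add_comm]
  rw [← h2]
  exact K.act_inv_cancel H ((show Commute b z from F.bz).pow_left _).eq _

theorem invol_eq {u v : ↥(Hb b)} (hu : (u : G) * u = 1) (hv : (v : G) * v = 1) (h : pib b u = pib b v) :
    (u : G) = v := by
  set a := (u : G)⁻¹ * v with had
  have ha : a ∈ zpowers b := pib_eq h
  obtain ⟨i, hi⟩ := mem_zpowers_iff.1 ha
  have hau : Commute (u : G) a := hi ▸ (show Commute (u : G) b from mem_centralizer_singleton_iff.1 u.2).zpow_right i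
  have h2 : a ^ 2 = 1 := by
    have e : (v : G) = u * a := by rw [had, mul_inv_cancel_left]
    rw [e, ← pow_two, hau.mul_pow, pow_two (u : G), hu, one_mul] at hv
    exact hv
  have h5 : a ^ 5 = 1 := by
    rw [← hi, ← zpow_natCast, ← zpow_mul, mul_comm, zpow_mul, zpow_natCast, F.b5pow, one_zpow]
  have h1 : a = 1 := by
    rw [← orderOf_eq_one_iff]
    exact Nat.dvd_one.1 (Nat.dvd_gcd (orderOf_dvd_of_pow_eq_one h2) (orderOf_dvd_of_pow_eq_one h5))
  exact inv_mul_eq_one.1 h1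

theorem zz : z * z = 1 := F.hyp.extra.sq_one

/-- The image of `z`. -/
abbrev zbar (F : Five K b s t) : ↥(Hb b) ⧸ Zb b := pib b ⟨z, F.zH⟩

/-- The image of the part fixing the moved system. -/
theorem bar_comm {d : G} (hd : d ∈ F.dGroup) : pib b ⟨d, F.dH hd⟩ ∈ centralizer ({F.zbar} : Set (↥(Hb b) ⧸ Zb b)) :=
  mem_centralizer_singleton_iff.2 (by
    rw [zbar, ← map_mul, ← map_mul]
    exact congrArg (pib b) (Subtype.ext hd.1))

/-- The map from the part fixing the moved system. -/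
noncomputable def toBar (F : Five K b s t) :
    ↥F.dGroup →* ↥(centralizer ({F.zbar} : Set (↥(Hb b) ⧸ Zb b))) :=
  MonoidHom.mk' (fun d => ⟨pib b ⟨d, F.dH d.2⟩, F.bar_comm d.2⟩) fun a c => Subtype.ext
    (map_mul (pib b) ⟨(a : G), F.dH a.2⟩ ⟨(c : G), F.dH c.2⟩)

theorem bar_inj {d e : G} (hd : d ∈ F.dGroup) (he : e ∈ F.dGroup)
    (h : pib b ⟨d, F.dH hd⟩ = pib b ⟨e, F.dH he⟩) : d = e :=
  inv_mul_eq_one.1 (F.dGroup_zpowers (mul_mem (inv_mem hd) he) (pib_eq h))

theorem toBar_bijective : Function.Bijective F.toBar := by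
  constructor
  · intro a c h
    exact Subtype.ext (F.bar_inj a.2 c.2 (congrArg Subtype.val h))
  · rintro ⟨y, hy⟩
    obtain ⟨c, rfl⟩ := QuotientGroup.mk'_surjective (Zb b) y
    have hcb : (c : G) * b = b * c := mem_centralizer_singleton_iff.1 c.2
    have hy' := mem_centralizer_singleton_iff.1 hy
    rw [zbar, ← map_mul, ← map_mul] at hy'
    have hcz : (c : G) * z * (c : G)⁻¹ = z := by
      refine F.invol_eq (u := c * ⟨z, F.zH⟩ * c⁻¹) (v := ⟨z, F.zH⟩) ?_ F.zz ?_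
      · show (c : G) * z * (c : G)⁻¹ * ((c : G) * z * (c : G)⁻¹) = 1
        rw [show (c : G) * z * (c : G)⁻¹ * ((c : G) * z * (c : G)⁻¹) = c * (z * z) * (c : G)⁻¹ by group, F.zz]
        group
      · rw [map_mul, hy', map_mul, map_inv, mul_inv_cancel_right]
    obtain ⟨k, hk⟩ := F.exists_split (mul_inv_eq_iff_eq_mul.1 hcz) hcb
    refine ⟨⟨_, hk⟩, Subtype.ext (QuotientGroup.eq.2 ?_)⟩
    show ((b ^ k)⁻¹ * (c : G))⁻¹ * c ∈ zpowers b
    rw [show ((b ^ k)⁻¹ * (c : G))⁻¹ * c = (c : G)⁻¹ * (b ^ k * c) by group,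
      ← ((show Commute (c : G) b from hcb).pow_right k).eq, inv_mul_cancel_left]
    exact pow_mem (mem_zpowers b) k

/-- The isomorphism with the centralizer of the image of `z`. -/
noncomputable def barEquiv (F : Five K b s t) :
    ↥F.dGroup ≃* ↥(centralizer ({F.zbar} : Set (↥(Hb b) ⧸ Zb b))) :=
  MulEquiv.ofBijective F.toBar F.toBar_bijective

theorem barEquiv_coe (d : ↥F.dGroup) : ((F.barEquiv d : ↥(centralizer ({F.zbar} : Set (↥(Hb b) ⧸ Zb b)))) :
    ↥(Hb b) ⧸ Zb b) = pib b ⟨d, F.dH d.2⟩ := rfl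

/-- The image of `C_Q(b)`. -/
noncomputable def barQ (F : Five K b s t) : Subgroup (↥(Hb b) ⧸ Zb b) :=
  (Q.subgroupOf (Hb b)).map (pib b)

theorem fix_dGroup {q : ↥(Hb b)} (hq : (q : G) ∈ Q) : (q : G) ∈ F.dGroup :=
  F.fix_mem hq (mem_centralizer_singleton_iff.1 q.2)

theorem mem_barQ {d : G} (hd : d ∈ F.dGroup) : pib b ⟨d, F.dH hd⟩ ∈ F.barQ ↔ d ∈ Q := by
  refine ⟨?_, fun h => ⟨⟨d, F.dH hd⟩, h, rfl⟩⟩
  rintro ⟨q, hq, e⟩
  exact F.bar_inj (F.fix_dGroup hq) hd e ▸ hq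

theorem cen_fix {y : G} (hy : y ∈ Q) (hyb : y * b = b * y)
    (hc : ∀ w ∈ Q, w * b = b * w → w * y = y * w) : y = 1 ∨ y = z := by
  have H := F.hyp
  obtain ⟨x, hx⟩ := (F.comm_b_iff' hy).1 hyb
  refine (K.zero_iff hy).1 ?_
  have hz : ∀ j, B (io s x) (s j) = 0 := fun j => by
    have hw : K.lift (s j) ∈ Q := K.lift_mem _
    have h := (K.comm_iff H.extra.ne_one hw hy).1
      (hc _ hw ((F.comm_b_iff' hw).2 ⟨Pi.single j 1, by rw [K.vec_lift, io_single]⟩))
    rwa [K.vec_lift, hx, B_comm] at h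
  rw [hx]
  rcases b5_const x (fun j => by rw [← F.sys.io_B]; exact hz j) with rfl | rfl
  exacts [io_zero s, F.sys.sum]

/-- `C(b)/⟨b⟩` is of Hall–Janko type. -/
theorem exists_quot_setting
    (hconj : ∀ r ∈ Q, r * r = 1 → r ≠ 1 → r ≠ z → r * b = b * r → ∃ h, h * b = b * h ∧ h * z * h⁻¹ = r) :
    Nonempty (HJType.Setting F.zbar F.barQ) := by
  have H := F.hyp
  have hzz := F.zz
  have hzD : z ∈ F.dGroup := F.fix_mem H.extra.z_mem F.bz.symm
  have hzne : F.zbar ≠ 1 := fun e => H.extra.ne_one (F.dGroup_zpowers hzD (pib_eq_one.1 e))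
  have hinj : ∀ {x y : ↥(Hb b)}, (x : G) ∈ F.dGroup → (y : G) ∈ F.dGroup → pib b x = pib b y → x = y :=
    fun {x y} hx hy e => Subtype.ext (F.bar_inj hx hy e)
  have hQC : F.barQ ≤ centralizer ({F.zbar} : Set (↥(Hb b) ⧸ Zb b)) := by
    rintro _ ⟨q, hq, rfl⟩
    exact F.bar_comm (F.fix_dGroup hq)
  let zH' : ↥(Hb b) := ⟨z, F.zH⟩
  refine ⟨{
    hz := ?_
    hQC := hQC
    norm := ?_
    card := ?_
    hzQ := ⟨zH', H.extra.z_mem, rfl⟩
    sq := ?_
    com := ?_
    cen := ?_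
    self := ?_
    φ := F.psiA.comp F.barEquiv.symm.toMonoidHom
    surj := F.psiA_surjective.comp F.barEquiv.symm.surjective
    ker := ?_
    moved := ?_
    two := ?_ }⟩
  · refine orderOf_eq_prime ?_ hzne
    rw [pow_two, zbar, ← map_mul, ← map_one (pib b)]
    exact congrArg (pib b) (Subtype.ext hzz)
  · intro c hc y hy
    obtain ⟨d, hd⟩ := F.barEquiv.surjective ⟨c, hc⟩
    have hce : pib b ⟨(d : G), F.dH d.2⟩ = c := congrArg Subtype.val hd
    obtain ⟨q, hq, rfl⟩ := hy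
    rw [← hce, ← map_inv, ← map_mul, ← map_mul]
    exact ⟨_, H.norm (d : G) d.2.1 _ hq, rfl⟩
  · rw [barQ, ← F.card_fix]
    refine Nat.card_congr (Equiv.ofBijective (fun y : {y : G // y ∈ Q ∧ y * b = b * y} =>
      (⟨pib b ⟨y.1, mem_centralizer_singleton_iff.2 y.2.2⟩, ⟨_, y.2.1, rfl⟩⟩ : ↥((Q.subgroupOf (Hb b)).map (pib b))))
      ⟨fun u v e => Subtype.ext (F.bar_inj (F.fix_mem u.2.1 u.2.2) (F.fix_mem v.2.1 v.2.2)
        (congrArg Subtype.val e)), ?_⟩).symm
    rintro ⟨_, q, hq, rfl⟩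
    exact ⟨⟨q, hq, mem_centralizer_singleton_iff.1 q.2⟩, rfl⟩
  · rintro _ ⟨q, hq, rfl⟩
    rcases H.extra.sq_cases (show (q : G) ∈ Q from hq) with e | e
    · left; rw [← map_mul, ← map_one (pib b)]; exact congrArg (pib b) (Subtype.ext e)
    · right; rw [zbar, ← map_mul]; exact congrArg (pib b) (Subtype.ext e)
  · rintro _ ⟨x, hx, rfl⟩ _ ⟨y, hy, rfl⟩
    rcases H.extra.conj_cases (show (y : G) ∈ Q from hy) (show (x : G) ∈ Q from hx) with e | e
    · left; rw [← map_mul, ← map_mul]; exact congrArg (pib b) (Subtype.ext (mul_inv_eq_iff_eq_mul.1 e))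
    · right
      rw [zbar, ← map_mul, ← map_mul, ← map_mul]
      refine congrArg (pib b) (Subtype.ext ?_)
      show (y : G) * x = z * ((x : G) * y)
      rw [← mul_assoc, ← mul_inv_eq_iff_eq_mul]
      exact e
  · rintro _ ⟨d, hd, rfl⟩ hc
    rcases F.cen_fix hd (mem_centralizer_singleton_iff.1 d.2) fun w hw hwb => by
      have h := hc _ ⟨⟨w, mem_centralizer_singleton_iff.2 hwb⟩, hw, rfl⟩
      rw [← map_mul, ← map_mul] at h
      exact congrArg Subtype.val (hinj (mul_mem (F.fix_mem hw hwb) (F.fix_dGroup hd))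
        (mul_mem (F.fix_dGroup hd) (F.fix_mem hw hwb)) h) with e | e
    · left; rw [show d = 1 from Subtype.ext e, map_one]
    · right; exact congrArg (pib b) (Subtype.ext e)
  · intro g hg h
    obtain ⟨d, hd⟩ := F.barEquiv.surjective ⟨g, hg⟩
    have hge : pib b ⟨(d : G), F.dH d.2⟩ = g := congrArg Subtype.val hd
    rw [← hge, F.mem_barQ d.2]
    refine F.psi_eq_one.1 (F.psi_eq fun i => ?_)
    set q := K.lift (s i) with hq
    have hqQ : q ∈ Q := K.lift_mem _
    have hqb : q * b = b * q := (F.comm_b_iff' hqQ).2 ⟨Pi.single i 1, by rw [hq, K.vec_lift, io_single]⟩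
    have h' := h _ ⟨⟨q, mem_centralizer_singleton_iff.2 hqb⟩, hqQ, rfl⟩
    rw [← hge, ← map_mul, ← map_mul] at h'
    have hcomm : q * (d : G) = d * q := congrArg Subtype.val
      (hinj (mul_mem (F.fix_mem hqQ hqb) d.2) (mul_mem d.2 (F.fix_mem hqQ hqb)) h')
    rw [Equiv.Perm.one_apply, ← K.vec_lift (s i), ← hq, K.act_vec H d.2.1 hqQ, ← hcomm, mul_inv_cancel_right]
  · intro c
    obtain ⟨d, rfl⟩ := F.barEquiv.surjective c
    rw [MonoidHom.comp_apply, MulEquiv.coe_toMonoidHom, MulEquiv.symm_apply_apply, F.psiA_eq_one]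
    exact (F.mem_barQ d.2).symm
  · set r := K.lift (s 0) with hr
    have hrQ : r ∈ Q := K.lift_mem _
    have hrb : r * b = b * r := (F.comm_b_iff' hrQ).2 ⟨Pi.single 0 1, by rw [hr, K.vec_lift, io_single]⟩
    have hr2 : r * r = 1 := (K.invol_iff H.extra.ne_one hrQ).2 (by rw [hr, K.vec_lift]; exact F.sys.q 0)
    have hr0 : K.vec r ≠ 0 := by rw [hr, K.vec_lift]; exact F.sys.ne_zero 0
    have hr1 : r ≠ 1 := fun e => hr0 ((K.zero_iff hrQ).2 (Or.inl e))
    have hrz : r ≠ z := fun e => hr0 ((K.zero_iff hrQ).2 (Or.inr e))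
    obtain ⟨h, hhb, hhr⟩ := hconj r hrQ hr2 hr1 hrz hrb
    let hH : ↥(Hb b) := ⟨h, mem_centralizer_singleton_iff.2 hhb⟩
    have he : pib b hH * F.zbar * (pib b hH)⁻¹ = pib b ⟨r, F.dH (F.fix_mem hrQ hrb)⟩ := by
      rw [zbar, ← map_inv, ← map_mul, ← map_mul]
      exact congrArg (pib b) (Subtype.ext hhr)
    refine ⟨pib b hH, ?_⟩
    rw [he]
    refine ⟨(F.mem_barQ (F.fix_mem hrQ hrb)).2 hrQ, ?_, fun e => ?_, fun e => ?_⟩
    · rw [← map_mul, ← map_one (pib b)]; exact congrArg (pib b) (Subtype.ext hr2)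
    · exact hr1 (F.dGroup_zpowers (F.fix_mem hrQ hrb) (pib_eq_one.1 e))
    · exact hrz (F.bar_inj (F.fix_mem hrQ hrb) hzD e)
  · obtain ⟨c, hc, hc2, hcQ, hcz⟩ := F.exists_other
    have hc1 : c ≠ 1 := fun e => hcQ (e ▸ one_mem Q)
    refine ⟨F.zbar, pib b ⟨c, F.dH hc⟩, orderOf_eq_prime ?_ hzne, orderOf_eq_prime ?_ ?_, fun h => ?_⟩
    · rw [pow_two, zbar, ← map_mul, ← map_one (pib b)]; exact congrArg (pib b) (Subtype.ext hzz)
    · rw [pow_two, ← map_mul, ← map_one (pib b)]; exact congrArg (pib b) (Subtype.ext hc2)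
    · exact fun e => hc1 (F.dGroup_zpowers hc (pib_eq_one.1 e))
    · obtain ⟨g, hg⟩ := isConj_iff.1 h
      obtain ⟨g0, rfl⟩ := QuotientGroup.mk'_surjective (Zb b) g
      rw [zbar, ← map_inv, ← map_mul, ← map_mul] at hg
      refine hcz (isConj_iff.2 ⟨g0, F.invol_eq (u := g0 * ⟨z, F.zH⟩ * g0⁻¹) ?_ hc2 hg⟩)
      show (g0 : G) * z * (g0 : G)⁻¹ * ((g0 : G) * z * (g0 : G)⁻¹) = 1
      rw [show (g0 : G) * z * (g0 : G)⁻¹ * ((g0 : G) * z * (g0 : G)⁻¹) = g0 * (z * z) * (g0 : G)⁻¹ by group, hzz]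
      group

end Five

end CfsgLib.CoOneType
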