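import Mathlib
import Cfsg.Agent.Lib.CoOneType.FiveQuot
import Cfsg.Agent.Lib.HJType.LocalPair
import Cfsg.Agent.Lib.HJType.UniqueModel
import Cfsg.Agent.Lib.Icosian.Model
import Cfsg.Agent.Lib.Schur.Basic
import Cfsg.Agent.Lib.Components.Basic

/-!
The layer of the centralizer of `b` and the centralizer of that layer.
-/

set_option autoImplicit false
set_option linter.style.longLine false
set_option linter.unusedSectionVars false
set_option maxHeartbeats 1000000
set_option synthInstance.maxSize 8000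
set_option synthInstance.maxHeartbeats 1000000

namespace CfsgLib.CoOneType

open Subgroup
open scoped commutatorElement

variable {G : Type*} [Group G] [Finite G] {z : G} {Q : Subgroup G}

namespace Five

variable {K : Coord z Q 0} {b b' : G} {s t : Fin 5 → V} (F : Five K b s t) (F' : Five K b' t s)
include F F'

/-- Membership of the partner. -/
theorem partner_mem (hb' : b' ∈ F.dGroup) : b ∈ F'.dGroup :=
  ⟨F.bz, hb'.2.1.symm, F.fix⟩

/-- The element of order five inverted by `z` and commuting with both. -/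
theorem exists_f (hb' : b' ∈ F.dGroup) (S : HJType.Setting F.zbar F.barQ) :
    ∃ f : G, orderOf f = 5 ∧ z * f * z = f⁻¹ ∧ f * b = b * f ∧ f * b' = b' * f ∧
      (∃ x, x * b = b * x ∧ x * b' = b' * x ∧ f = z * x * z⁻¹ * x⁻¹) ∧
      ¬ b ∈ (_root_.commutator ↥(Hb b)).map (Hb b).subtype := by
  classical
  have h5f : Fact (Nat.Prime 5) := ⟨Nat.prime_five⟩
  have H := F.hyp
  have hb'b : b' * b = b * b' := hb'.2.1
  let Bp : ↥(Hb b) := ⟨b', F.dH hb'⟩
  let Zp : ↥(Hb b) := ⟨z, F.zH⟩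
  set sb := pib b Bp with hsb
  have hb'5 : b' ^ 5 = 1 := F'.b5pow
  have hsb1 : sb ≠ 1 := fun e => by
    have h := F.dGroup_zpowers hb' (pib_eq_one.1 e)
    have := F'.ord
    rw [h, orderOf_one] at this
    norm_num at this
  have hsb5 : orderOf sb = 5 := by
    refine orderOf_eq_prime ?_ hsb1
    rw [hsb, ← map_pow, ← map_one (pib b)]
    exact congrArg (pib b) (Subtype.ext hb'5)
  have hsbC : sb ∈ centralizer ({F.zbar} : Set (↥(Hb b) ⧸ Zb b)) := F.bar_comm hb'
  set Cs := centralizer ({sb} : Set (↥(Hb b) ⧸ Zb b)) with hCs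
  have hsS : HJType.SType F.zbar sb := ⟨hsb5, F.zbar, IsConj.refl _, (S.comm_z hsbC).symm⟩
  obtain ⟨t0, h0, B0, n0, b0, Fr⟩ := S.exists_frame
  have hCs50 : Nat.card ↥Cs = 50 := Fr.stype_card hsS
  set M := Cs.comap (pib b) with hM
  have hMc : ∀ x : ↥(Hb b), x ∈ M → x * Bp * x⁻¹ * Bp⁻¹ ∈ Zb b := fun x hx => by
    rw [← QuotientGroup.eq_one_iff]
    show pib b (x * Bp * x⁻¹ * Bp⁻¹) = 1
    have h : pib b x * sb = sb * pib b x := mem_centralizer_singleton_iff.1 hx
    rw [map_mul, map_mul, map_mul, map_inv, map_inv, ← hsb, h, mul_inv_cancel_right, mul_inv_cancel]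
  let κ : ↥M →* ↥(Zb b) := MonoidHom.mk' (fun x => ⟨(x : ↥(Hb b)) * Bp * (x : ↥(Hb b))⁻¹ * Bp⁻¹, hMc x x.2⟩) fun a c =>
    Subtype.ext (by
      show (a : ↥(Hb b)) * c * Bp * ((a : ↥(Hb b)) * c)⁻¹ * Bp⁻¹ = a * Bp * (a : ↥(Hb b))⁻¹ * Bp⁻¹ * (c * Bp * (c : ↥(Hb b))⁻¹ * Bp⁻¹)
      have e := Zb_central (a : ↥(Hb b)) (hMc c c.2)
      have e2 := Zb_central ((a : ↥(Hb b)) * Bp * (a : ↥(Hb b))⁻¹ * Bp⁻¹) (hMc c c.2)
      calc (a : ↥(Hb b)) * c * Bp * ((a : ↥(Hb b)) * c)⁻¹ * Bp⁻¹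
          = a * (c * Bp * (c : ↥(Hb b))⁻¹ * Bp⁻¹) * (Bp * (a : ↥(Hb b))⁻¹ * Bp⁻¹) := by group
        _ = (c * Bp * (c : ↥(Hb b))⁻¹ * Bp⁻¹) * (a * Bp * (a : ↥(Hb b))⁻¹ * Bp⁻¹) := by rw [e]; group
        _ = _ := e2.symm)
  -- `M` centralises `b'`
  let πM : ↥M →* ↥Cs := ((pib b).comp M.subtype).codRestrict Cs fun x => x.2
  have hπM : Function.Surjective πM := by
    rintro ⟨y, hy⟩
    obtain ⟨x, rfl⟩ := QuotientGroup.mk'_surjective (Zb b) y
    exact ⟨⟨x, hy⟩, rfl⟩
  have hκ : κ.ker = ⊤ := by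
    have hker : πM.ker ≤ κ.ker := by
      intro x hx
      have hxZ : (x : ↥(Hb b)) ∈ Zb b := pib_eq_one.1 (congrArg Subtype.val (MonoidHom.mem_ker.1 hx))
      refine MonoidHom.mem_ker.2 (Subtype.ext ?_)
      show (x : ↥(Hb b)) * Bp * (x : ↥(Hb b))⁻¹ * Bp⁻¹ = 1
      rw [← Zb_central Bp hxZ, mul_inv_cancel_right, mul_inv_cancel]
    have hd : κ.ker.index ∣ 5 := by
      rw [index_ker]
      refine (Subgroup.card_subgroup_dvd_card κ.range).trans ?_
      rw [Nat.card_congr (Subgroup.subgroupOfEquivOfLe (zpowers_le.2 (mem_centralizer_singleton_iff.2 rfl))).toEquiv,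
        Nat.card_zpowers, F.ord]
    rcases (Nat.dvd_prime Nat.prime_five).1 hd with e | e
    · exact index_eq_one.1 e
    exfalso
    set N := κ.ker.map πM
    have hNi : N.index = 5 := (index_map_eq _ hπM hker).trans e
    have hN10 : Nat.card ↥N = 10 := by
      have h := N.card_mul_index
      rw [hNi, hCs50] at h
      omega
    set L := (centralizer ({F.zbar} : Set (↥(Hb b) ⧸ Zb b))).subgroupOf Cs
    have hL10 : Nat.card ↥L = 10 := by
      rw [← S.five_cent_C hsbC hsb5]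
      exact Nat.card_congr
        { toFun := fun x => ⟨x.1.1, x.2, x.1.2⟩
          invFun := fun x => ⟨⟨x.1, x.2.2⟩, x.2.1⟩ }
    have hLN : L ≤ N := by
      rintro ⟨y, hy⟩ hy'
      obtain ⟨d, hd⟩ := F.barEquiv.surjective ⟨y, hy'⟩
      have hdy : pib b ⟨(d : G), F.dH d.2⟩ = y := congrArg Subtype.val hd
      have hdM : (⟨(d : G), F.dH d.2⟩ : ↥(Hb b)) ∈ M := by
        show pib b _ ∈ Cs
        rw [hdy]; exact hy
      refine ⟨⟨_, hdM⟩, MonoidHom.mem_ker.2 (Subtype.ext (Subtype.ext ?_)), Subtype.ext hdy⟩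
      show (d : G) * b' * (d : G)⁻¹ * b'⁻¹ = 1
      exact F.dGroup_zpowers (mul_mem (mul_mem (mul_mem d.2 hb') (inv_mem d.2)) (inv_mem hb')) (hMc _ hdM)
    have hLeq : L = N := Subgroup.eq_of_le_of_card_ge hLN (by rw [hN10, hL10])
    have hzsb : F.zbar ∈ Cs := mem_centralizer_singleton_iff.2 (S.comm_z hsbC).symm
    let zC : ↥Cs := ⟨F.zbar, hzsb⟩
    have hzN : zC ∈ L := mem_centralizer_singleton_iff.2 rfl
    have hNn : L.Normal := by rw [hLeq]; exact (MonoidHom.normal_ker κ).map πM hπM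
    have hidx : ((zpowers (⟨sb, mem_centralizer_singleton_iff.2 rfl⟩ : ↥Cs)).subgroupOf L).index = 2 := by
      have hsL : (⟨sb, mem_centralizer_singleton_iff.2 rfl⟩ : ↥Cs) ∈ L := hsbC
      have h := ((zpowers (⟨sb, mem_centralizer_singleton_iff.2 rfl⟩ : ↥Cs)).subgroupOf L).card_mul_index
      rw [Nat.card_congr (Subgroup.subgroupOfEquivOfLe (zpowers_le.2 hsL)).toEquiv, Nat.card_zpowers,
        Subgroup.orderOf_mk, hsb5, hL10] at h
      omega
    have hodd : ∀ w : ↥Cs, w ∈ L → w * w = 1 → w ∈ zpowers (⟨sb, mem_centralizer_singleton_iff.2 rfl⟩ : ↥Cs) → w = 1 := by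
      intro w _ hw hm
      have h1 := orderOf_dvd_of_mem_zpowers hm
      rw [show orderOf (⟨sb, mem_centralizer_singleton_iff.2 rfl⟩ : ↥Cs) = 5 from (Subgroup.orderOf_mk _ _).trans hsb5] at h1
      have h2 := orderOf_dvd_of_pow_eq_one (show w ^ 2 = 1 by rw [pow_two, hw])
      exact orderOf_eq_one_iff.1 (Nat.dvd_one.1 (Nat.dvd_gcd h2 h1))
    have hz2 : zC * zC = 1 := Subtype.ext S.zz
    have hz1 : zC ≠ 1 := fun e => S.z_ne (congrArg Subtype.val e)
    -- the involution of `L` is unique, so central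
    have hle : Cs ≤ centralizer ({F.zbar} : Set (↥(Hb b) ⧸ Zb b)) := by
      intro x hx
      set u : ↥Cs := ⟨x, hx⟩ * zC * ⟨x, hx⟩⁻¹ with hu
      have huL : u ∈ L := hNn.conj_mem _ hzN _
      have hu2 : u * u = 1 := by
        rw [hu, show (⟨x, hx⟩ : ↥Cs) * zC * ⟨x, hx⟩⁻¹ * (⟨x, hx⟩ * zC * ⟨x, hx⟩⁻¹) =
          ⟨x, hx⟩ * (zC * zC) * ⟨x, hx⟩⁻¹ by group, hz2]
        group
      have huC : u * zC = zC * u := Subtype.ext (mem_centralizer_singleton_iff.1 huL)
      have hu1 : u ≠ 1 := fun e => hz1 (conj_eq_one_iff.1 e)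
      have hnu : ∀ w : ↥Cs, w ∈ L → w * w = 1 → w ≠ 1 →
          ¬ w ∈ zpowers (⟨sb, mem_centralizer_singleton_iff.2 rfl⟩ : ↥Cs) := fun w hw h2 h1 hm => h1 (hodd w hw h2 hm)
      have hprod : u * zC ∈ zpowers (⟨sb, mem_centralizer_singleton_iff.2 rfl⟩ : ↥Cs) := by
        have := (Subgroup.mul_mem_iff_of_index_two hidx (a := ⟨u, huL⟩) (b := ⟨zC, hzN⟩)).2
          (iff_of_false (hnu u huL hu2 hu1) (hnu zC hzN hz2 hz1))
        exact this
      have h1 : u * zC = 1 := hodd _ (mul_mem huL hzN) (by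
        calc u * zC * (u * zC) = u * (zC * u) * zC := by group
          _ = u * (u * zC) * zC := by rw [huC]
          _ = (u * u) * (zC * zC) := by group
          _ = 1 := by rw [hu2, hz2, one_mul]) hprod
      have hzinv : zC⁻¹ = zC := inv_eq_of_mul_eq_one_right hz2
      have h2 : u = zC := by rw [eq_inv_of_mul_eq_one_left h1, hzinv]
      exact mem_centralizer_singleton_iff.2 (mul_inv_eq_iff_eq_mul.1 (congrArg Subtype.val h2))
    have := Subgroup.card_le_of_le (le_inf hle le_rfl)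
    rw [hCs50, hCs, S.five_cent_C hsbC hsb5] at this
    omega
  have hMb' : ∀ x : ↥(Hb b), x ∈ M → (x : G) * b' = b' * x := fun x hx => by
    have h : κ ⟨x, hx⟩ = 1 := MonoidHom.mem_ker.1 (hκ ▸ mem_top _)
    have h' : x * Bp * x⁻¹ * Bp⁻¹ = 1 := congrArg Subtype.val h
    exact congrArg Subtype.val (mul_inv_eq_iff_eq_mul.1 (mul_inv_eq_one.1 h'))
  -- an element not commuting with the image of `z`
  obtain ⟨y, hy, hyz⟩ : ∃ y ∈ Cs, y * F.zbar ≠ F.zbar * y := by
    by_contra h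
    push Not at h
    have := Subgroup.card_le_of_le (le_inf (fun y hy => mem_centralizer_singleton_iff.2 (h y hy)) le_rfl :
      Cs ≤ centralizer ({F.zbar} : Set (↥(Hb b) ⧸ Zb b)) ⊓ Cs)
    rw [hCs50, hCs, S.five_cent_C hsbC hsb5] at this
    omega
  obtain ⟨x, rfl⟩ := QuotientGroup.mk'_surjective (Zb b) y
  have hxb : (x : G) * b = b * x := mem_centralizer_singleton_iff.1 x.2
  have hxb' : (x : G) * b' = b' * x := hMb' x hy
  set f := z * (x : G) * z⁻¹ * (x : G)⁻¹ with hf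
  have hzinv : z⁻¹ = z := H.extra.inv_eq
  have hzf : z * f * z = f⁻¹ := by
    rw [hf, mul_inv_rev, mul_inv_rev, mul_inv_rev, inv_inv, inv_inv, hzinv,
      show z * (z * (x : G) * z * (x : G)⁻¹) * z = (z * z) * x * z * (x : G)⁻¹ * z by group, F.zz]
    group
  have hfb : f * b = b * f := ((((show Commute z b from F.bz.symm).mul_left hxb).mul_left
    (show Commute z b from F.bz.symm).inv_left).mul_left (Commute.inv_left hxb)).eq
  have hzb' : z * b' = b' * z := hb'.1.symm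
  have hfb' : f * b' = b' * f := ((((show Commute z b' from hzb').mul_left hxb').mul_left
    (show Commute z b' from hzb').inv_left).mul_left (Commute.inv_left hxb')).eq
  let fH : ↥(Hb b) := ⟨f, mem_centralizer_singleton_iff.2 hfb⟩
  set yf := pib b fH with hyf
  have hyf_eq : yf = F.zbar * pib b x * F.zbar⁻¹ * (pib b x)⁻¹ := by
    rw [zbar, ← map_inv, ← map_inv, ← map_mul, ← map_mul, ← map_mul]
    rfl
  have hyf1 : yf ≠ 1 := fun e => hyz (by
    rw [hyf_eq, mul_inv_eq_one, mul_inv_eq_iff_eq_mul] at e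
    exact e.symm)
  have hyfC : yf ∈ Cs := mem_centralizer_singleton_iff.2 (by
    rw [hyf, hsb, ← map_mul, ← map_mul]; exact congrArg (pib b) (Subtype.ext hfb'))
  obtain ⟨P, hsP⟩ := S.sylow_five_containing hsb5
  have hPC : (P : Subgroup _) ≤ Cs := S.le_cent_five P hsP
  have hPidx : ((P : Subgroup (↥(Hb b) ⧸ Zb b)).subgroupOf Cs).index = 2 := by
    have h := ((P : Subgroup (↥(Hb b) ⧸ Zb b)).subgroupOf Cs).card_mul_index
    rw [Nat.card_congr (Subgroup.subgroupOfEquivOfLe hPC).toEquiv, S.card_sylow_five P, hCs50] at h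
    omega
  have hyfP : yf ∈ (P : Subgroup (↥(Hb b) ⧸ Zb b)) := by
    have hn := Subgroup.normal_of_index_eq_two hPidx
    have hzC : F.zbar ∈ Cs := mem_centralizer_singleton_iff.2 (S.comm_z hsbC).symm
    set zC : ↥Cs := ⟨F.zbar, hzC⟩
    set xC : ↥Cs := ⟨pib b x, hy⟩
    have h : zC * xC * zC⁻¹ * xC⁻¹ ∈ (P : Subgroup (↥(Hb b) ⧸ Zb b)).subgroupOf Cs := by
      rw [Subgroup.mul_mem_iff_of_index_two hPidx, Subgroup.mul_mem_iff_of_index_two hPidx,
        Subgroup.mul_mem_iff_of_index_two hPidx, inv_mem_iff, inv_mem_iff]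
      tauto
    rw [hyf_eq]
    exact h
  have hzyf : F.zbar * yf * F.zbar = yf⁻¹ := by
    rw [hyf, zbar, ← map_inv, ← map_mul, ← map_mul]
    exact congrArg (pib b) (Subtype.ext hzf)
  have hyf5 : yf ^ 5 = 1 := by
    have hd := orderOf_dvd_natCard (⟨yf, hyfP⟩ : ↥(P : Subgroup (↥(Hb b) ⧸ Zb b)))
    rw [S.card_sylow_five P, Subgroup.orderOf_mk, show (25 : ℕ) = 5 ^ 2 from rfl,
      Nat.dvd_prime_pow Nat.prime_five] at hd
    obtain ⟨k, hk, hko⟩ := hd
    by_contra hne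
    have hk2 : k = 2 := by
      by_contra hk2
      refine hne (orderOf_dvd_iff_pow_eq_one.1 ?_)
      rw [hko]
      exact (pow_dvd_pow 5 (show k ≤ 1 by omega)).trans (by norm_num)
    have hPy : zpowers yf = (P : Subgroup (↥(Hb b) ⧸ Zb b)) := Subgroup.eq_of_le_of_card_ge (zpowers_le.2 hyfP)
      (by rw [S.card_sylow_five P, Nat.card_zpowers, hko, hk2]; norm_num)
    obtain ⟨i, hi⟩ := mem_zpowers_iff.1 (show sb ∈ zpowers yf from hPy ▸ hsP)
    have e : F.zbar * yf ^ i * F.zbar⁻¹ = (F.zbar * yf * F.zbar⁻¹) ^ i := (conj_zpow).symm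
    rw [S.z_inv, hzyf, inv_zpow, hi, (S.comm_z hsbC).symm, mul_assoc, S.zz, mul_one] at e
    have h2 : sb ^ 2 = 1 := by rw [pow_two]; nth_rewrite 1 [e]; rw [inv_mul_cancel]
    have := orderOf_dvd_of_pow_eq_one h2
    rw [hsb5] at this
    norm_num at this
  have hf5 : f ^ 5 = 1 := by
    have hm : f ^ 5 ∈ zpowers b := by
      rw [hyf, ← map_pow] at hyf5
      simpa using pib_eq_one.1 hyf5
    obtain ⟨i, hi⟩ := mem_zpowers_iff.1 hm
    have hc : Commute z (f ^ 5) := hi ▸ (show Commute z b from F.bz.symm).zpow_right i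
    have e : z * f ^ 5 * z⁻¹ = (z * f * z⁻¹) ^ 5 := (conj_pow).symm
    rw [hzinv, hzf, hc.eq, mul_assoc, F.zz, mul_one, inv_pow] at e
    have h2 : (f ^ 5) ^ 2 = 1 := by rw [pow_two]; nth_rewrite 1 [e]; rw [inv_mul_cancel]
    have h5 : (f ^ 5) ^ 5 = 1 := by
      rw [← hi, ← zpow_natCast, ← zpow_mul, mul_comm, zpow_mul, zpow_natCast, F.b5pow, one_zpow]
    exact orderOf_eq_one_iff.1 (Nat.dvd_one.1 (Nat.dvd_gcd (orderOf_dvd_of_pow_eq_one h2) (orderOf_dvd_of_pow_eq_one h5)))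
  have hf1 : f ≠ 1 := fun e => hyf1 (by rw [hyf, show fH = 1 from Subtype.ext e, map_one])
  refine ⟨f, orderOf_eq_prime hf5 hf1, hzf, hfb, hfb', ⟨x, hxb, hxb', hf⟩, ?_⟩
  -- the preimage of the Sylow subgroup is commutative
  rintro ⟨β, hβd, hβ⟩
  have hβc : β ∈ center ↥(Hb b) := mem_center_iff.2 fun g => Subtype.ext (by
    show (g : G) * β = β * g
    rw [show (β : G) = b from hβ]
    exact mem_centralizer_singleton_iff.1 g.2)
  let gens : Set ↥(Hb b) := {β, Bp, fH}
  set A := closure gens with hA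
  have hAA : A ≤ centralizer (A : Set ↥(Hb b)) := by
    have hc : ∀ u ∈ gens, ∀ v ∈ gens, u * v = v * u := by
      intro u hu v hv
      have e1 : Bp * fH = fH * Bp := Subtype.ext hfb'.symm
      simp only [gens, Set.mem_insert_iff, Set.mem_singleton_iff] at hu hv
      rcases hu with rfl | rfl | rfl <;> rcases hv with rfl | rfl | rfl <;>
        first | rfl | exact mem_center_iff.1 hβc _ | exact (mem_center_iff.1 hβc _).symm | exact e1 | exact e1.symm
    rw [hA, closure_le, centralizer_closure]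
    exact fun u hu => mem_centralizer_iff.2 fun v hv => hc v hv u hu
  have hβA : β ∈ A := subset_closure (by simp [gens])
  have hZA : Zb b ≤ A := fun w hw => by
    obtain ⟨i, hi⟩ := mem_zpowers_iff.1 hw
    have : w = β ^ i := Subtype.ext (by
      rw [Subgroup.coe_zpow, show (β : G) = b from hβ]
      exact hi.symm)
    rw [this]; exact zpow_mem hβA i
  have hAP : A.map (pib b) = (P : Subgroup (↥(Hb b) ⧸ Zb b)) := by
    have hle : A.map (pib b) ≤ (P : Subgroup (↥(Hb b) ⧸ Zb b)) := by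
      rw [map_le_iff_le_comap, hA, closure_le]
      intro u hu
      simp only [gens, Set.mem_insert_iff, Set.mem_singleton_iff] at hu
      rcases hu with rfl | rfl | rfl
      · show pib b u ∈ (P : Subgroup (↥(Hb b) ⧸ Zb b))
        rw [pib_eq_one.2 (show (u : G) ∈ zpowers b by rw [show (u : G) = b from hβ]; exact mem_zpowers b)]
        exact one_mem _
      · exact hsP
      · exact hyfP
    have hd := Subgroup.card_dvd_of_le hle
    rw [S.card_sylow_five P, show (25 : ℕ) = 5 ^ 2 from rfl, Nat.dvd_prime_pow Nat.prime_five] at hd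
    obtain ⟨k, hk, hkc⟩ := hd
    refine Subgroup.eq_of_le_of_card_ge hle ?_
    rw [S.card_sylow_five P, hkc]
    by_contra hlt
    have hk1 : k ≤ 1 := by
      by_contra hk1
      obtain rfl : k = 2 := by omega
      norm_num at hlt
    have hzs : zpowers sb = A.map (pib b) := by
      refine Subgroup.eq_of_le_of_card_ge (zpowers_le.2 ⟨Bp, subset_closure (by simp [gens]), rfl⟩) ?_
      rw [hkc, Nat.card_zpowers, hsb5]
      exact (Nat.pow_le_pow_right (show 0 < 5 by norm_num) hk1).trans_eq (pow_one 5)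
    obtain ⟨i, hi⟩ := mem_zpowers_iff.1
      (show yf ∈ zpowers sb from hzs ▸ ⟨fH, subset_closure (by simp [gens]), rfl⟩)
    have hc : F.zbar * yf = yf * F.zbar := hi ▸ ((show Commute F.zbar sb from (S.comm_z hsbC).symm).zpow_right i).eq
    rw [hc, mul_assoc, S.zz, mul_one] at hzyf
    have h2 : yf ^ 2 = 1 := by rw [pow_two]; nth_rewrite 1 [hzyf]; rw [inv_mul_cancel]
    have h2' := orderOf_dvd_of_pow_eq_one h2
    rw [orderOf_eq_prime hyf5 hyf1] at h2'
    norm_num at h2'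
  have hAc : Nat.card ↥A = 125 := by
    let ρ : ↥A →* ↥(Hb b) ⧸ Zb b := (pib b).comp A.subtype
    have hr : ρ.range = A.map (pib b) := by rw [MonoidHom.range_comp, Subgroup.range_subtype]
    have hk : Nat.card ↥ρ.ker = 5 := by
      rw [← F.ord, ← Nat.card_zpowers]
      refine (Nat.card_congr (Equiv.ofBijective (fun w : ↥ρ.ker => (⟨_, pib_eq_one.1 (MonoidHom.mem_ker.1 w.2)⟩ : ↥(zpowers b)))
        ⟨fun u v e => Subtype.ext (Subtype.ext (Subtype.ext (congrArg Subtype.val e :))), ?_⟩))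
      rintro ⟨w, hw⟩
      have hwH : w ∈ Hb b := zpowers_le.2 (mem_centralizer_singleton_iff.2 rfl) hw
      exact ⟨⟨⟨⟨w, hwH⟩, hZA hw⟩, MonoidHom.mem_ker.2 (pib_eq_one.2 hw)⟩, rfl⟩
    rw [Subgroup.card_eq_card_quotient_mul_card_subgroup ρ.ker, hk,
      Nat.card_congr (QuotientGroup.quotientKerEquivRange ρ).toEquiv, hr, hAP, S.card_sylow_five P]
  have hcard : Nat.card ↥(Hb b) = 5 ^ 3 * 24192 := by
    rw [Subgroup.card_eq_card_quotient_mul_card_subgroup (Zb b), S.order_eq,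
      Nat.card_congr (Subgroup.subgroupOfEquivOfLe (zpowers_le.2 (mem_centralizer_singleton_iff.2 rfl))).toEquiv,
      Nat.card_zpowers, F.ord]
    norm_num
  have hAp : IsPGroup 5 A := IsPGroup.of_card (n := 3) (by rw [hAc]; norm_num)
  obtain ⟨T, hT⟩ := hAp.exists_le_sylow
  have hTA : (T : Subgroup ↥(Hb b)) = A := (Subgroup.eq_of_le_of_card_ge hT (by
    rw [hAc, HJType.LocalGen.sylow_of_card hcard (by norm_num) T]; norm_num)).symm
  have h := Schur.center_commutator_sylow T hβc hβd (hT hβA)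
  rw [hTA, commutator_eq_bot_iff_le_centralizer.2 hAA, mem_bot] at h
  have hb1 : b = 1 := by rw [← show (β : G) = b from hβ, h]; rfl
  have := F.ord
  rw [hb1, orderOf_one] at this
  norm_num at this

omit F'

/-- The derived subgroup of the centralizer, inside `G`. -/
abbrev eGroup (_ : Five K b s t) : Subgroup G := (_root_.commutator ↥(Hb b)).map (Hb b).subtype

variable (S : HJType.Setting F.zbar F.barQ) (hbE : b ∉ F.eGroup)
include S

theorem simple_quot : IsSimpleGroup (↥(Hb b) ⧸ Zb b) ∧ ∃ u v : ↥(Hb b) ⧸ Zb b, u * v ≠ v * u := by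
  obtain ⟨e⟩ := S.isoJ2
  haveI := Icosian.isSimple_J2
  refine ⟨e.isSimpleGroup, ?_⟩
  obtain ⟨u, v, huv⟩ := Icosian.nonabelian_J2
  exact ⟨e.symm u, e.symm v, fun h => huv (by simpa using congrArg e h)⟩

theorem comm_surj : (_root_.commutator ↥(Hb b)).map (pib b) = ⊤ := by
  obtain ⟨hs, u, v, huv⟩ := F.simple_quot S
  have hn : ((_root_.commutator ↥(Hb b)).map (pib b)).Normal :=
    (inferInstance : (_root_.commutator ↥(Hb b)).Normal).map _ (QuotientGroup.mk'_surjective _)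
  refine (IsSimpleGroup.eq_bot_or_eq_top_of_normal _ hn).resolve_left fun e => huv ?_
  obtain ⟨u, rfl⟩ := QuotientGroup.mk'_surjective (Zb b) u
  obtain ⟨v, rfl⟩ := QuotientGroup.mk'_surjective (Zb b) v
  have hm : pib b ⁅u, v⁆ ∈ (_root_.commutator ↥(Hb b)).map (pib b) :=
    ⟨_, commutator_mem_commutator (mem_top u) (mem_top v), rfl⟩
  rw [e, mem_bot, commutatorElement_def, map_mul, map_mul, map_mul, map_inv, map_inv, mul_inv_eq_one,
    mul_inv_eq_iff_eq_mul] at hm
  exact hm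

theorem exists_eGroup (c : ↥(Hb b)) : ∃ k : ℤ, (c : G) * b ^ k ∈ F.eGroup := by
  have h : pib b c ∈ (_root_.commutator ↥(Hb b)).map (pib b) := by rw [F.comm_surj S]; exact mem_top _
  obtain ⟨e, he, hec⟩ := h
  obtain ⟨k, hk⟩ := mem_zpowers_iff.1 (pib_eq hec.symm)
  exact ⟨k, by rw [hk, mul_inv_cancel_left]; exact ⟨e, he, rfl⟩⟩

include hbE

theorem eGroup_inter {c : G} (hc : c ∈ F.eGroup) (hcb : c ∈ zpowers b) : c = 1 := by
  by_contra hne
  have : Fact (Nat.Prime 5) := ⟨Nat.prime_five⟩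
  exact hbE (zpowers_le.2 hc (HJType.LocalGen.zpowers_eq_of_mem F.ord hcb hne ▸ mem_zpowers b))

theorem eGroup_le : F.eGroup ≤ Hb b := map_subtype_le _

theorem eGroup_inj {c d : G} (hc : c ∈ F.eGroup) (hd : d ∈ F.eGroup)
    (h : pib b ⟨c, F.eGroup_le S hbE hc⟩ = pib b ⟨d, F.eGroup_le S hbE hd⟩) : c = d :=
  inv_mul_eq_one.1 (F.eGroup_inter S hbE (mul_mem (inv_mem hc) hd) (pib_eq h))

theorem dGroup_le : F.dGroup ≤ F.eGroup := by
  intro d hd
  have H := F.hyp
  let ι : ↥F.dGroup →* ↥(Hb b) :=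
    MonoidHom.mk' (fun c => ⟨c, F.dH c.2⟩) fun a c => rfl
  have key : ∀ a : ↥(Hb b) ⧸ _root_.commutator ↥(Hb b), a ^ 5 = 1 := by
    intro a
    obtain ⟨c, rfl⟩ := QuotientGroup.mk'_surjective (_root_.commutator ↥(Hb b)) a
    obtain ⟨k, e, he, hek⟩ := F.exists_eGroup S c
    have hbH : b ∈ Hb b := mem_centralizer_singleton_iff.2 rfl
    have hce : c = e * (⟨b, hbH⟩ : ↥(Hb b)) ^ (-k) := Subtype.ext (by
      have hek' : (e : G) = (c : G) * b ^ k := hek
      rw [Subgroup.coe_mul, Subgroup.coe_zpow, hek', mul_assoc, ← zpow_add, add_neg_cancel, zpow_zero, mul_one])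
    rw [hce, map_mul, show QuotientGroup.mk' (_root_.commutator ↥(Hb b)) e = 1 from (QuotientGroup.eq_one_iff e).2 he,
      one_mul, ← map_pow, ← zpow_natCast, ← zpow_mul, mul_comm (-k), zpow_mul, zpow_natCast,
      show (⟨b, hbH⟩ : ↥(Hb b)) ^ 5 = 1 from Subtype.ext F.b5pow, one_zpow, map_one]
  have h := F.hom_trivial (A := ↥(Hb b) ⧸ _root_.commutator ↥(Hb b)) (fun a ha => by
      rw [← orderOf_eq_one_iff]
      exact Nat.dvd_one.1 (Nat.dvd_gcd (orderOf_dvd_of_pow_eq_one ha) (orderOf_dvd_of_pow_eq_one (key a))))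
    ((QuotientGroup.mk' _).comp ι) (fun c hc => by
      set a := (QuotientGroup.mk' (_root_.commutator ↥(Hb b))).comp ι c
      have h4 : a ^ 4 = 1 := by
        rw [← map_pow, show c ^ 4 = 1 from Subtype.ext (H.five_four hc), map_one]
      rw [← orderOf_eq_one_iff]
      exact Nat.dvd_one.1 (Nat.dvd_gcd (orderOf_dvd_of_pow_eq_one h4) (orderOf_dvd_of_pow_eq_one (key a)))) ⟨d, hd⟩
  exact ⟨ι ⟨d, hd⟩, (QuotientGroup.eq_one_iff _).1 h, rfl⟩

theorem eGroup_cent {c : G} (hc : c ∈ F.eGroup) (hcz : c * z = z * c) : c ∈ F.dGroup := by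
  have hcb : c * b = b * c := mem_centralizer_singleton_iff.1 (F.eGroup_le S hbE hc)
  obtain ⟨k, hk⟩ := F.exists_split hcz hcb
  have hbk : (b ^ k)⁻¹ ∈ F.eGroup := by
    have := mul_mem (F.dGroup_le S hbE hk) (inv_mem hc)
    rwa [mul_inv_cancel_right] at this
  have h1 := F.eGroup_inter S hbE hbk (inv_mem (pow_mem (mem_zpowers b) k))
  rwa [h1, one_mul] at hk

/-- Commuting with `C_E(z)` and an inverted element of order five means centralising `E`. -/
theorem centralize_eGroup {c f : G} (hcD : ∀ d ∈ F.dGroup, c * d = d * c) (hfE : f ∈ F.eGroup) (hf5 : orderOf f = 5)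
    (hzf : z * f * z = f⁻¹) (hcf : c * f = f * c) {e : G} (he : e ∈ F.eGroup) : c * e = e * c := by
  set K0 := ((centralizer ({c} : Set G)).subgroupOf (Hb b) ⊓ _root_.commutator ↥(Hb b)).map (pib b) with hK0
  have hmem : ∀ {d : G} (hd : d ∈ F.eGroup), c * d = d * c → pib b ⟨d, F.eGroup_le S hbE hd⟩ ∈ K0 := by
    intro d hd hcd
    obtain ⟨d', hd', e'⟩ := hd
    exact ⟨d', ⟨mem_centralizer_singleton_iff.2 (by
      show (d' : G) * c = c * (d' : G)
      rw [show ((d' : ↥(Hb b)) : G) = d from e', hcd]), hd'⟩,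
      congrArg (pib b) (Subtype.ext e')⟩
  have htop : K0 = ⊤ := by
    refine S.eq_top_of_inverted (fun y hy => ?_) (hmem hfE hcf) ?_ ?_
    · obtain ⟨d, hd⟩ := F.barEquiv.surjective ⟨y, hy⟩
      rw [← show pib b ⟨(d : G), F.dH d.2⟩ = y from congrArg Subtype.val hd]
      exact hmem (F.dGroup_le S hbE d.2) (hcD d d.2)
    · have : Fact (Nat.Prime 5) := ⟨Nat.prime_five⟩
      refine orderOf_eq_prime ?_ fun e' => ?_
      · rw [← map_pow, ← map_one (pib b)]
        exact congrArg (pib b) (Subtype.ext (hf5 ▸ pow_orderOf_eq_one f))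
      · rw [F.eGroup_inter S hbE hfE (pib_eq_one.1 e'), orderOf_one] at hf5
        norm_num at hf5
    · rw [zbar, ← map_inv, ← map_mul, ← map_mul]
      exact congrArg (pib b) (Subtype.ext hzf)
  obtain ⟨d, ⟨hdc, hd⟩, hde⟩ : pib b ⟨e, F.eGroup_le S hbE he⟩ ∈ K0 := htop ▸ mem_top _
  have hde' := F.eGroup_inj S hbE (c := (d : G)) ⟨d, hd, rfl⟩ he hde
  rw [← hde']
  exact (mem_centralizer_singleton_iff.1 hdc).symm

/-- The layer of `C(b)`. -/
theorem layer_eq : Cfsg.layer ↥(Hb b) = _root_.commutator ↥(Hb b) ∧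
    Cfsg.Spor.IsoJ2 ↥(_root_.commutator ↥(Hb b)) := by
  set E := _root_.commutator ↥(Hb b) with hE
  have hbij : Function.Bijective ((pib b).comp E.subtype) := by
    constructor
    · intro u v h
      exact Subtype.ext (Subtype.ext (F.eGroup_inj S hbE (c := ((u : ↥(Hb b)) : G)) ⟨u, u.2, rfl⟩ ⟨v, v.2, rfl⟩ h))
    · intro y
      have hy : y ∈ E.map (pib b) := by rw [hE, F.comm_surj S]; exact mem_top _
      obtain ⟨e, he, rfl⟩ := hy
      exact ⟨⟨e, he⟩, rfl⟩
  let eq := MulEquiv.ofBijective _ hbij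
  obtain ⟨hs, u, v, huv⟩ := F.simple_quot S
  haveI hsE : IsSimpleGroup ↥E := eq.isSimpleGroup
  have hperf : _root_.commutator ↥E = ⊤ := by
    refine (IsSimpleGroup.eq_bot_or_eq_top_of_normal _ inferInstance).resolve_left fun e => huv ?_
    obtain ⟨u, rfl⟩ := eq.surjective u
    obtain ⟨v, rfl⟩ := eq.surjective v
    have hm : ⁅u, v⁆ ∈ _root_.commutator ↥E := commutator_mem_commutator (mem_top u) (mem_top v)
    rw [e, mem_bot, commutatorElement_eq_one_iff_mul_comm] at hm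
    rw [← map_mul, hm, map_mul]
  have hcomp : Cfsg.IsComponent E :=
    ⟨(inferInstance : E.Normal).isSubnormal, Components.isQuasisimple_of_normal hperf fun N hN hne => by
      rw [(IsSimpleGroup.eq_bot_or_eq_top_of_normal N hN).resolve_right hne]; exact bot_le⟩
  refine ⟨le_antisymm ?_ (Components.component_le_layer hcomp), ?_⟩
  · rw [← Components.commutator_layer_self, hE]
    exact commutator_mono le_top le_top
  · obtain ⟨f⟩ := S.isoJ2
    exact ⟨eq.trans f⟩

omit hbE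

/-- The centralizer of the layer of `C(b)`. -/
theorem centralizer_eGroup (hb' : b' ∈ F.dGroup) (F' : Five K b' t s) (S' : HJType.Setting F'.zbar F'.barQ) :
    b ∉ F.eGroup ∧ Nonempty (↥(centralizer (F.eGroup : Set G)) ≃* HJType.A5) := by
  classical
  have H := F.hyp
  have hbF' : b ∈ F'.dGroup := F.partner_mem F' hb'
  obtain ⟨f, hf5, hzf, hfb, hfb', ⟨x, hxb, hxb', hfx⟩, hbE⟩ := F.exists_f F' hb' S
  obtain ⟨-, -, -, -, -, -, hbE'⟩ := F'.exists_f F hbF' S'
  refine ⟨hbE, ?_⟩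
  have hcomm : ∀ {a : G}, z * a = a * z → x * a = a * x → f ∈ (_root_.commutator ↥(Hb a)).map (Hb a).subtype := by
    intro a hza hxa
    refine ⟨⁅(⟨z, mem_centralizer_singleton_iff.2 hza⟩ : ↥(Hb a)), ⟨x, mem_centralizer_singleton_iff.2 hxa⟩⁆,
      commutator_mem_commutator (mem_top _) (mem_top _), ?_⟩
    rw [hfx]; rfl
  have hfE : f ∈ F.eGroup := hcomm F.bz.symm hxb
  have hfE' : f ∈ F'.eGroup := hcomm F'.bz.symm hxb'
  -- the subgroup
  set J := F'.dGroup ⊓ centralizer ({f} : Set G) with hJ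
  have hCE : centralizer (F.eGroup : Set G) = J := by
    refine le_antisymm (fun c hc => ?_) fun c hc => ?_
    · have hE : ∀ {e}, e ∈ F.eGroup → c * e = e * c := fun {e} he => (mem_centralizer_iff.1 hc e he).symm
      have hD : ∀ {d}, d ∈ F.dGroup → c * d = d * c := fun {d} hd => hE (F.dGroup_le S hbE hd)
      have hcz : c * z = z * c := hD (F.fix_mem H.extra.z_mem F.bz.symm)
      refine mem_inf.2 ⟨⟨hcz, hD hb', fun i => ?_⟩, mem_centralizer_singleton_iff.2 (hE hfE)⟩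
      have hq : K.lift (s i) ∈ Q := K.lift_mem _
      have hqD := F.fix_mem hq ((F.comm_b_iff' hq).2 ⟨Pi.single i 1, by rw [K.vec_lift, io_single]⟩)
      rw [← K.vec_lift (s i), K.act_vec H hcz hq, hD hqD, mul_inv_cancel_right]
    · obtain ⟨hcD', hcf⟩ := mem_inf.1 hc
      refine mem_centralizer_iff.2 fun e he => (F.centralize_eGroup S hbE (fun d hd => ?_) hfE hf5 hzf
        (mem_centralizer_singleton_iff.1 hcf) he).symm
      exact (F.groups_commute F' hd hcD').symm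
  -- identification in the quotient by the partner
  have hJle : ∀ {y}, y ∈ J → y ∈ Hb b' := fun {y} hy => F'.dH (mem_inf.1 hy).1
  set sb := pib b' ⟨b, F'.dH hbF'⟩ with hsb
  set fb := pib b' ⟨f, mem_centralizer_singleton_iff.2 hfb'⟩ with hfb_def
  set K1 := centralizer ({F'.zbar} : Set (↥(Hb b') ⧸ Zb b')) ⊓ centralizer ({fb} : Set (↥(Hb b') ⧸ Zb b')) with hK1
  have : Fact (Nat.Prime 5) := ⟨Nat.prime_five⟩
  have hsb5 : orderOf sb = 5 := by
    refine orderOf_eq_prime ?_ fun e => ?_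
    · rw [hsb, ← map_pow, ← map_one (pib b')]
      exact congrArg (pib b') (Subtype.ext F.b5pow)
    · have h1 := F.ord
      rw [F'.dGroup_zpowers hbF' (pib_eq_one.1 e), orderOf_one] at h1
      norm_num at h1
  have hfb5 : orderOf fb = 5 := by
    refine orderOf_eq_prime ?_ fun e => ?_
    · rw [hfb_def, ← map_pow, ← map_one (pib b')]
      exact congrArg (pib b') (Subtype.ext (hf5 ▸ pow_orderOf_eq_one f))
    · have h1 := hf5
      rw [F'.eGroup_inter S' hbE' hfE' (pib_eq_one.1 e), orderOf_one] at h1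
      norm_num at h1
  obtain ⟨hK60, hKs⟩ := S'.pair_centralizer (F'.bar_comm hbF') hsb5 hfb5
    (by rw [hfb_def, ← map_mul, ← map_mul]; exact congrArg (pib b') (Subtype.ext hfb.symm))
    (by rw [hfb_def, zbar, ← map_inv, ← map_mul, ← map_mul]; exact congrArg (pib b') (Subtype.ext hzf))
  let ρ : ↥J →* ↥K1 := MonoidHom.mk' (fun y => ⟨pib b' ⟨y, hJle y.2⟩,
    F'.bar_comm (mem_inf.1 y.2).1, mem_centralizer_singleton_iff.2 (by
      rw [hfb_def, ← map_mul, ← map_mul]
      exact congrArg (pib b') (Subtype.ext (mem_centralizer_singleton_iff.1 (mem_inf.1 y.2).2)))⟩)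
    fun u v => Subtype.ext (map_mul (pib b') ⟨(u : G), hJle u.2⟩ ⟨(v : G), hJle v.2⟩)
  have hρ : Function.Bijective ρ := by
    constructor
    · intro u v h
      exact Subtype.ext (F'.bar_inj (mem_inf.1 u.2).1 (mem_inf.1 v.2).1 (congrArg Subtype.val h))
    · rintro ⟨y, hy1, hy2⟩
      obtain ⟨d, hd⟩ := F'.barEquiv.surjective ⟨y, hy1⟩
      have hdy : pib b' ⟨(d : G), F'.dH d.2⟩ = y := congrArg Subtype.val hd
      have hdE := F'.dGroup_le S' hbE' d.2
      have h := mem_centralizer_singleton_iff.1 hy2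
      rw [← hdy, hfb_def, ← map_mul, ← map_mul] at h
      exact ⟨⟨d, mem_inf.2 ⟨d.2, mem_centralizer_singleton_iff.2
        (F'.eGroup_inj S' hbE' (mul_mem hdE hfE') (mul_mem hfE' hdE) h)⟩⟩, Subtype.ext hdy⟩
  let eJ := MulEquiv.ofBijective ρ hρ
  have hJ60 : Nat.card ↥J = 60 := (Nat.card_congr eJ.toEquiv).trans hK60
  haveI : IsSimpleGroup ↥J := eJ.isSimpleGroup
  let φ : ↥J →* HJType.A5 := F'.psiA.comp (Subgroup.inclusion inf_le_left)
  have hφ : φ.ker = ⊥ := by
    refine (IsSimpleGroup.eq_bot_or_eq_top_of_normal _ (MonoidHom.normal_ker φ)).resolve_right fun e => ?_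
    obtain ⟨y, hy⟩ := exists_prime_orderOf_dvd_card' (G := ↥J) 5 (by rw [hJ60]; norm_num)
    have hm : y ∈ φ.ker := e ▸ mem_top y
    have h4 : y ^ 4 = 1 := Subtype.ext (H.five_four (F'.psiA_eq_one.1 (MonoidHom.mem_ker.1 hm)))
    have := orderOf_dvd_of_pow_eq_one h4
    rw [hy] at this
    norm_num at this
  have hφb : Function.Bijective φ := (Nat.bijective_iff_injective_and_card φ).2
    ⟨(MonoidHom.ker_eq_bot_iff φ).1 hφ, hJ60.trans HJType.a5_card.symm⟩
  exact ⟨(MulEquiv.subgroupCongr hCE).trans (MulEquiv.ofBijective φ hφb)⟩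

end Five

end CfsgLib.CoOneType
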